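import Cfsg.Agent.H3.Match
import Cfsg.Agent.S0782
import Cfsg.Agent.S0775

/-! Orders of `SU_n(q)` and `Sp_{2m}(q)`; membership in `SU_n(q)`. -/

set_option autoImplicit false

namespace CfH3

open Matrix

variable {F : Type*} [Field F] [Fintype F] {q : ℕ}

theorem mem_SU_of_cols (hF : Fintype.card F = q ^ 2) {n : ℕ} (g : SpecialLinearGroup (Fin n) F)
    (h : ∀ i j, ∑ k, g.1 k i * g.1 k j ^ q = if i = j then 1 else 0) : g ∈ Cfsg.SU n F q := by
  intro u v
  change ∑ k, (g.1 *ᵥ u) k * CfH2.frobQ hF ((g.1 *ᵥ v) k) = ∑ i, u i * CfH2.frobQ hF (v i)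
  simp only [mulVec, dotProduct, map_sum, map_mul, Finset.sum_mul_sum]
  rw [Finset.sum_comm]
  refine Finset.sum_congr rfl fun i _ => ?_
  rw [Finset.sum_comm]
  have h1 : ∀ j, ∑ k, g.1 k i * u i * (CfH2.frobQ hF (g.1 k j) * CfH2.frobQ hF (v j)) =
      u i * CfH2.frobQ hF (v j) * if i = j then 1 else 0 := fun j => by
    rw [← h, Finset.mul_sum]
    exact Finset.sum_congr rfl fun k _ => by rw [CfH2.frobQ_apply hF (g.1 k j)]; ring
  simp [h1]

theorem card_SU (hF : Fintype.card F = q ^ 2) {n : ℕ} (hn : 1 ≤ n) :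
    (q + 1) * Nat.card (Cfsg.SU n F q) = q ^ (n * (n - 1) / 2) *
      ∏ i ∈ Finset.range n, (if Even i then q ^ (i + 1) + 1 else q ^ (i + 1) - 1) := by
  have h := Cfsg.Agent.S0782.result hF n 0 hn (by omega) ⊥ (finrank_bot _ _)
    (by rintro u rfl v -; simp [Cfsg.hermForm])
  have h1 : Cfsg.stabilizing (Cfsg.slToMat n F) ((⊥ : Submodule F (Fin n → F)) : Set (Fin n → F)) =
      ⊤ := by
    rw [eq_top_iff]
    intro g _
    rw [CfH2.stabilizing_iff, CfH2.mem_stabS_iff_map, Submodule.map_bot]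
  rw [h1, Subgroup.top_subgroupOf, Subgroup.card_top] at h
  simpa using h

theorem card_Sp (hF : Fintype.card F = q) (m : ℕ) :
    Nat.card (symplecticGroup (Fin m) F) =
      q ^ (m ^ 2) * ∏ i ∈ Finset.range m, (q ^ (2 * (i + 1)) - 1) := by
  have h := Cfsg.Agent.S0775.result hF m 0 (by omega) ⊥ (finrank_bot _ _)
    (by rintro u rfl v -; simp [Cfsg.sympForm])
  have h1 : Cfsg.stabilizing (Cfsg.spToMat m F)
      ((⊥ : Submodule F (Fin m ⊕ Fin m → F)) : Set (Fin m ⊕ Fin m → F)) = ⊤ := by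
    rw [eq_top_iff]
    intro g _
    rw [CfH2.stabilizing_iff, CfH2.mem_stabS_iff_map, Submodule.map_bot]
  rw [h1, Subgroup.card_top] at h
  simpa using h

end CfH3
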