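import Cfsg.Agent.H3.E8d
set_option autoImplicit false
set_option maxRecDepth 100000
set_option Elab.async false
set_option linter.all false
namespace CfH3.T3
open CfH6 Cfsg.Lie CfH3.E8
theorem mem (x : ℕ) (hx : x < 11) (ys : List (ℕ × ℤ)) (h : red chevE8 PM ys (lget ms 0 x) = true) :
    evU sem ms ThB.il x ∈ chevE8.group (ZMod 3) := by
  haveI : Fact (Nat.Prime 3) := ⟨by norm_num⟩
  obtain ⟨g, hg, eg⟩ := red_mem (F := ZMod 3) chevE8 rfl (P := PM) (by decide +kernel) rfl e (fun _ => rfl)
    (fun _ => rfl) ys (Nat.eq_of_beq_eq_true (U.ok x hx)) h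
  rwa [show evU sem ms ThB.il x = g from Units.ext ((U.val x hx).trans eg.symm)]
theorem g0 : evU sem ms ThB.il 0 ∈ chevE8.group (ZMod 3) := mem 0 (by decide)
  [(120, 1), (119, -1), (120, -1), (119, -1), (120, 1), (161, 1), (78, -1), (161, -1), (78, -1), (161, 1)] (by decide +kernel)
theorem g1 : evU sem ms ThB.il 1 ∈ chevE8.group (ZMod 3) := mem 1 (by decide)
  [(120, -1), (122, 1), (129, 1), (134, 1), (140, -1), (146, 1), (168, -1), (155, -1), (158, 1), (177, 1), (187, 1), (161, -1), (182, 1), (190, -1), (183, -1), (192, 1), (206, 1), (199, -1), (201, 1), (202, 1), (209, 1), (211, -1), (203, -1), (216, -1), (220, -1), (217, 1), (221, -1), (218, -1), (228, -1), (223, 1), (229, 1), (224, 1), (230, 1), (225, -1), (231, 1), (232, -1), (236, 1), (237, 1), (238, -1), (239, 1), (0, 1), (239, -1), (0, 1), (121, 1), (133, 1), (150, -1), (167, -1), (154, 1), (172, 1), (176, -1), (159, -1), (179, 1), (186, 1), (181, 1), (191, 1), (195, -1), (205, -1), (207, 1), (210, -1), (214, -1), (219, 1), (226, 1), (13, 1),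 (226, -1), (13, 1), (80, 1), (159, -1), (80, 1), (118, 1), (121, -1), (118, 1), (163, -1), (164, 1), (170, 1), (174, -1), (175, -1), (184, 1), (185, -1), (188, -1), (194, -1), (35, 1), (204, -1), (35, 1), (73, 1), (166, -1), (73, 1), (142, 1), (143, 1), (147, 1), (148, -1), (169, -1), (152, -1), (170, -1), (174, 1), (55, 1), (184, -1), (55, 1), (96, 1), (143, -1), (96, 1), (136, 1), (163, 1), (147, 1), (164, -1), (169, 1), (70, 1), (169, -1), (70, 1), (103, 1), (136, -1), (103, 1), (141, 1), (162, 1), (163, 1), (76, 1), (163, -1), (76, 1), (98, 1), (141, -1), (98, 1), (162, 1), (77, 1), (162, -1), (77, 1), (120, 1), (121, -1), (130, -1), (135, -1), (141, -1), (162, 1), (122, 1), (127, 1), (136, -1), (128, -1), (132, -1), (143, 1), (147, 1), (164, 1), (138, -1), (148, 1), (165, 1), (169, -1), (149, 1), (152, -1), (166, -1), (140, 1), (146, -1), (153, -1), (167, -1), (171, -1), (151, 1), (154, 1), (156, -1), (184, 1), (155, 1), (157, 1), (173, -1), (178, -1), (159, -1), (177, 1), (186, -1), (188, 1), (160,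 -1), (180, 1), (181, 1), (189, -1), (161, 1), (182, -1), (190, 1), (195, -1), (204, -1), (183, 1), (192, -1), (196, 1), (197, 1), (205, -1), (193, 1), (206, -1), (207, 1), (201, -1), (208, -1), (210, -1), (202, 1), (209, 1), (211, 1), (214, -1), (203, -1), (212, 1), (215, 1), (219, -1), (213, -1), (220, -1), (217, 1), (227, 1), (228, -1), (223, -1), (229, 1), (224, 1), (230, -1), (231, -1), (232, 1), (233, 1), (236, 1), (238, -1)] (by decide +kernel)
theorem g2 : evU sem ms ThB.il 2 ∈ chevE8.group (ZMod 3) := mem 2 (by decide)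
  [(120, -1), (122, -1), (125, -1), (129, 1), (134, 1), (140, 1), (146, 1), (158, 1), (160, 1), (161, -1), (228, -1), (231, -1), (232, 1), (234, -1), (236, 1), (237, -1), (238, 1), (0, 1), (239, -1), (0, 1), (121, -1), (128, 1), (133, 1), (139, -1), (150, -1), (154, -1), (157, 1), (159, -1), (80, 1), (159, -1), (80, 1), (118, 1), (121, -1), (118, 1), (123, 1), (127, -1), (132, 1), (149, -1), (156, -1), (83, 1), (156, -1), (83, 1), (116, 1), (123, -1), (116, 1), (147, -1), (148, 1), (91, 1), (148, -1), (91, 1), (130, -1), (136, -1), (142, 1), (92, 1), (147, -1), (92, 1), (109, 1), (130, -1), (109, 1), (135, 1), (104, 1), (135, -1), (104, 1), (120, 1), (119, -1), (120, -1), (119, -1), (120, 1), (127, 1), (112, -1), (127, -1), (112, -1), (127, 1), (120, 1), (121, 1), (123, -1), (126, -1), (130, 1), (135, -1), (122, -1), (124, -1), (127, -1), (131, 1), (136, -1), (142, 1), (125, 1), (143, -1), (147, 1), (129, -1), (144, 1), (134, 1), (149, -1), (152, -1), (140, 1), (146, -1), (150, -1), (153, 1), (151, 1), (154,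 -1), (156, -1), (157, 1), (158, -1), (160, -1), (161, 1), (228, 1), (231, 1), (232, -1), (234, 1), (236, -1), (237, 1), (238, -1), (239, 1)] (by decide +kernel)
end CfH3.T3
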