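import Cfsg.Agent.OD.Pre
import Cfsg.Agent.H9.SylIn
/-! Bit matrices of size five and the centraliser of a transvection of `SL(5,2)`. -/
set_option autoImplicit false
set_option maxRecDepth 100000
open Subgroup CfH9
namespace CfH3.He

noncomputable def al (p : ℕ → Bool) (n : ℕ) : Bool := Nat.rec true (fun i ih => Bool.rec false ih (p i)) n
noncomputable def an (p : ℕ → Bool) (n : ℕ) : Bool := Nat.rec false (fun i ih => Bool.rec ih true (p i)) n
noncomputable def ct (p : ℕ → ℕ) (n : ℕ) : ℕ := Nat.rec 0 (fun i ih => Nat.add (p i) ih) n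
noncomputable def frc {α : Type} (x : ℕ) (k : ℕ → α) : α := Nat.rec (k 0) (fun y _ => k (Nat.succ y)) x

theorem frc_eq {α : Type} (x : ℕ) (k : ℕ → α) : frc x k = k x := by cases x <;> rfl

theorem al_iff {p : ℕ → Bool} {n : ℕ} : al p n = true ↔ ∀ i < n, p i = true := by
  induction n with
  | zero => simp [al]
  | succ n ih =>
    have : al p (n + 1) = (Bool.rec false (al p n) (p n) : Bool) := rfl
    rw [this, Nat.forall_lt_succ_right, ← ih]
    cases p n <;> simp

theorem an_iff {p : ℕ → Bool} {n : ℕ} : an p n = true ↔ ∃ i < n, p i = true := by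
  induction n with
  | zero => simp [an]
  | succ n ih =>
    have : an p (n + 1) = (Bool.rec (an p n) true (p n) : Bool) := rfl
    rw [this, Nat.exists_lt_succ_right, ← ih]
    cases p n <;> simp

theorem ct_eq (p : ℕ → ℕ) (n : ℕ) : ct p n = ∑ i ∈ Finset.range n, p i := by
  induction n with
  | zero => rfl
  | succ n ih =>
    have : ct p (n + 1) = p n + ct p n := rfl
    rw [this, ih, Finset.sum_range_succ, add_comm]

def tm (A B j : ℕ) : ℕ := Nat.mul (Nat.land (Nat.shiftRight A j) 1082401) (Nat.land (Nat.shiftRight B (5 * j)) 31)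

/-- the product of bit matrices -/
def bm (A B : ℕ) : ℕ := Nat.xor (Nat.xor (Nat.xor (Nat.xor (tm A B 0) (tm A B 1)) (tm A B 2)) (tm A B 3)) (tm A B 4)

def spr (m : ℕ) : ℕ := m % 2 + m / 2 % 2 * 32 + m / 4 % 2 * 1024 + m / 8 % 2 * 32768 + m / 16 % 2 * 1048576

theorem spr_spec : ∀ m < 32, ∀ r < 32, spr m * r < 2 ^ 25 ∧ ∀ i < 5, ∀ j < 5,
    (spr m * r).testBit (5 * i + j) = (m.testBit i && r.testBit j) := by decide +kernel

theorem spr_bit : ∀ m < 32, ∀ n < 21, (spr m).testBit n = (Nat.testBit 1082401 n && m.testBit (n / 5)) := by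
  decide +kernel

theorem land_spr (y : ℕ) : ∃ m < 32, y &&& 1082401 = spr m ∧ ∀ i < 5, m.testBit i = y.testBit (5 * i) := by
  have hm : Nat.ofBits (fun i : Fin 5 => y.testBit (5 * i)) < 32 := Nat.ofBits_lt_two_pow _
  have hb : ∀ i < 5, (Nat.ofBits (fun i : Fin 5 => y.testBit (5 * i))).testBit i = y.testBit (5 * i) :=
    fun i hi => Nat.testBit_ofBits_lt _ _ hi
  refine ⟨_, hm, Nat.eq_of_testBit_eq fun n => ?_, hb⟩
  by_cases hn : n < 21
  · rw [spr_bit _ hm n hn, hb _ (by omega), Nat.testBit_and]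
    have : ∀ n < 21, Nat.testBit 1082401 n = true → 5 * (n / 5) = n := by decide
    cases h : Nat.testBit 1082401 n
    · simp
    · rw [this n hn h]; simp
  · have h1 : Nat.testBit 1082401 n = false :=
      Nat.testBit_lt_two_pow (lt_of_lt_of_le (by norm_num) (Nat.pow_le_pow_right (by norm_num) (not_lt.1 hn)))
    have h2 : ∀ m < 32, spr m < 2 ^ 21 := by decide
    rw [Nat.testBit_and, h1, Nat.testBit_lt_two_pow (lt_of_lt_of_le (h2 _ hm)
      (Nat.pow_le_pow_right (by norm_num) (not_lt.1 hn)))]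
    simp

theorem tm_spec (A B k : ℕ) : tm A B k < 2 ^ 25 ∧ ∀ i < 5, ∀ j < 5,
    (tm A B k).testBit (5 * i + j) = (A.testBit (5 * i + k) && B.testBit (5 * k + j)) := by
  obtain ⟨m, hm, h1, h2⟩ := land_spr (A >>> k)
  have hr : (B >>> (5 * k)) &&& 31 < 32 := lt_of_le_of_lt Nat.and_le_right (by norm_num)
  have e : tm A B k = spr m * ((B >>> (5 * k)) &&& 31) := by rw [← h1]; rfl
  rw [e]
  refine ⟨(spr_spec m hm _ hr).1, fun i hi j hj => ?_⟩
  have : ∀ j < 5, Nat.testBit 31 j = true := by decide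
  rw [(spr_spec m hm _ hr).2 i hi j hj, h2 i hi, Nat.testBit_and, this j hj, Nat.testBit_shiftRight,
    Nat.testBit_shiftRight, add_comm k, Bool.and_true]

theorem bm_lt (A B : ℕ) : bm A B < 2 ^ 25 :=
  Nat.xor_lt_two_pow (Nat.xor_lt_two_pow (Nat.xor_lt_two_pow (Nat.xor_lt_two_pow (tm_spec _ _ _).1 (tm_spec _ _ _).1)
    (tm_spec _ _ _).1) (tm_spec _ _ _).1) (tm_spec _ _ _).1

abbrev M5 := Matrix (Fin 5) (Fin 5) (ZMod 2)

def sg : Fin 5 → ℕ := ![0, 4, 1, 2, 3]
def bz (b : Bool) : ZMod 2 := if b then 1 else 0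
def toM (c : ℕ) : M5 := Matrix.of fun i j => bz (c.testBit (5 * sg i + sg j))

theorem sg_lt : ∀ i, sg i < 5 := by decide

theorem toM_bm (A B : ℕ) : toM (bm A B) = toM A * toM B := by
  ext i j
  have e : ∀ n, (bm A B).testBit n = (((((tm A B 0).testBit n ^^ (tm A B 1).testBit n) ^^ (tm A B 2).testBit n) ^^
      (tm A B 3).testBit n) ^^ (tm A B 4).testBit n) := fun n => by
    rw [← Nat.testBit_xor, ← Nat.testBit_xor, ← Nat.testBit_xor, ← Nat.testBit_xor]; rfl
  have h := fun k => (tm_spec A B k).2 _ (sg_lt i) _ (sg_lt j)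
  simp only [toM, Matrix.mul_apply, Matrix.of_apply, Fin.sum_univ_five, e, h]
  have k : ∀ a0 a1 a2 a3 a4 b0 b1 b2 b3 b4 : Bool,
      bz (((((a0 && b0) ^^ (a1 && b1)) ^^ (a2 && b2)) ^^ (a3 && b3)) ^^ (a4 && b4)) =
      bz a0 * bz b0 + bz a4 * bz b4 + bz a1 * bz b1 + bz a2 * bz b2 + bz a3 * bz b3 := by decide
  exact k ..

theorem toM_inj {A B : ℕ} (hA : A < 2 ^ 25) (hB : B < 2 ^ 25) (h : toM A = toM B) : A = B := by
  refine Nat.eq_of_testBit_eq fun n => ?_
  by_cases hn : n < 25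
  · have h1 : ∀ n < 25, ∃ i j, n = 5 * sg i + sg j := by decide
    obtain ⟨i, j, rfl⟩ := h1 n hn
    have h2 := congrFun (congrFun h i) j
    have h3 : ∀ a b, bz a = bz b → a = b := by decide
    exact h3 _ _ h2
  · have := Nat.pow_le_pow_right (show 0 < 2 by norm_num) (not_lt.1 hn)
    rw [Nat.testBit_lt_two_pow (lt_of_lt_of_le hA this), Nat.testBit_lt_two_pow (lt_of_lt_of_le hB this)]

def gs : ℕ → Fin 5 := fun n => [0, 2, 3, 4, 1].getD n 0

def enc (M : M5) : ℕ := Nat.ofBits fun n : Fin 25 => decide (M (gs (n / 5)) (gs (n % 5)) = 1)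

theorem enc_lt (M : M5) : enc M < 2 ^ 25 := Nat.ofBits_lt_two_pow _

theorem toM_enc (M : M5) : toM (enc M) = M := by
  ext i j
  have h1 : ∀ i j, 5 * sg i + sg j < 25 ∧ gs ((5 * sg i + sg j) / 5) = i ∧ gs ((5 * sg i + sg j) % 5) = j := by decide
  have h2 : ∀ x : ZMod 2, bz (decide (x = 1)) = x := by decide
  simp only [toM, enc, Matrix.of_apply, Nat.testBit_ofBits_lt _ _ (h1 i j).1, (h1 i j).2, h2]

/-- identity -/
def cI : ℕ := 17043521
/-- the central transvection -/
def cZ : ℕ := 17043537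

theorem toM_I : toM cI = 1 := by decide +kernel
theorem toM_Z : toM cZ = Matrix.transvection 0 1 1 := by
  have : toM cZ = 1 + Matrix.of fun i j : Fin 5 => if 0 = i ∧ 1 = j then (1 : ZMod 2) else 0 := by decide +kernel
  exact this

def cd (i j k l : ℕ) : ℕ := 16777217 + 2 * i + 64 * j + 2048 * k + 65536 * l

def ind (j k l : ℕ) : Bool :=
  !(Nat.beq j 0 || Nat.beq k 0 || Nat.beq l 0 || Nat.beq j k || Nat.beq j l || Nat.beq k l || Nat.beq (Nat.xor j k) l)

def valB (c : ℕ) : Bool := Nat.blt c 33554432 && Nat.beq (c % 2) 1 && Nat.beq (c / 32 % 2) 0 && Nat.beq (c / 1024 % 2) 0 &&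
  Nat.beq (c / 32768 % 2) 0 && Nat.beq (c / 1048576) 16 && ind (c / 64 % 8) (c / 2048 % 8) (c / 65536 % 8)

/-- codes of elements of the centraliser -/
def val (c : ℕ) : Prop := valB c = true
instance (c : ℕ) : Decidable (val c) := inferInstanceAs (Decidable (_ = _))

noncomputable def allC (p : ℕ → Bool) : Bool :=
  al (fun j => al (fun k => al (fun l => !(ind (j % 8) (k % 8) (l % 8)) ||
    al (fun i => frc (cd i j k l) p) 16) 16) 16) 16
noncomputable def anyC (p : ℕ → Bool) : Bool :=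
  an (fun j => an (fun k => an (fun l => ind (j % 8) (k % 8) (l % 8) &&
    an (fun i => frc (cd i j k l) p) 16) 16) 16) 16
noncomputable def cntC (p : ℕ → Bool) : ℕ :=
  ct (fun j => ct (fun k => ct (fun l => cond (ind (j % 8) (k % 8) (l % 8))
    (ct (fun i => frc (cd i j k l) fun c => cond (p c) 1 0) 16) 0) 16) 16) 16

theorem val_iff {c : ℕ} : val c ↔ ∃ i < 16, ∃ j < 16, ∃ k < 16, ∃ l < 16,
    ind (j % 8) (k % 8) (l % 8) = true ∧ c = cd i j k l := by
  simp only [val, valB, Bool.and_eq_true, Nat.blt_eq, Nat.beq_eq, cd]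
  constructor
  · rintro ⟨⟨⟨⟨⟨⟨h1, h2⟩, h3⟩, h4⟩, h5⟩, h6⟩, h7⟩
    refine ⟨c / 2 % 16, by omega, c / 64 % 16, by omega, c / 2048 % 16, by omega, c / 65536 % 16, by omega, ?_, by omega⟩
    rwa [show c / 64 % 16 % 8 = c / 64 % 8 by omega, show c / 2048 % 16 % 8 = c / 2048 % 8 by omega,
      show c / 65536 % 16 % 8 = c / 65536 % 8 by omega]
  · rintro ⟨i, hi, j, hj, k, hk, l, hl, h, rfl⟩
    refine ⟨⟨⟨⟨⟨⟨by omega, by omega⟩, by omega⟩, by omega⟩, by omega⟩, by omega⟩, ?_⟩
    rwa [show (16777217 + 2 * i + 64 * j + 2048 * k + 65536 * l) / 64 % 8 = j % 8 by omega,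
      show (16777217 + 2 * i + 64 * j + 2048 * k + 65536 * l) / 2048 % 8 = k % 8 by omega,
      show (16777217 + 2 * i + 64 * j + 2048 * k + 65536 * l) / 65536 % 8 = l % 8 by omega]

theorem allC_sound {p : ℕ → Bool} (h : allC p = true) : ∀ c, val c → p c = true := by
  intro c hc
  obtain ⟨i, hi, j, hj, k, hk, l, hl, h1, rfl⟩ := val_iff.1 hc
  have := al_iff.1 (al_iff.1 (al_iff.1 h j hj) k hk) l hl
  rw [h1, Bool.not_true, Bool.false_or] at this
  exact (frc_eq _ _).symm.trans (al_iff.1 this i hi)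

theorem anyC_sound {p : ℕ → Bool} (h : anyC p = true) : ∃ c, val c ∧ p c = true := by
  obtain ⟨j, hj, h⟩ := an_iff.1 h
  obtain ⟨k, hk, h⟩ := an_iff.1 h
  obtain ⟨l, hl, h⟩ := an_iff.1 h
  rw [Bool.and_eq_true] at h
  obtain ⟨i, hi, h2⟩ := an_iff.1 h.2
  exact ⟨_, val_iff.2 ⟨i, hi, j, hj, k, hk, l, hl, h.1, rfl⟩, (frc_eq _ _).symm.trans h2⟩

theorem cntC_sound (p : ℕ → Bool) : {c | val c ∧ p c = true}.ncard = cntC p := by
  classical
  let R := Finset.range 16
  let f : ℕ × ℕ × ℕ × ℕ → ℕ := fun x => cd x.2.2.2 x.1 x.2.1 x.2.2.1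
  let F := (R ×ˢ R ×ˢ R ×ˢ R).filter fun x => ind (x.1 % 8) (x.2.1 % 8) (x.2.2.1 % 8) = true ∧ p (f x) = true
  have h1 : {c | val c ∧ p c = true} = ↑(F.image f) := by
    ext c
    simp only [Set.mem_setOf_eq, val_iff, Finset.coe_image, Set.mem_image, Finset.mem_coe, F, Finset.mem_filter,
      Finset.mem_product, R, Finset.mem_range, Prod.exists, f]
    constructor
    · rintro ⟨⟨i, hi, j, hj, k, hk, l, hl, h, rfl⟩, hp⟩
      exact ⟨j, k, l, i, ⟨⟨hj, hk, hl, hi⟩, h, hp⟩, rfl⟩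
    · rintro ⟨j, k, l, i, ⟨⟨hj, hk, hl, hi⟩, h, hp⟩, rfl⟩
      exact ⟨⟨i, hi, j, hj, k, hk, l, hl, h, rfl⟩, hp⟩
  rw [h1, Set.ncard_coe_finset, Finset.card_image_of_injOn]
  · simp only [F, Finset.card_filter, Finset.sum_product, cntC, ct_eq, frc_eq, f, R]
    refine Finset.sum_congr rfl fun j _ => Finset.sum_congr rfl fun k _ => Finset.sum_congr rfl fun l _ => ?_
    by_cases hi : ind (j % 8) (k % 8) (l % 8) = true
    · simp only [hi, true_and, cond_true]
      refine Finset.sum_congr rfl fun i _ => ?_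
      by_cases hp : p (cd i j k l) = true <;> simp [hp]
    · simp [hi]
  · rintro ⟨j, k, l, i⟩ hx ⟨j', k', l', i'⟩ hy h
    simp only [F, Finset.coe_filter, Finset.mem_product, R, Finset.mem_range, Set.mem_setOf_eq] at hx hy
    simp only [f, cd] at h
    simp only [Prod.mk.injEq]
    omega

theorem val.lt {c : ℕ} (h : val c) : c < 2 ^ 25 := by
  simp only [val, valB, Bool.and_eq_true, Nat.blt_eq] at h
  omega

noncomputable def pw (c n : ℕ) : ℕ := Nat.rec cI (fun _ ih => frc ih fun x => bm x c) n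

theorem toM_pw (c n : ℕ) : toM (pw c n) = toM c ^ n := by
  induction n with
  | zero => exact toM_I
  | succ n ih =>
    have : pw c (n + 1) = frc (pw c n) fun x => bm x c := rfl
    rw [this, frc_eq, toM_bm, ih, pow_succ]

theorem val_aux : allC (fun c => Nat.beq (bm c cZ) (bm cZ c) &&
    frc (pw c 7) fun x => frc (pw x 3) fun y => Nat.beq (pw y 8) cI) = true := by decide +kernel

theorem val_det {c : ℕ} (h : val c) : (toM c).det = 1 ∧ toM c * toM cZ = toM cZ * toM c := by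
  have := allC_sound val_aux c h
  simp only [frc_eq, Bool.and_eq_true, Nat.beq_eq] at this
  refine ⟨?_, by rw [← toM_bm, this.1, toM_bm]⟩
  have h2 := congrArg (fun x => (toM x).det) this.2
  simp only [toM_pw, toM_I, Matrix.det_pow, Matrix.det_one] at h2
  have : ∀ x : ZMod 2, ((x ^ 7) ^ 3) ^ 8 = 1 → x = 1 := by decide
  exact this _ h2

theorem ind_aux : al (fun j => al (fun k => al (fun l => ind (j % 8) (k % 8) (l % 8) ||
    an (fun v => al (fun i => Nat.beq (bm (2 * v + 2) (cd i j k l)) 0) 16) 15) 16) 16) 16 = true := by decide +kernel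

theorem bm_bit (A B : ℕ) {i j : ℕ} (hi : i < 5) (hj : j < 5) : (bm A B).testBit (5 * i + j) =
    (((((A.testBit (5 * i + 0) && B.testBit (5 * 0 + j)) ^^ (A.testBit (5 * i + 1) && B.testBit (5 * 1 + j))) ^^
      (A.testBit (5 * i + 2) && B.testBit (5 * 2 + j))) ^^ (A.testBit (5 * i + 3) && B.testBit (5 * 3 + j))) ^^
      (A.testBit (5 * i + 4) && B.testBit (5 * 4 + j))) := by
  have h := fun k => (tm_spec A B k).2 _ hi _ hj
  rw [← h, ← h, ← h, ← h, ← h, ← Nat.testBit_xor, ← Nat.testBit_xor, ← Nat.testBit_xor, ← Nat.testBit_xor]; rfl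

theorem val_of {c : ℕ} (hc : c < 2 ^ 25) (h1 : (toM c).det = 1) (h2 : toM c * toM cZ = toM cZ * toM c) : val c := by
  have e : bm c cZ = bm cZ c := toM_inj (bm_lt _ _) (bm_lt _ _) (by rw [toM_bm, toM_bm, h2])
  have hu : ∀ v < 32, v ≠ 0 → bm v c ≠ 0 := fun v hv h0 h => by
    have h3 : toM v * toM c = 0 := by rw [← toM_bm, h]; decide +kernel
    have h4 : toM v = 0 := by
      rw [← Matrix.mul_nonsing_inv_cancel_right (toM c) (toM v) (by rw [h1]; exact isUnit_one), h3, zero_mul]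
    exact h0 (toM_inj (by omega) (by norm_num) (h4.trans (by decide +kernel)))
  have hb : ∀ i < 5, ∀ j < 5, _ := fun i hi j hj => (bm_bit c cZ hi hj).symm.trans ((congrArg (fun x => x.testBit (5 * i + j)) e).trans
    (bm_bit cZ c hi hj))
  have hz : ∀ n < 25, cZ.testBit n = decide (n = 0 ∨ n = 4 ∨ n = 6 ∨ n = 12 ∨ n = 18 ∨ n = 24) := by decide
  have b1 := hb 1 (by omega) 4 (by omega)
  have b2 := hb 2 (by omega) 4 (by omega)
  have b3 := hb 3 (by omega) 4 (by omega)
  have b4 := hb 0 (by omega) 4 (by omega)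
  have c0 := hb 0 (by omega) 0 (by omega)
  have c1 := hb 0 (by omega) 1 (by omega)
  have c2 := hb 0 (by omega) 2 (by omega)
  have c3 := hb 0 (by omega) 3 (by omega)
  simp (disch := omega) only [hz] at b1 b2 b3 b4 c0 c1 c2 c3
  simp only [Nat.reduceMul, Nat.reduceAdd, Nat.reduceEqDiff, or_false, false_or, or_true, true_or, decide_true, decide_false,
    Bool.and_true, Bool.and_false, Bool.true_and, Bool.false_and, Bool.xor_false, Bool.false_xor, or_self] at b1 b2 b3 b4 c0 c1 c2 c3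
  have k1 : ∀ x y : Bool, (x ^^ y) = y → x = false := by decide
  have k2 : ∀ x y : Bool, x = (x ^^ y) → y = false := by decide
  have k3 : ∀ x y w : Bool, (x ^^ y) = (y ^^ w) → x = w := by decide
  replace b1 := k1 _ _ b1
  replace b2 := k1 _ _ b2
  replace b3 := k1 _ _ b3
  replace b4 := k3 _ _ _ b4
  replace c0 := k2 _ _ c0
  replace c1 := k2 _ _ c1
  replace c2 := k2 _ _ c2
  replace c3 := k2 _ _ c3
  have b5 : c.testBit 24 = true := by
    by_contra h
    rw [Bool.not_eq_true] at h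
    refine hu 16 (by omega) (by omega) (toM_inj (bm_lt _ _) (by norm_num) ?_)
    ext i j
    have h16 : ∀ i < 5, ∀ k < 4, Nat.testBit 16 (5 * i + k) = false := by decide
    have hj : c.testBit (5 * 4 + sg j) = false := by fin_cases j <;> assumption
    simp only [toM, Matrix.of_apply, bm_bit _ _ (sg_lt i) (sg_lt j)]
    rw [h16 _ (sg_lt i) 0 (by omega), h16 _ (sg_lt i) 1 (by omega), h16 _ (sg_lt i) 2 (by omega), h16 _ (sg_lt i) 3 (by omega), hj]
    simp
  rw [b5] at b4
  simp only [Nat.testBit_eq_decide_div_mod_eq, decide_eq_true_eq, decide_eq_false_iff_not] at b1 b2 b3 b4 b5 c0 c1 c2 c3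
  have hcd : c = cd (c / 2 % 16) (c / 64 % 16) (c / 2048 % 16) (c / 65536 % 16) := by unfold cd; omega
  refine val_iff.2 ⟨_, by omega, _, by omega, _, by omega, _, by omega, ?_, hcd⟩
  have := al_iff.1 (al_iff.1 (al_iff.1 ind_aux (c / 64 % 16) (by omega)) (c / 2048 % 16) (by omega)) (c / 65536 % 16) (by omega)
  rw [Bool.or_eq_true] at this
  refine this.resolve_right fun h => ?_
  obtain ⟨v, hv, h⟩ := an_iff.1 h
  have := al_iff.1 h (c / 2 % 16) (by omega)
  rw [← hcd, Nat.beq_eq] at this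
  exact hu _ (by omega) (by omega) this

theorem val.bm {a b : ℕ} (ha : val a) (hb : val b) : val (bm a b) := by
  refine val_of (bm_lt _ _) (by rw [toM_bm, Matrix.det_mul, (val_det ha).1, (val_det hb).1, mul_one]) ?_
  rw [toM_bm, mul_assoc, (val_det hb).2, ← mul_assoc, (val_det ha).2, mul_assoc]

theorem val_I : val cI := by decide
theorem val_Z : val cZ := by decide

theorem val.pw {c : ℕ} (h : val c) (n : ℕ) : val (pw c n) := by
  induction n with
  | zero => exact val_I
  | succ n ih =>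
    have : He.pw c (n + 1) = frc (He.pw c n) fun x => He.bm x c := rfl
    rw [this, frc_eq]; exact ih.bm h

theorem val.pow {c : ℕ} (h : val c) : toM c ^ 168 = 1 := by
  have := allC_sound val_aux c h
  simp only [frc_eq, Bool.and_eq_true, Nat.beq_eq] at this
  have h2 := congrArg toM this.2
  simp only [toM_pw, toM_I, ← pow_mul] at h2
  exact h2

/-! masks -/

def inM (M c : ℕ) : Bool := Nat.beq (Nat.lor (Nat.xor c cI) M) M

theorem inM_iff {M c : ℕ} : inM M c = true ↔ ∀ n, M.testBit n = false → c.testBit n = cI.testBit n := by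
  have : inM M c = true ↔ (c ^^^ cI) ||| M = M := by rw [inM, Nat.beq_eq]; rfl
  rw [this]
  constructor
  · intro h n hn
    have := congrArg (fun x => x.testBit n) h
    simp only [Nat.testBit_or, Nat.testBit_xor, hn] at this
    revert this; cases c.testBit n <;> cases cI.testBit n <;> simp
  · intro h
    refine Nat.eq_of_testBit_eq fun n => ?_
    rw [Nat.testBit_or, Nat.testBit_xor]
    cases hn : M.testBit n
    · rw [h n hn]; simp
    · simp

theorem inM_iff' {M c : ℕ} (hc : c < 2 ^ 25) : inM M c = true ↔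
    ∀ i j, M.testBit (5 * sg i + sg j) = false → (toM c - 1) i j = 0 := by
  have h3 : ∀ a b, bz a - bz b = 0 ↔ a = b := by decide
  rw [inM_iff, ← toM_I]
  simp only [toM, Matrix.sub_apply, Matrix.of_apply, h3]
  refine ⟨fun h i j => h _, fun h n hn => ?_⟩
  by_cases hn' : n < 25
  · have h1 : ∀ n < 25, ∃ i j, n = 5 * sg i + sg j := by decide
    obtain ⟨i, j, rfl⟩ := h1 n hn'
    exact h i j hn
  · have := Nat.pow_le_pow_right (show 0 < 2 by norm_num) (not_lt.1 hn')
    rw [Nat.testBit_lt_two_pow (lt_of_lt_of_le hc this), Nat.testBit_lt_two_pow (lt_of_lt_of_le val_I.lt this)]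

/-- transitive masks -/
def trM (M : ℕ) : Prop := ∀ i j k : Fin 5, M.testBit (5 * sg i + sg j) = false →
  M.testBit (5 * sg i + sg k) = false ∨ M.testBit (5 * sg k + sg j) = false
instance (M : ℕ) : Decidable (trM M) := by unfold trM; infer_instance

theorem inM_bm {M a b : ℕ} (hM : trM M) (ha : val a) (hb : val b) (h1 : inM M a = true) (h2 : inM M b = true) :
    inM M (bm a b) = true := by
  rw [inM_iff' ha.lt] at h1
  rw [inM_iff' hb.lt] at h2
  rw [inM_iff' (bm_lt _ _), toM_bm]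
  intro i j h
  have : toM a * toM b - 1 = (toM a - 1) + (toM b - 1) + (toM a - 1) * (toM b - 1) := by noncomm_ring
  rw [this, Matrix.add_apply, Matrix.add_apply, h1 i j h, h2 i j h, Matrix.mul_apply, Finset.sum_eq_zero, add_zero, add_zero]
  intro k _
  rcases hM i j k h with h | h
  · rw [h1 _ _ h, zero_mul]
  · rw [h2 _ _ h, mul_zero]

theorem inM_I (M : ℕ) : inM M cI = true := inM_iff.2 fun _ _ => rfl

theorem inM_pw {M a : ℕ} (hM : trM M) (ha : val a) (h1 : inM M a = true) (n : ℕ) : inM M (pw a n) = true := by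
  induction n with
  | zero => exact inM_I M
  | succ n ih =>
    have : He.pw a (n + 1) = frc (He.pw a n) fun x => He.bm x a := rfl
    rw [this, frc_eq]; exact inM_bm hM (ha.pw n) ha ih h1

def mk (l : List ℕ) : ℕ := l.foldr (fun i m => Nat.lor (2 ^ i) m) 0

noncomputable def alB (p : ℕ → Bool) (l : List ℕ) : ℕ → Bool :=
  List.rec p (fun i _ ih c => Bool.rec false (frc (Nat.xor c (2 ^ i)) ih) (ih c)) l
noncomputable def anB (p : ℕ → Bool) (l : List ℕ) : ℕ → Bool :=
  List.rec p (fun i _ ih c => Bool.rec (frc (Nat.xor c (2 ^ i)) ih) true (ih c)) l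

theorem mk_bit (i : ℕ) (l : List ℕ) (n : ℕ) : (mk (i :: l)).testBit n = (decide (i = n) || (mk l).testBit n) := by
  rw [← Nat.testBit_two_pow, ← Nat.testBit_or]; rfl

theorem alB_aux {p : ℕ → Bool} (l : List ℕ) : ∀ b, alB p l b = true → ∀ c,
    (∀ n, (mk l).testBit n = false → c.testBit n = b.testBit n) → p c = true := by
  induction l with
  | nil =>
    intro b h c hc
    rwa [Nat.eq_of_testBit_eq fun n => hc n (by simp [mk])]
  | cons i l ih =>
    intro b h c hc
    have e : alB p (i :: l) b = Bool.rec false (frc (b ^^^ (2 ^ i)) (alB p l)) (alB p l b) := rfl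
    rw [e, frc_eq] at h
    have h1 : alB p l b = true ∧ alB p l (b ^^^ 2 ^ i) = true := by revert h; cases alB p l b <;> simp
    by_cases hi : c.testBit i = b.testBit i
    · refine ih b h1.1 c fun n hn => ?_
      by_cases hn' : i = n
      · rw [← hn', hi]
      · exact hc n (by rw [mk_bit, hn]; simp [hn'])
    · refine ih _ h1.2 c fun n hn => ?_
      rw [Nat.testBit_xor, Nat.testBit_two_pow]
      by_cases hn' : i = n
      · subst hn'; revert hi; cases c.testBit i <;> cases b.testBit i <;> simp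
      · rw [hc n (by rw [mk_bit, hn]; simp [hn'])]; simp [hn']

theorem anB_aux {p : ℕ → Bool} (l : List ℕ) : ∀ b, anB p l b = true → ∃ c, p c = true ∧
    (∀ n, (mk l).testBit n = false → c.testBit n = b.testBit n) := by
  induction l with
  | nil => exact fun b h => ⟨b, h, fun _ _ => rfl⟩
  | cons i l ih =>
    intro b h
    have e : anB p (i :: l) b = Bool.rec (frc (b ^^^ (2 ^ i)) (anB p l)) true (anB p l b) := rfl
    rw [e, frc_eq] at h
    have h1 : anB p l b = true ∨ anB p l (b ^^^ 2 ^ i) = true := by revert h; cases anB p l b <;> simp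
    rcases h1 with h1 | h1
    · obtain ⟨c, h2, h3⟩ := ih b h1
      refine ⟨c, h2, fun n hn => h3 n ?_⟩
      rw [mk_bit, Bool.or_eq_false_iff] at hn; exact hn.2
    · obtain ⟨c, h2, h3⟩ := ih _ h1
      refine ⟨c, h2, fun n hn => ?_⟩
      rw [mk_bit, Bool.or_eq_false_iff] at hn
      rw [h3 n hn.2, Nat.testBit_xor, Nat.testBit_two_pow, hn.1]; simp

/-- all valid codes within a mask -/
noncomputable def allM (l : List ℕ) (p : ℕ → Bool) : Bool := alB (fun c => !(valB c) || p c) l cI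
noncomputable def anyM (l : List ℕ) (p : ℕ → Bool) : Bool := anB (fun c => valB c && p c) l cI

theorem allM_sound {l : List ℕ} {p : ℕ → Bool} (h : allM l p = true) {c : ℕ} (hc : val c) (h1 : inM (mk l) c = true) :
    p c = true := by
  have := alB_aux l cI h c (inM_iff.1 h1)
  rwa [show valB c = true from hc, Bool.not_true, Bool.false_or] at this

theorem anyM_sound {l : List ℕ} {p : ℕ → Bool} (h : anyM l p = true) : ∃ c, val c ∧ inM (mk l) c = true ∧ p c = true := by
  obtain ⟨c, h1, h2⟩ := anB_aux l cI h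
  rw [Bool.and_eq_true] at h1
  exact ⟨c, h1.1, inM_iff.2 h2, h1.2⟩

/-! the graph anti-automorphism -/

def pi5 : Equiv.Perm (Fin 5) := Equiv.swap 0 1 * Equiv.swap 2 4

def dl (c : ℕ) : ℕ := enc ((toM c).transpose.submatrix pi5 pi5)

theorem toM_dl (c : ℕ) : toM (dl c) = (toM c).transpose.submatrix pi5 pi5 := toM_enc _

theorem dl_bm (a b : ℕ) : dl (bm a b) = bm (dl b) (dl a) :=
  toM_inj (enc_lt _) (bm_lt _ _) (by
    rw [toM_bm, toM_dl, toM_dl, toM_dl, toM_bm, Matrix.transpose_mul, Matrix.submatrix_mul_equiv])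

theorem dl_dl {a : ℕ} (h : a < 2 ^ 25) : dl (dl a) = a :=
  toM_inj (enc_lt _) h (by
    rw [toM_dl, toM_dl]
    ext i j
    have : ∀ i, pi5 (pi5 i) = i := by decide
    simp [this])

theorem dl_Z : dl cZ = cZ := by decide +kernel

theorem val.dl {a : ℕ} (h : val a) : val (dl a) := by
  refine val_of (enc_lt _) ?_ ?_
  · rw [toM_dl, Matrix.det_submatrix_equiv_self, Matrix.det_transpose, (val_det h).1]
  · rw [← toM_bm, ← toM_bm, ← dl_Z, ← dl_bm, ← dl_bm, toM_dl, toM_dl, toM_bm, toM_bm, (val_det h).2]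

/-! models -/

variable {G : Type*} [Group G]

structure Mod (z : G) (φ : ℕ → G) : Prop where
  mul : ∀ {a b}, val a → val b → φ (bm a b) = φ a * φ b
  inj : ∀ {a b}, val a → val b → φ a = φ b → a = b
  sur : ∀ {g}, g * z = z * g → ∃ a, val a ∧ φ a = g
  hz : φ cZ = z

namespace Mod
variable {z : G} {φ : ℕ → G} (M : Mod z φ)
include M

theorem one : φ cI = 1 := by
  have := M.mul val_I val_I
  rw [show bm cI cI = cI by decide +kernel] at this
  exact mul_left_cancel (a := φ cI) (by rw [← this, mul_one])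

theorem com {a : ℕ} (h : val a) : φ a * z = z * φ a := by
  rw [← M.hz, ← M.mul h val_Z, ← M.mul val_Z h]
  congr 1
  exact toM_inj (bm_lt _ _) (bm_lt _ _) (by rw [toM_bm, toM_bm, (val_det h).2])

theorem pow {a : ℕ} (h : val a) (n : ℕ) : φ (pw a n) = φ a ^ n := by
  induction n with
  | zero => rw [pow_zero]; exact M.one
  | succ n ih =>
    have : He.pw a (n + 1) = frc (He.pw a n) fun x => He.bm x a := rfl
    rw [this, frc_eq, M.mul (h.pw n) h, ih, pow_succ]

theorem inv {a : ℕ} (h : val a) : φ (pw a 167) = (φ a)⁻¹ := by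
  refine eq_inv_of_mul_eq_one_left ?_
  rw [M.pow h, ← pow_succ, ← M.pow h, ← M.one]
  congr 1
  exact toM_inj (h.pw _).lt val_I.lt (by rw [toM_pw, h.pow, toM_I])

theorem eq_one {a : ℕ} (h : val a) : φ a = 1 ↔ a = cI := ⟨fun e => M.inj h val_I (e.trans M.one.symm), fun e => e ▸ M.one⟩

theorem mul_eq {a b c d : ℕ} (ha : val a) (hb : val b) (hc : val c) (hd : val d) :
    φ a * φ b = φ c * φ d ↔ bm a b = bm c d := by
  rw [← M.mul ha hb, ← M.mul hc hd]
  exact ⟨M.inj (ha.bm hb) (hc.bm hd), fun h => by rw [h]⟩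

theorem zz : z * z = 1 := by rw [← M.hz, ← M.mul val_Z val_Z, M.eq_one (val_Z.bm val_Z)]; decide +kernel
theorem z_ne : z ≠ 1 := by rw [← M.hz, Ne, M.eq_one val_Z]; decide

/-- the twisted model -/
theorem twist : Mod z fun c => (φ (dl c))⁻¹ where
  mul ha hb := by rw [dl_bm, M.mul hb.dl ha.dl, mul_inv_rev]
  inj ha hb h := by
    have := M.inj ha.dl hb.dl (inv_injective h)
    rw [← dl_dl ha.lt, this, dl_dl hb.lt]
  sur {g} h := by
    obtain ⟨a, ha, e⟩ := M.sur (g := g⁻¹) (by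
      rw [inv_mul_eq_iff_eq_mul, ← mul_assoc, h, mul_assoc, mul_inv_cancel, mul_one])
    exact ⟨dl a, ha.dl, by rw [dl_dl ha.lt, e, inv_inv]⟩
  hz := by rw [dl_Z, M.hz]; exact inv_eq_of_mul_eq_one_left M.zz

def sub (m : ℕ) (hm : trM m) : Subgroup G where
  carrier := {g | ∃ c, val c ∧ inM m c = true ∧ φ c = g}
  mul_mem' := by
    rintro _ _ ⟨a, ha, h1, rfl⟩ ⟨b, hb, h2, rfl⟩
    exact ⟨_, ha.bm hb, inM_bm hm ha hb h1 h2, M.mul ha hb⟩
  one_mem' := ⟨cI, val_I, inM_I _, M.one⟩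
  inv_mem' := by
    rintro _ ⟨a, ha, h1, rfl⟩
    exact ⟨_, ha.pw _, inM_pw hm ha h1 _, M.inv ha⟩

theorem mem_sub {m : ℕ} {hm : trM m} {g : G} : g ∈ M.sub m hm ↔ ∃ c, val c ∧ inM m c = true ∧ φ c = g := Iff.rfl

theorem mem_sub' {m : ℕ} {hm : trM m} {c : ℕ} (hc : val c) : φ c ∈ M.sub m hm ↔ inM m c = true :=
  ⟨fun ⟨_, h1, h2, h3⟩ => M.inj h1 hc h3 ▸ h2, fun h => ⟨c, hc, h, rfl⟩⟩

theorem ncard (p : ℕ → Bool) : {g | ∃ c, val c ∧ p c = true ∧ φ c = g}.ncard = cntC p := by
  rw [← cntC_sound, ← Set.ncard_image_of_injOn (f := φ) fun a ha b hb h => M.inj ha.1 hb.1 h]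
  congr 1
  ext g
  simp only [Set.mem_setOf_eq, Set.mem_image, and_assoc]

theorem card_of (H : Subgroup G) (p : ℕ → Bool) (h : ∀ g, g ∈ H ↔ ∃ c, val c ∧ p c = true ∧ φ c = g) :
    Nat.card H = cntC p := by
  rw [← M.ncard, ← Nat.card_coe_set_eq]
  exact Nat.card_congr (Equiv.subtypeEquivRight h)

end Mod

/-- a model from an isomorphism of the centraliser -/
theorem exists_mod {K : Type*} [Group K] (ι : K →* Matrix.SpecialLinearGroup (Fin 5) (ZMod 2)) (hι : Function.Injective ι)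
    (hr : ∀ s : Matrix.SpecialLinearGroup (Fin 5) (ZMod 2), s ∈ ι.range ↔ (s : M5) * toM cZ = toM cZ * s)
    (z : G) (hz : z ≠ 1) (e : Subgroup.centralizer ({z} : Set G) ≃* K) : ∃ φ, Mod z φ := by
  classical
  have h1 : ∀ c, val c → ∃ k, (ι k : M5) = toM c := fun c hc => by
    obtain ⟨k, hk⟩ := (hr ⟨toM c, (val_det hc).1⟩).2 (val_det hc).2
    exact ⟨k, by rw [hk]⟩
  choose! κ hκ using h1
  have hi : ∀ k k', (ι k : M5) = ι k' → k = k' := fun k k' h => hι (Subtype.ext h)
  have hv : ∀ k, val (enc (ι k)) := fun k => val_of (enc_lt _) (by rw [toM_enc]; exact (ι k).2)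
    (by rw [toM_enc]; exact (hr _).1 ⟨k, rfl⟩)
  have hm : ∀ {a b}, val a → val b → κ (bm a b) = κ a * κ b := fun {a b} ha hb => hi _ _ (by
    rw [map_mul, Matrix.SpecialLinearGroup.coe_mul, hκ _ ha, hκ _ hb, hκ _ (ha.bm hb), toM_bm])
  have hs : ∀ k, κ (enc (ι k)) = k := fun k => hi _ _ (by rw [hκ _ (hv k), toM_enc])
  have hzc : z ∈ Subgroup.centralizer ({z} : Set G) := mem_centralizer_singleton_iff.2 rfl
  refine ⟨fun c => (e.symm (κ c) : G), fun ha hb => by rw [hm ha hb, map_mul]; rfl, fun {a b} ha hb h => ?_,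
    fun {g} hg => ?_, ?_⟩
  · have := e.symm.injective (Subtype.ext h)
    exact toM_inj ha.lt hb.lt (by rw [← hκ _ ha, ← hκ _ hb, this])
  · exact ⟨_, hv (e ⟨g, mem_centralizer_singleton_iff.2 hg⟩), by rw [hs, e.symm_apply_apply]⟩
  · have hc : ∀ x, val x → bm (enc (ι (e ⟨z, hzc⟩))) x = bm x (enc (ι (e ⟨z, hzc⟩))) := fun x hx => by
      refine toM_inj (bm_lt _ _) (bm_lt _ _) ?_
      rw [toM_bm, toM_bm, toM_enc, ← hκ _ hx, ← Matrix.SpecialLinearGroup.coe_mul, ← Matrix.SpecialLinearGroup.coe_mul,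
        ← map_mul, ← map_mul, ← e.apply_symm_apply (κ x), ← map_mul, ← map_mul]
      congr 3
      exact Subtype.ext (mem_centralizer_singleton_iff.1 (e.symm (κ x)).2).symm
    have h3 : allC (fun c => !(Nat.beq (bm c 17043523) (bm 17043523 c) && Nat.beq (bm c 17043649) (bm 17043649 c) &&
      Nat.beq (bm c 17051713) (bm 17051713 c) && Nat.beq (bm c 17567809) (bm 17567809 c)) || Nat.beq c cI || Nat.beq c cZ) = true := by
      decide +kernel
    have h4 := allC_sound h3 _ (hv (e ⟨z, hzc⟩))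
    rw [hc _ (by decide), hc _ (by decide), hc _ (by decide), hc _ (by decide)] at h4
    simp only [Nat.beq_refl, Bool.and_self, Bool.not_true, Bool.false_or, Bool.or_eq_true, Nat.beq_eq] at h4
    rcases h4 with h4 | h4
    · exfalso
      have h5 : e ⟨z, hzc⟩ = 1 := hi _ _ (by rw [← toM_enc (ι _), h4, toM_I, map_one]; rfl)
      exact hz (congrArg Subtype.val (e.map_eq_one_iff.1 h5))
    · show (e.symm (κ cZ) : G) = z
      rw [← h4, hs, e.symm_apply_apply]

end CfH3.He
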