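import Cfsg.Agent.OD.Pre
import Cfsg.Agent.H9.SylIn
/-! Counting involutions with unique fixed points. -/
set_option autoImplicit false
open Subgroup CfH9
namespace CfH3.He

section
variable {X : Type*} [Group X]

theorem conj_pow_inv {x y : X} (hx : x * x = 1) (hy : y * y = 1) (n : ℕ) : x * (x * y) ^ n = ((x * y) ^ n)⁻¹ * x := by
  have hx' : x⁻¹ = x := inv_eq_of_mul_eq_one_left hx
  have hy' : y⁻¹ = y := inv_eq_of_mul_eq_one_left hy
  have : x * (x * y) * x⁻¹ = (x * y)⁻¹ := by rw [← mul_assoc, hx, one_mul, mul_inv_rev, hy']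
  rw [← inv_pow, ← this, conj_pow]
  group

theorem conj_pow_inv' {x y : X} (hx : x * x = 1) (hy : y * y = 1) (n : ℕ) :
    (x * y) ^ n * x * ((x * y) ^ n)⁻¹ = (x * y) ^ (2 * n) * x := by
  have := conj_pow_inv hx hy n
  have h2 : x * ((x * y) ^ n)⁻¹ = (x * y) ^ n * x := by
    rw [mul_inv_eq_iff_eq_mul, mul_assoc, this, mul_inv_cancel_left]
  rw [mul_assoc, h2, ← mul_assoc, ← pow_add, two_mul]

theorem dih_odd {x y : X} (hx : x * x = 1) (hy : y * y = 1) (ho : Odd (orderOf (x * y))) :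
    ∃ j, j * j = 1 ∧ IsConj x j ∧ j * x * j⁻¹ = y ∧ ∀ g, Commute g x → Commute g y → Commute g j := by
  obtain ⟨m, hm⟩ := ho
  have h1 : (x * y) ^ (2 * m + 1) = 1 := hm ▸ pow_orderOf_eq_one _
  have hx' : x⁻¹ = x := inv_eq_of_mul_eq_one_left hx
  refine ⟨(x * y) ^ m * x, ?_, isConj_iff.2 ⟨(x * y) ^ (m * (m + 1)), ?_⟩, ?_, fun g h1 h2 =>
    ((h1.mul_right h2).pow_right _).mul_right h1⟩
  · rw [mul_assoc, ← mul_assoc x, conj_pow_inv hx hy, mul_assoc, hx]; group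
  · rw [conj_pow_inv' hx hy, show 2 * (m * (m + 1)) = (2 * m + 1) * m + m by ring, pow_add, pow_mul, h1, one_pow, one_mul]
  · rw [mul_inv_rev, hx', mul_assoc ((x * y) ^ m) x x, hx, mul_one, ← mul_assoc, conj_pow_inv' hx hy]
    rw [pow_succ, ← mul_assoc, mul_eq_one_iff_eq_inv] at h1
    rw [h1]; exact inv_eq_of_mul_eq_one_left hy

theorem exists_inv_pow [Finite X] {r : X} (he : ¬ Odd (orderOf r)) : ∃ m, r ^ m ≠ 1 ∧ r ^ m * r ^ m = 1 := by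
  obtain ⟨m, hm⟩ := Nat.not_odd_iff_even.1 he
  have := orderOf_pos r
  exact ⟨m, pow_ne_one_of_lt_orderOf (by omega) (by omega), by rw [← pow_add, ← hm, pow_orderOf_eq_one]⟩

theorem dih_comm {x y : X} (hx : x * x = 1) (hy : y * y = 1) {m : ℕ} (h : (x * y) ^ m * (x * y) ^ m = 1) :
    Commute ((x * y) ^ m) x ∧ Commute ((x * y) ^ m) y := by
  have h1 : Commute ((x * y) ^ m) x := by
    have := conj_pow_inv hx hy m
    rw [inv_eq_of_mul_eq_one_left h] at this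
    exact this.symm
  refine ⟨h1, ?_⟩
  have h2 : Commute ((x * y) ^ m) (x * (x * y)) := h1.mul_right ((Commute.refl _).pow_left _)
  rwa [← mul_assoc x x y, hx, one_mul] at h2

theorem dih_cls {x y : X} (hx : x * x = 1) (hy : y * y = 1) (m : ℕ) :
    (Even m ∧ IsConj x ((x * y) ^ m * x)) ∨ (Odd m ∧ IsConj y ((x * y) ^ m * x)) := by
  rcases Nat.even_or_odd m with ⟨k, rfl⟩ | ⟨k, rfl⟩
  · exact Or.inl ⟨⟨k, rfl⟩, isConj_iff.2 ⟨(x * y) ^ k, by rw [conj_pow_inv' hx hy, two_mul]⟩⟩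
  · refine Or.inr ⟨⟨k, rfl⟩, isConj_iff.2 ⟨(x * y) ^ k * x, ?_⟩⟩
    have hx' : x⁻¹ = x := inv_eq_of_mul_eq_one_left hx
    have h1 : (x * y) ^ k * x * y * ((x * y) ^ k * x)⁻¹ = (x * y) * ((x * y) ^ k * x * ((x * y) ^ k)⁻¹) := by
      rw [mul_inv_rev, hx', mul_assoc ((x * y) ^ k) x y, ← pow_succ, pow_succ']; group
    rw [h1, conj_pow_inv' hx hy, ← mul_assoc, ← pow_succ']

theorem eq_one_of_odd_inv {k c : X} (hk : Odd (orderOf k)) (hc : Odd (orderOf c)) (h : k * c * k⁻¹ = c⁻¹) : c = 1 := by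
  have h1 : ∀ n, k ^ (2 * n) * c * (k ^ (2 * n))⁻¹ = c := by
    intro n
    induction n with
    | zero => simp
    | succ n ih =>
      have : k ^ (2 * (n + 1)) * c * (k ^ (2 * (n + 1)))⁻¹ = k * (k * (k ^ (2 * n) * c * (k ^ (2 * n))⁻¹) * k⁻¹) * k⁻¹ := by
        rw [show 2 * (n + 1) = 2 + 2 * n by ring, pow_add, pow_two]; group
      rw [this, ih, h, ← conj_inv, h, inv_inv]
  obtain ⟨n, hn⟩ := hk
  have h2 : k ^ (2 * n) = k⁻¹ := by rw [eq_inv_iff_mul_eq_one, ← pow_succ, ← hn, pow_orderOf_eq_one]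
  have h3 := h1 n
  rw [h2, inv_inv] at h3
  have h4 : c = c⁻¹ := by
    rw [← h]; nth_rewrite 2 [← h3]; group
  have h5 : c ^ 2 = 1 := by rw [pow_two]; nth_rewrite 1 [h4]; exact inv_mul_cancel c
  have := Nat.Coprime.eq_one_of_dvd (Nat.coprime_two_right.2 hc) (orderOf_dvd_of_pow_eq_one h5)
  exact orderOf_eq_one_iff.1 this

theorem cnt [Finite X] {Ω : Type*} [MulAction X Ω] (J : Set X) (fx : X → Ω)
    (hJ : ∀ j ∈ J, ∀ g, g * j * g⁻¹ ∈ J) (h2 : ∀ j ∈ J, j * j = 1)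
    (hU : ∀ j ∈ J, ∀ a, j • a = a ↔ a = fx j)
    (hO : ∀ x ∈ J, ∀ y ∈ J, fx x ≠ fx y → Odd (orderOf (x * y)))
    (hO2 : ∀ x ∈ J, ∀ y ∈ J, ∀ a b : Ω, a ≠ b → (x * y) • a = a → (x * y) • b = b → Odd (orderOf (x * y)))
    {z s0 : X} (hz : z ∈ J) (hs0 : s0 ∈ J) (hne : fx z ≠ fx s0) :
    ∃ s ∈ J, s • fx z = fx s0 ∧ ∀ z' ∈ J, fx z' = fx z → ∃ s' ∈ J, s' • fx z = fx s0 ∧
      (s * s') * z * (s * s')⁻¹ = z' := by
  classical
  have := Fintype.ofFinite X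
  have hfx : ∀ j ∈ J, ∀ g, fx (g * j * g⁻¹) = g • fx j := fun j hj g =>
    ((hU _ (hJ j hj g) _).1 (by rw [mul_smul, mul_smul, inv_smul_smul, (hU j hj _).2 rfl])).symm
  have hsw : ∀ j ∈ J, ∀ a b : Ω, j • a = b → j • b = a := fun j hj a b h => by rw [← h, ← mul_smul, h2 j hj, one_smul]
  have hcj : ∀ x ∈ J, ∀ y ∈ J, fx x ≠ fx y → ∃ j ∈ J, j * x * j⁻¹ = y ∧ j • fx x = fx y ∧
      ∀ g, Commute g x → Commute g y → Commute g j := fun x hx y hy h => by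
    obtain ⟨j, -, h3, h4, h5⟩ := dih_odd (h2 x hx) (h2 y hy) (hO x hx y hy h)
    obtain ⟨g, rfl⟩ := isConj_iff.1 h3
    exact ⟨_, hJ x hx g, h4, by rw [← hfx x hx, h4], h5⟩
  have hinj : ∀ b, b ≠ fx z → ∀ s1 ∈ J, ∀ s2 ∈ J, s1 • fx z = b → s2 • fx z = b → s1 * z * s1⁻¹ = s2 * z * s2⁻¹ → s1 = s2 := by
    intro b hb s1 h1 s2 h1' e1 e2 e
    have i1 : s1⁻¹ = s1 := inv_eq_of_mul_eq_one_left (h2 _ h1)
    have i2 : s2⁻¹ = s2 := inv_eq_of_mul_eq_one_left (h2 _ h1')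
    have hc : Odd (orderOf (s2 * s1)) := hO2 _ h1' _ h1 (fx z) b hb.symm (by rw [mul_smul, e1, hsw _ h1' _ _ e2])
      (by rw [mul_smul, hsw _ h1 _ _ e1, e2])
    have c1 : Commute (s2 * s1) z := by
      show s2 * s1 * z = z * (s2 * s1)
      calc s2 * s1 * z = s2 * (s1 * z * s1⁻¹) * s1 := by group
        _ = z * (s2 * s1) := by rw [e, ← mul_assoc, ← mul_assoc, h2 _ h1', one_mul, i2, mul_assoc]
    have c0 : s1 * (s2 * s1) * s1⁻¹ = (s2 * s1)⁻¹ := by rw [mul_inv_rev, i2, ← i1, inv_inv]; nth_rewrite 1 [← i1]; group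
    have c2 : Commute (s2 * s1) (s1 * z * s1⁻¹) := by
      have := (c1.inv_left).conj s1
      rwa [← conj_inv, c0, inv_inv] at this
    obtain ⟨j, hj, -, e4, e5⟩ := hcj z hz _ (hJ z hz s1) (by rw [hfx z hz, e1]; exact hb.symm)
    rw [hfx z hz, e1] at e4
    have hk : Odd (orderOf (s1 * j)) := hO2 _ h1 _ hj (fx z) b hb.symm (by rw [mul_smul, e4, hsw _ h1 _ _ e1])
      (by rw [mul_smul, hsw _ hj _ _ e4, e1])
    have := eq_one_of_odd_inv hk hc (by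
      rw [← c0, mul_inv_rev, mul_assoc s1 j, ← (e5 _ c1 c2).eq]; group)
    rw [← i2, inv_mul_eq_one] at this
    exact this.symm
  let JF := Finset.univ.filter (· ∈ J)
  have mJ : ∀ j, j ∈ JF ↔ j ∈ J := fun j => by simp [JF]
  let A := JF.filter fun j => fx j = fx z
  let B := fun b => JF.filter fun j => j • fx z = b
  have hmap : ∀ s ∈ J, ∀ b, s • fx z = b → ∀ s' ∈ B b, (s * s') * z * (s * s')⁻¹ ∈ A := fun s hs b hb s' hs' => by
    simp only [A, B, Finset.mem_filter, mJ] at hs' ⊢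
    exact ⟨hJ z hz _, by rw [hfx z hz, mul_smul, hs'.2, hsw s hs _ _ hb]⟩
  have hinj' : ∀ s b, b ≠ fx z → Set.InjOn (fun s' => (s * s') * z * (s * s')⁻¹) (B b) := fun s b hb s1 h1 s2 h1' e => by
    simp only [B, Finset.coe_filter, mJ, Set.mem_setOf_eq] at h1 h1'
    refine hinj b hb s1 h1.1 s2 h1'.1 h1.2 h1'.2 ?_
    have : s⁻¹ * ((s * s1) * z * (s * s1)⁻¹) * s = s⁻¹ * ((s * s2) * z * (s * s2)⁻¹) * s := by
      simp only at e; rw [e]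
    convert this using 1 <;> group
  have hle : ∀ b ∈ JF.image fx, (B b).card ≤ A.card := fun b _ => by
    by_cases hb : b = fx z
    · refine le_of_eq (congrArg _ ?_)
      ext j
      simp only [A, B, Finset.mem_filter, mJ, hb]
      exact and_congr_right fun hj => by rw [hU j hj, eq_comm]
    · rcases (B b).eq_empty_or_nonempty with h | ⟨s, hs⟩
      · rw [h]; exact Nat.zero_le _
      · have hs' := hs
        simp only [B, Finset.mem_filter, mJ] at hs'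
        exact Finset.card_le_card_of_injOn _ (hmap s hs'.1 b hs'.2) (hinj' s b hb)
  have hs1 : JF.card = ∑ b ∈ JF.image fx, (B b).card :=
    Finset.card_eq_sum_card_fiberwise fun j hj => by
      simp only [Finset.coe_image, Set.mem_image, Finset.mem_coe, mJ] at hj ⊢
      exact ⟨_, hJ z hz j, hfx z hz j⟩
  have hs2 : JF.card = ∑ b ∈ JF.image fx, A.card := by
    rw [Finset.card_eq_sum_card_image fx]
    refine Finset.sum_congr rfl fun b hb => ?_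
    obtain ⟨y, hy, rfl⟩ := Finset.mem_image.1 hb
    by_cases h : fx y = fx z
    · rw [h]
    · obtain ⟨j, hj, -, e4, -⟩ := hcj y ((mJ _).1 hy) z hz h
      refine Finset.card_bij (fun x _ => j * x * j⁻¹) (fun x hx => ?_) (fun x _ x' _ e => by simpa using e) fun x hx => ?_
      · simp only [A, Finset.mem_filter, mJ] at hx ⊢
        exact ⟨hJ x hx.1 j, by rw [hfx x hx.1, hx.2, e4]⟩
      · simp only [A, Finset.mem_filter, mJ] at hx ⊢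
        exact ⟨j⁻¹ * x * j⁻¹⁻¹, ⟨hJ x hx.1 _, by rw [hfx x hx.1, hx.2, ← e4, inv_smul_smul]⟩, by group⟩
  have heq := (Finset.sum_eq_sum_iff_of_le hle).1 (hs1.symm.trans hs2) (fx s0) (Finset.mem_image_of_mem _ ((mJ _).2 hs0))
  obtain ⟨s, hs, -, e4, -⟩ := hcj z hz s0 hs0 hne
  refine ⟨s, hs, e4, fun z' hz' e => ?_⟩
  obtain ⟨s', h1, h3⟩ := Finset.surj_on_of_inj_on_of_card_le (fun s' _ => (s * s') * z * (s * s')⁻¹) (hmap s hs _ e4)
    (fun a b ha hb e => hinj' s _ hne.symm ha hb e) heq.ge z' (by simp only [A, Finset.mem_filter, mJ]; exact ⟨hz', e⟩)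
  simp only [B, Finset.mem_filter, mJ] at h1
  exact ⟨s', h1.1, h1.2, h3.symm⟩

theorem exists_sq_mem {T : Subgroup X} {y : X} {n : ℕ} (h1 : y ∉ T) (h2 : y ^ 2 ^ n ∈ T) :
    ∃ k, y ^ k ∉ T ∧ y ^ k * y ^ k ∈ T := by
  induction n with
  | zero => exact absurd (by simpa using h2) h1
  | succ n ih =>
    by_cases h : y ^ 2 ^ n ∈ T
    · exact ih h
    · exact ⟨_, h, by rwa [← pow_add, ← two_mul, ← pow_succ']⟩

end

variable {G : Type*} [Group G] [Finite G]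

theorem smul_mk_iff {G0 : Subgroup G} {g h : G} : g • (h : G ⧸ G0) = h ↔ h⁻¹ * g * h ∈ G0 := by
  rw [MulAction.Quotient.smul_mk, smul_eq_mul, eq_comm, QuotientGroup.eq, mul_assoc]

theorem set_lemma {G0 H P V : Subgroup G} {z : G} (hz2 : z * z = 1) (hzP : z ∈ P) (hzc : ∀ x ∈ P, Commute z x)
    (hP : SylIn 2 P H) (hPG : P ≤ G0) (hV : V ≤ P) (hVc : ∀ h ∈ H, ∀ v ∈ V, h * v = v * h)
    (hU : ∀ g, g * z * g⁻¹ ∈ G0 → g ∈ G0) (hH : ¬ H ≤ G0) :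
    ∃ T, V ≤ T ∧ T ≤ P ∧ (∀ x ∈ T, ¬ IsConj z x) ∧ (∃ k, k ∉ G0 ∧ ∀ x ∈ T, Commute k x) ∧
      ∃ D : Set G, (∀ d ∈ D, d ∈ H ∧ d ∈ Nm(T)) ∧
      (∀ y ∈ P, y ∈ Nm(T) → y ∉ T → y * y ∈ T → ∃ d ∈ D, ∃ x ∈ T, d * z * d⁻¹ = y * x) ∧
      ((∀ h ∈ H, h * z * h⁻¹ * z ∈ T → ∃ n, h ^ 2 ^ n ∈ T) →
        ∀ d1 ∈ D, ∀ d2 ∈ D, d1 * d2 * d1⁻¹ * d2⁻¹ ∈ T) := by
  classical
  haveI : Fact (Nat.Prime 2) := ⟨Nat.prime_two⟩
  let Δ : G ⧸ G0 → Prop := fun a => ∃ h ∈ H, (h : G ⧸ G0) = a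
  have hΔ : ∀ h ∈ H, ∀ a, Δ a → Δ (h • a) := by
    rintro h hh _ ⟨k, hk, rfl⟩
    exact ⟨h * k, H.mul_mem hh hk, rfl⟩
  let Pr : Subgroup G → Prop := fun T => V ≤ T ∧ T ≤ H ∧ IsPGroup 2 T ∧
    ∃ a b, Δ a ∧ Δ b ∧ a ≠ b ∧ ∀ x ∈ T, x • a = a ∧ x • b = b
  have hV0 : Pr V := by
    obtain ⟨h, hh, hh'⟩ := SetLike.not_le_iff_exists.1 hH
    refine ⟨le_rfl, hV.trans hP.le, hP.pgrp.to_le hV, (1 : G), h, ⟨1, H.one_mem, rfl⟩, ⟨h, hh, rfl⟩, fun e => hh' ?_,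
      fun x hx => ⟨smul_mk_iff.2 (by simpa using hPG (hV hx)), smul_mk_iff.2 ?_⟩⟩
    · simpa using QuotientGroup.eq.1 e
    · rw [mul_assoc, ← hVc h hh x hx, inv_mul_cancel_left]; exact hPG (hV hx)
  obtain ⟨T0, hT0, hmax0⟩ := Set.exists_max_image {T | Pr T} (fun T => Nat.card T) (Set.toFinite _) ⟨V, hV0⟩
  obtain ⟨T, hTP, hT, hmax⟩ : ∃ T, T ≤ P ∧ Pr T ∧ ∀ T', Pr T' → Nat.card T' ≤ Nat.card T := by
    obtain ⟨h1, h2, h3, a, b, ha, hb, hab, h4⟩ := hT0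
    obtain ⟨h, hh, h5⟩ := hP.exists_cj_le h3 h2
    refine ⟨_, h5, ⟨fun v hv => mem_cj.2 (h1 ?_), h5.trans hP.le, isPGroup_cj h3 h, h • a, h • b, hΔ h hh a ha, hΔ h hh b hb,
      fun e => hab (smul_left_cancel h e), fun x hx => ?_⟩, fun T' hT' => card_cj h T0 ▸ hmax0 T' hT'⟩
    · rwa [mul_assoc, ← hVc h hh v hv, inv_mul_cancel_left]
    · obtain ⟨y, hy, rfl⟩ := mem_cj'.1 hx
      simp only [mul_smul, inv_smul_smul, h4 y hy, and_self]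
  obtain ⟨hVT, hTH, hT2, a0, b0, ha0, hb0, hab0, hfix0⟩ := hT
  have huniq : ∀ x, IsConj z x → ∀ a b : G ⧸ G0, x • a = a → x • b = b → a = b := by
    intro x hx a b
    obtain ⟨g, rfl⟩ := isConj_iff.1 hx
    induction a using QuotientGroup.induction_on with | H a => ?_
    induction b using QuotientGroup.induction_on with | H b => ?_
    intro h1 h2
    rw [smul_mk_iff] at h1 h2
    have h3 := hU (a⁻¹ * g) (by convert h1 using 1; group)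
    have h4 := hU (b⁻¹ * g) (by convert h2 using 1; group)
    exact QuotientGroup.eq.2 (by convert G0.mul_mem h3 (G0.inv_mem h4) using 1; group)
  have hTz : ∀ x ∈ T, ¬ IsConj z x := fun x hx h => hab0 (huniq x h _ _ (hfix0 x hx).1 (hfix0 x hx).2)
  have hzT : z ∉ T := fun h => hTz z h (IsConj.refl z)
  let N := H ⊓ Nm(T)
  have hTN : T ≤ N := le_inf hTH le_normalizer
  haveI : (T.subgroupOf N).Normal := (normal_subgroupOf_iff_le_normalizer hTN).2 inf_le_right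
  let Ω := {a : G ⧸ G0 // Δ a ∧ ∀ x ∈ T, x • a = a}
  letI act : MulAction N Ω :=
    { smul := fun n a => ⟨(n : G) • a.1, hΔ _ n.2.1 _ a.2.1, fun x hx => by
        rw [← inv_smul_eq_iff, smul_smul, smul_smul]
        exact a.2.2 _ ((mem_normalizer_iff''.1 n.2.2 x).1 hx)⟩
      one_smul := fun a => Subtype.ext (one_smul G a.1)
      mul_smul := fun m n a => Subtype.ext (mul_smul (m : G) (n : G) a.1) }
  have hact : ∀ (n : N) (a : Ω), (n • a).1 = (n : G) • a.1 := fun _ _ => rfl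
  let π := QuotientGroup.mk' (T.subgroupOf N)
  let ρ : N ⧸ T.subgroupOf N →* Equiv.Perm Ω := QuotientGroup.lift _ (MulAction.toPermHom N Ω) fun x hx =>
    Equiv.ext fun a => Subtype.ext (a.2.2 _ hx)
  letI : MulAction (N ⧸ T.subgroupOf N) Ω := MulAction.compHom Ω ρ
  have hq : ∀ (n : N) (a : Ω), π n • a = n • a := fun _ _ => rfl
  have hπ : ∀ n : N, π n = 1 ↔ (n : G) ∈ T := fun n => QuotientGroup.eq_one_iff n
  have hsur : ∀ x, ∃ n, π n = x := QuotientGroup.mk'_surjective _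
  let J : Set (N ⧸ T.subgroupOf N) := {j | j ≠ 1 ∧ j * j = 1}
  have hA : ∀ j ∈ J, ∃! a : Ω, j • a = a := by
    intro j hj
    let R := ((zpowers j).comap π).map N.subtype
    have hR : ∀ x, x ∈ R ↔ ∃ h : x ∈ N, π ⟨x, h⟩ ∈ zpowers j := fun x =>
      ⟨by rintro ⟨y, h, rfl⟩; exact ⟨y.2, h⟩, fun ⟨h, h'⟩ => ⟨_, h', rfl⟩⟩
    have hTR : T ≤ R := fun x hx => (hR x).2 ⟨hTN hx, by rw [(hπ ⟨x, hTN hx⟩).2 hx]; exact one_mem _⟩
    have hRH : R ≤ H := fun x hx => ((hR x).1 hx).1.1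
    have hR2 : IsPGroup 2 R := by
      rintro ⟨x, hx⟩
      obtain ⟨h, k, hk⟩ := (hR x).1 hx
      have h1 : x ^ 2 ∈ T := (hπ (⟨x, h⟩ ^ 2)).1 (by
        rw [map_pow, ← hk, ← zpow_natCast, ← zpow_mul, mul_comm, zpow_mul, zpow_natCast, pow_two, hj.2, one_zpow])
      obtain ⟨n, hn⟩ := hT2 ⟨_, h1⟩
      exact ⟨n + 1, Subtype.ext (by
        have := congrArg Subtype.val hn
        simp only [SubgroupClass.coe_pow, OneMemClass.coe_one] at this ⊢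
        rw [pow_succ', pow_mul, this])⟩
    obtain ⟨y, rfl⟩ := hsur j
    have hyR : (y : G) ∈ R := (hR _).2 ⟨y.2, mem_zpowers _⟩
    obtain ⟨h, hh, h5⟩ := hP.exists_cj_le hR2 hRH
    have hf : ∀ x ∈ R, x • ((h⁻¹ : G) : G ⧸ G0) = (h⁻¹ : G) := fun x hx =>
      smul_mk_iff.2 (by rw [inv_inv]; exact hPG (h5 (conj_mem_cj h hx)))
    refine existsUnique_of_exists_of_unique ⟨⟨(h⁻¹ : G), ⟨_, H.inv_mem hh, rfl⟩, fun x hx => hf x (hTR hx)⟩,
      Subtype.ext (hf _ hyR)⟩ fun a b ha hb => ?_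
    by_contra hab
    have hfa : ∀ a : Ω, π y • a = a → ∀ x ∈ R, x • a.1 = a.1 := fun a ha x hx => by
      obtain ⟨h, k, hk⟩ := (hR x).1 hx
      have := (MulAction.stabilizer _ a).zpow_mem (MulAction.mem_stabilizer_iff.2 ha) k
      simp only at hk
      rw [hk, MulAction.mem_stabilizer_iff] at this
      exact congrArg Subtype.val this
    have := hmax R ⟨hVT.trans hTR, hRH, hR2, a.1, b.1, a.2.1, b.2.1, fun e => hab (Subtype.ext e),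
      fun x hx => ⟨hfa a ha x hx, hfa b hb x hx⟩⟩
    rw [← eq_of_le_of_card_ge hTR this] at hyR
    exact hj.1 ((hπ y).2 hyR)
  let p0 : Ω := ⟨(1 : G), ⟨1, H.one_mem, rfl⟩, fun x hx => smul_mk_iff.2 (by simpa using hPG (hTP hx))⟩
  have hp0 : ∀ n : N, π n • p0 = p0 ↔ (n : G) ∈ G0 := fun n => by
    rw [Subtype.ext_iff, hq, hact]
    exact smul_mk_iff.trans (by simp)
  haveI : Nonempty Ω := ⟨p0⟩
  choose! fx hfx1 hfx2 using hA
  have hU' : ∀ j ∈ J, ∀ a, j • a = a ↔ a = fx j := fun j hj a => ⟨hfx2 j hj a, fun h => h ▸ hfx1 j hj⟩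
  have hodd : ∀ (r : N ⧸ T.subgroupOf N) (a b : Ω), a ≠ b → r • a = a → r • b = b → Odd (orderOf r) := by
    intro r a b hab ha hb
    by_contra h
    obtain ⟨m, h1, h2⟩ := exists_inv_pow h
    have := fun a : Ω => (MulAction.stabilizer _ a).pow_mem (x := r)
    simp only [MulAction.mem_stabilizer_iff] at this
    exact hab (((hU' _ ⟨h1, h2⟩ a).1 (this a ha m)).trans ((hU' _ ⟨h1, h2⟩ b).1 (this b hb m)).symm)
  have hJ : ∀ j ∈ J, ∀ g, g * j * g⁻¹ ∈ J := fun j hj g =>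
    ⟨fun h => hj.1 (by simpa using h), by rw [conj_mul, hj.2]; simp⟩
  have hzN : z ∈ N := ⟨hP.le hzP, Cz_le_Nm T (mem_centralizer_iff.2 fun x hx => (hzc x (hTP hx)).eq.symm)⟩
  let zb := π ⟨z, hzN⟩
  have hzJ : zb ∈ J := ⟨fun h => hzT ((hπ _).1 h), by rw [← map_mul, hπ]; exact (show z * z ∈ T from hz2.symm ▸ T.one_mem)⟩
  have hfz : fx zb = p0 := ((hU' _ hzJ _).1 ((hp0 _).2 (hPG hzP))).symm
  obtain ⟨β, hβ⟩ : ∃ β : Ω, β ≠ p0 := by
    by_contra! h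
    exact hab0 (congrArg Subtype.val ((h ⟨a0, ha0, fun x hx => (hfix0 x hx).1⟩).trans (h ⟨b0, hb0, fun x hx => (hfix0 x hx).2⟩).symm))
  obtain ⟨s0, hs0, hs1⟩ : ∃ s ∈ J, s • β = β := by
    obtain ⟨_, ⟨h, hh, rfl⟩, hβ2⟩ := β
    by_contra! hc
    have hTβ : T ≤ H ⊓ cj h G0 := le_inf hTH fun x hx => mem_cj.2 (smul_mk_iff.1 (hβ2 x hx))
    have h1 : SylIn 2 T (H ⊓ cj h G0) := sylIn_of_sylIn_Nm hTβ ⟨le_inf hTβ le_normalizer, hT2, fun Q hQ hQl _ y hy => by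
      by_contra hyT
      obtain ⟨n, hn⟩ := hQ ⟨y, hy⟩
      obtain ⟨k, h2, h3⟩ := exists_sq_mem (n := n) hyT (by
        have := congrArg Subtype.val hn
        simp only [SubgroupClass.coe_pow, OneMemClass.coe_one] at this
        rw [this]; exact T.one_mem)
      have h4 := hQl (Q.pow_mem hy k)
      exact hc (π ⟨_, h4.1.1, h4.2⟩) ⟨fun e => h2 ((hπ _).1 e), by rw [← map_mul, hπ]; exact h3⟩
        (Subtype.ext (smul_mk_iff.2 (mem_cj.1 h4.1.2)))⟩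
    have h2 := h1.card_le (isPGroup_cj hP.pgrp h) (le_inf (hP.cj_of_mem hh).le (cj_mono h hPG))
    rw [card_cj] at h2
    exact hzT (eq_of_le_of_card_ge hTP h2 ▸ hzP)
  have hs2 : fx s0 = β := ((hU' _ hs0 _).1 hs1).symm
  obtain ⟨s, hs, hs3, hs4⟩ := cnt J fx hJ (fun j hj => hj.2) hU' (fun x hx y hy h => by
      by_contra ho
      obtain ⟨m, h1, h2⟩ := exists_inv_pow ho
      obtain ⟨h3, h4⟩ := dih_comm hx.2 hy.2 h2
      have k : ∀ x ∈ J, ∀ w, Commute w x → w • fx x = fx x := fun x hx w hw =>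
        (hU' x hx _).1 (by rw [← mul_smul, ← hw.eq, mul_smul, hfx1 x hx])
      exact h (((hU' _ ⟨h1, h2⟩ _).1 (k x hx _ h3)).trans ((hU' _ ⟨h1, h2⟩ _).1 (k y hy _ h4)).symm))
    (fun x _ y _ => hodd _) hzJ hs0 (by rw [hfz, hs2]; exact hβ.symm)
  rw [hfz, hs2] at hs3 hs4
  have hsw : ∀ j ∈ J, j • p0 = β → j • β = p0 := fun j hj h => by rw [← h, ← mul_smul, hj.2, one_smul]
  refine ⟨T, hVT, hTP, hTz, ?_, {d | ∃ hd : d ∈ N, ∃ s' ∈ J, s' • p0 = β ∧ π ⟨d, hd⟩ = s * s'},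
    fun d hd => hd.1, fun y hy h1 h2 h3 => ?_, ?_⟩
  · obtain ⟨n, rfl⟩ := hsur s
    refine ⟨n * z * (n : G)⁻¹, fun h => hβ (hs3.symm.trans ((hp0 n).2 (hU _ h))), fun x hx => ?_⟩
    have := (hzc _ (hTP ((mem_normalizer_iff''.1 n.2.2 x).1 hx))).conj n
    convert this using 1; group
  · have hyN : y ∈ N := ⟨hP.le hy, h1⟩
    have hyJ : π ⟨y, hyN⟩ ∈ J := ⟨fun h => h2 ((hπ _).1 h), by rw [← map_mul, hπ]; exact h3⟩
    obtain ⟨s', h4, h5, h6⟩ := hs4 _ hyJ ((hU' _ hyJ _).1 ((hp0 _).2 (hPG hy))).symm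
    obtain ⟨d, hd⟩ := hsur (s * s')
    refine ⟨d, ⟨d.2, s', h4, h5, hd⟩, y⁻¹ * (d * z * (d : G)⁻¹), (hπ ((⟨y, hyN⟩ : N)⁻¹ * (d * ⟨z, hzN⟩ * d⁻¹))).1 ?_, by group⟩
    rw [map_mul, map_mul, map_mul, map_inv, map_inv, hd, h6, inv_mul_cancel]
  · rintro h2g d1 ⟨hd1, s1, h1, h1', e1⟩ d2 ⟨hd2, s2, h2, h2', e2⟩
    have f1 : ∀ s' ∈ J, s' • p0 = β → (s * s') • p0 = p0 ∧ (s * s') • β = β := fun s' h h' =>
      ⟨by rw [mul_smul, h', hsw s hs hs3], by rw [mul_smul, hsw s' h h', hs3]⟩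
    have hJ' := hJ _ hzJ (s * s1 * (s * s2))
    obtain ⟨s3, h3, h3', e3⟩ := hs4 _ hJ' ((hU' _ hJ' _).1 (by
      rw [mul_smul, mul_smul _ zb, inv_smul_eq_iff.2 (show p0 = (s * s1 * (s * s2)) • p0 by
        rw [mul_smul, (f1 _ h2 h2').1, (f1 _ h1 h1').1]), ← hfz, hfx1 _ hzJ, hfz, mul_smul, (f1 _ h2 h2').1,
        (f1 _ h1 h1').1])).symm
    obtain ⟨c, hc⟩ := hsur ((s * s3)⁻¹ * (s * s1 * (s * s2)))
    have ho := hodd (π c) p0 β hβ.symm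
      (by rw [hc, mul_smul, mul_smul, (f1 _ h2 h2').1, (f1 _ h1 h1').1, inv_smul_eq_iff, (f1 _ h3 h3').1])
      (by rw [hc, mul_smul, mul_smul, (f1 _ h2 h2').2, (f1 _ h1 h1').2, inv_smul_eq_iff, (f1 _ h3 h3').2])
    obtain ⟨n, hn⟩ := h2g c c.2.1 ((hπ (c * ⟨z, hzN⟩ * c⁻¹ * ⟨z, hzN⟩)).1 (by
      rw [map_mul, map_mul, map_mul, map_inv, hc, ← hzJ.2]
      congr 1
      calc _ = (s * s3)⁻¹ * (s * s1 * (s * s2) * zb * (s * s1 * (s * s2))⁻¹) * (s * s3) := by simp only [zb]; group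
        _ = zb := by rw [← e3]; group))
    have h4 : π c = 1 := by
      have h5 := orderOf_dvd_of_pow_eq_one ((map_pow π c _).symm.trans ((hπ (c ^ 2 ^ n)).2 hn))
      exact orderOf_eq_one_iff.1 (Nat.Coprime.eq_one_of_dvd ((Nat.coprime_two_right.2 ho).pow_right n) h5)
    rw [hc, inv_mul_eq_one] at h4
    refine (hπ (⟨d1, hd1⟩ * ⟨d2, hd2⟩ * (⟨d1, hd1⟩ : N)⁻¹ * (⟨d2, hd2⟩ : N)⁻¹)).1 ?_
    rw [map_mul, map_mul, map_mul, map_inv, map_inv, e1, e2]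
    have i : ∀ j ∈ J, j⁻¹ = j := fun j hj => inv_eq_of_mul_eq_one_left hj.2
    have k : ∀ j ∈ J, s * (s * j) * s⁻¹ = (s * j)⁻¹ := fun j hj => by
      rw [← mul_assoc, hs.2, one_mul, mul_inv_rev, i j hj]
    have h5 := k s3 h3
    rw [h4, ← conj_mul, k s1 h1, k s2 h2] at h5
    rw [mul_assoc, h5, mul_inv_cancel]

/-- two-subgroups meeting an element with a unique fixed point -/
theorem le_of_uniq {G0 S R : Subgroup G} (hS : SylIn 2 S ⊤) (hSG : S ≤ G0) (hR : IsPGroup 2 R) {u : G} (hu : u ∈ R)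
    (hU : ∀ g, g * u * g⁻¹ ∈ G0 → g ∈ G0) : R ≤ G0 := by
  haveI : Fact (Nat.Prime 2) := ⟨Nat.prime_two⟩
  obtain ⟨g, -, h⟩ := hS.exists_cj_le hR le_top
  have hg := hU g (hSG (h (conj_mem_cj g hu)))
  intro x hx
  convert G0.mul_mem (G0.mul_mem (G0.inv_mem hg) (hSG (h (conj_mem_cj g hx)))) hg using 1
  group

/-- strong embedding fuses involutions -/
theorem eq_top_of_emb {G0 : Subgroup G} {z t : G} (hz : z * z = 1) (ht : t * t = 1) (ht1 : t ≠ 1) (htG : t ∈ G0)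
    (hU : ∀ g, g * z * g⁻¹ ∈ G0 → g ∈ G0) (hC : ∀ w ∈ G0, w ≠ 1 → w * w = 1 → ∀ g, Commute g w → g ∈ G0)
    (hn : ¬ IsConj z t) : G0 = ⊤ := by
  rw [eq_top_iff]
  intro g _
  by_contra hg
  have hs : g * z * g⁻¹ * (g * z * g⁻¹) = 1 := by rw [conj_mul, hz]; simp
  by_cases ho : Odd (orderOf (g * z * g⁻¹ * t))
  · obtain ⟨j, -, -, h, -⟩ := dih_odd hs ht ho
    exact hn (isConj_iff.2 ⟨j * g, by rw [← h]; group⟩)
  · obtain ⟨m, h1, h2⟩ := exists_inv_pow ho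
    obtain ⟨h3, h4⟩ := dih_comm hs ht h2
    exact hg (hU g (hC _ (hC t htG ht1 ht _ h4) h1 h2 _ h3.symm))

end CfH3.He
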