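import Cfsg.Agent.H3.He0
import Cfsg.Agent.H3.He1
/-! Sylow subgroup, involution classes and fusion. -/
set_option autoImplicit false
set_option maxRecDepth 100000
open Subgroup CfH9
namespace CfH3.He

def ka : ℕ := 17043523
def kb : ℕ := 17043649
def kB : ℕ := 17045569
def kc : ℕ := 17051713
def kC : ℕ := 17174593
def kd : ℕ := 17567809
def a1 : ℕ := 17043529
def a2 : ℕ := 17044033
def kt : ℕ := 17044041
def rep (k : ℕ) : ℕ := [cZ, a1, a2, kt, 17043777, 17043793, 17043781, 17060161].getD k cI
def lS : List ℕ := [1, 2, 3, 4, 7, 8, 9, 13, 14, 19]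
abbrev mS : ℕ := mk lS
def idx (c : ℕ) : ℕ := c / 2 % 16 + c / 128 % 8 * 16 + c / 8192 % 4 * 128 + c / 524288 % 2 * 512
def tC : ℕ := 0xfffffffffffffffffffffffffffffffffffffffffffffffffffffffffffffffffffffffffffffffffffffffffffffffffffffffffffffffffffffffffffffffff7fffff7f7fffff7fffffffffffffffffffffffffffffffff33f3ff2f33f3ff2f7fffff7f7fffff7ffffffffffffffffffffffffffffffff33ffff3233ffff32fffffffffffffffffffffffffffffffffffffffffffffffffffffffffffffffffffffffffffffffffffffffffffffffffffffffffffffffffffffffffffffffffffffffffffffffffffffffffffffffffffff7f7fffff7f73f3ff3f23f3ff3f2fffffffffffffffffffffffffffffffffffff7f7fffff7f7ffff3332ffff3332ffffffffffffffff6ff46ff56ff56ff4fffffffffffffffffff7fff7fff7fff7fffffffffffffffffff7fff7fff7fff7ffffffffffffffffff64ff65ff65ff64fffffffffffffffffff7fff7fff7fff7ffffffffffffffff3ff33ff23ff33ff2fffffffffffffffffff7fff7fff7fff7ffffffffffffffffff33ff32ff33ff32fffffffffffffffffff7fff7fff7fff7fffffffffffffffffff7fff7fff7fff7ffffffffffffffff6ff56ff56ff46ff4ffffffffffffffffff65ff65ff64ff64f4f6f6f5f5f6f6f4f6f4f6f5f6f5f6f4f6f6f4f5f6f6f5f4f3f3f3f2f3f3f3f2f5f6f6f5f4f6f6f4f6f5f6f5f6f4f6f4f6f6f5f5f6f6f4f4111111101111111f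
def tJ : ℕ := 0x438410c00000000000000000000000000000010610c5000000418431c00000000000000000000000000000010610c100000000000000000000000000000000000000000000000000000000000000000000000000000000000000000000000000000000000000000000000000000000000000000000000000000000000000000000000000000000000000000000000000000000000000418610e0a3086000000819821800000000000106184300000041861060a30820000008198208000000000001061841000000438431c0000000000000000000000000000001061045000000418410c000000000000000000000000000000106104100000000000000000000000000000000000000000000000000000000000000000000000000000000000000000000000000000000000000000000000000000000000000000000000000000000000000000000000000000000000000000000000000000000838442c18231c000000000000000000000000202618f0608c7838440c18230400000000000000000000000020261830608c1000000000000000000000000000000000000000000000000000000000000000000000000000000000000000000000000000000000000000000000000000000000000000000000000000000000000000000000000000000000000000000000000000000000000000000000000000000000000000000000000000000000000000000000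00000000000000000000000000000000000000000000000000000000000000000000000000000000000000000000000000000000000000000000000000000000000000000000000000000000000000000000000000000000000000000000000000000000000000000000000000000000000000000000000000000000000000000000000000000000000000000000000000000000000000000000000000000000000000000000000000000000000000000000000000000000000000000000000000000000000000000000000000000000000000000000000000000000000000000000000000000000000000000000000000000000000000000000000000000000000000000000000000000000000000000000000000000000000000000000000000000000000000000000000000000000000000000000000000000000000000000000000000000000000000000000000000000000000000000000000000000000000000000000000000000000000000000000000000000000000000000000000000428c10c0000010231cd0000000000000000000000000000000408c73c0000010231c183882180000020a218e000000000000408e10c00000107104383882080000020a2182000000000000408e1040000010710410000000000000000000000000000000000000000000000000000000000000000000000000000000000000000000000000000000000000000000000000000000000000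00000000000000000000000000000000000000000000000000000000000000000000000000000000000000000000000000428c73c00000102304d0000000000000000000000000000000408c10c00000102304100000000000000000000000008184c6c08273e02331b0209cf00000000000000000000000008184c0c0827060233030209c10000000000000000000000000000000000000000000000000000000000000000000000000000000000000000000000000000860c2180000000000010c1843861c2180000000000010c1841861c2080000000000010c1843860c2080000000000010c1841000000000000000000000000000000000000000000000000000000000000000000000000000000000000000000000000000000000000000000000010408c500000000000000000010408c300000000000000000010408c700000000000000000010408c1000000000000000000000000000000000000000000000000000000000000000000000000000000000000000000000000000000000000000000000010c18850000000000000000001041847000000000000000000104184300000000000000000010418410000000000000000000000000000000000000000000000000000000000000000000000000000000000000000000000000000000000000000218118f0c08c7000000000000218518f0c08c100000000000021851830c08c700000000000021811830c08c100000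0000000000000000000000000000000000000000000000000000000000000000000000000000000000000000000000000000000000000000010c104300000000000000000010410c500000000000000000010410c700000000000000000010410c10000000000000000000000000000000000000000000000000000000000000000000000000000000000000000000000000000838c218000000000001041843819c218000000000001041843838c208000000000001041841819c208000000000001041841000000000000000000000000000000000000000000000000000000000000000000000000000000000000000000000000000000000000000000000010c10c7000000000000000000104104500000000000000000010410430000000000000000001041041000000000000000000000000000000000000000000000000000000000000000000000000000000000000000000000000000000000000000020a118f0408c7000000000000202518f0408c700000000000020a11830408c100000000000020251830408c1000000000000000000000000000000000000000000000000000000000000000000000000000000000000000000000000000000000000000000000010c184300000000000000000010418870000000000000000001041885000000000000000000104188100000000000000000000000000000000000000000000000000000000000000000000000000000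0000000000000000000000000000000000000000010c08c70000000000000000001040883000000000000000000104088500000000000000000010408810000000000000000000000000000000000000000000000000000000000000000000000000000000000000000000000000000823c208000000000001041843823c218000000000001041841820c218000000000001041843820c2080000000000010418410000000000000000000000000000000000000000000000000000000000000000000000000000000000000000000000000000000000000000208d1830408c7000000000000208d18f0408c1000000000000208118f0408c700000000000020811830408c1000000438410c0000010e1043000000438810c0000010e1041000000438410c0000010e204100000043841040000010e1041000000430410c0000010c1043000000430c10c0000010c1041000000430c1040000010c104300000043041040000010c1041000000429c1040000010a3043000000428c10c0000010a3041000000428c1040000010a2041000000428c10c0000010a3041000000418410c000001041043000000408c10c0000010410430000004184104000001041041000000408c104000001041041000000418410c0000010660410000004194104000001061041000000418410c0000010610430000004184104000001061041000000411c104000001041043000000411c10c000001041041000000410410c0000010410430000004104104000001041041000000409c104000001027043000000408c10c000001023041000000408c104000001023043000000408c10c000001023041878c20c3841061a11830c1041859c20c28c106125183041041838c20c1841060a1183041041819c20c08c106025182000000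
/-- class of an involution of the Sylow subgroup -/
def cls (c : ℕ) : ℕ := Nat.land (Nat.shiftRight tC (4 * idx c)) 15
def cjr (c : ℕ) : ℕ := Nat.land (Nat.shiftRight tJ (25 * idx c)) 33554431

theorem cls_aux : allM lS (fun u => cond (Nat.beq (bm u u) cI && !(Nat.beq u cI)) (Nat.blt (cls u) 8 &&
    frc (cjr u) fun c => valB c && Nat.beq (bm c u) (bm (rep (cls u)) c)) (Nat.beq (cls u) 15)) = true := by decide +kernel

theorem val_rep : ∀ k < 8, val (rep k) := by decide
theorem tr_S : trM mS := by decide

theorem cent_aux : allM lS (fun c => !(Nat.beq (bm c ka) (bm ka c) && Nat.beq (bm c kb) (bm kb c) &&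
    Nat.beq (bm c kc) (bm kc c) && Nat.beq (bm c kd) (bm kd c)) || Nat.beq c cI || Nat.beq c cZ) = true := by
  decide +kernel

theorem cnt_S : cntC (inM mS) = 1024 := by decide +kernel
theorem cnt_C : cntC (fun _ => true) = 21504 := by decide +kernel

noncomputable def rts (u w : ℕ) : ℕ := cntC fun c => Nat.beq (bm c c) w && Nat.beq (bm c u) (bm u c)

theorem rts_z : ∀ k < 8, rts (rep k) cZ = [224, 48, 48, 32, 16, 16, 8, 8].getD k 0 := by decide +kernel
theorem rts_u : ∀ k < 8, rts (rep k) (rep k) = [224, 48, 48, 16, 16, 0, 8, 8].getD k 0 := by decide +kernel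

variable {G : Type*} [Group G] {z : G} {φ : ℕ → G}

/-- conjugation by `g` maps code `u` to code `v` -/
def Cj (φ : ℕ → G) (g : G) (u v : ℕ) : Prop := val u ∧ val v ∧ g * φ u * g⁻¹ = φ v

theorem Cj.comp {g h : G} {u v w : ℕ} (h1 : Cj φ g u v) (h2 : Cj φ h v w) : Cj φ (h * g) u w :=
  ⟨h1.1, h2.2.1, by rw [← h2.2.2, ← h1.2.2]; group⟩

theorem Cj.symm {g : G} {u v : ℕ} (h1 : Cj φ g u v) : Cj φ g⁻¹ v u := ⟨h1.2.1, h1.1, by rw [← h1.2.2]; group⟩

theorem Cj.isConj {g : G} {u v : ℕ} (h1 : Cj φ g u v) : IsConj (φ u) (φ v) := isConj_iff.2 ⟨g, h1.2.2⟩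

theorem Cj.eq {g : G} {u v : ℕ} (h1 : Cj φ g u v) : g * φ u = φ v * g := by rw [← h1.2.2]; group

noncomputable def wd (L w : List ℕ) : ℕ := List.rec cI (fun i _ r => frc r (bm (L.getD i cI))) w

theorem wd_cons (L : List ℕ) (i : ℕ) (w : List ℕ) : wd L (i :: w) = bm (L.getD i cI) (wd L w) := frc_eq _ _

noncomputable def lin (l L : List ℕ) (c : ℕ) : ℕ :=
  List.rec (fun _ => cI) (fun p _ ih L => frc (ih L.tail) fun r => cond (c.testBit p) (bm (L.headD cI) r) r) l L

theorem lin_cons (p : ℕ) (l L : List ℕ) (c : ℕ) :
    lin (p :: l) L c = cond (c.testBit p) (bm (L.headD cI) (lin l L.tail c)) (lin l L.tail c) :=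
  frc_eq (lin l L.tail c) fun r => cond (c.testBit p) (bm (L.headD cI) r) r

namespace Mod
variable (M : Mod z φ)
include M

theorem cj_one (g : G) : Cj φ g cI cI := ⟨val_I, val_I, by rw [M.one]; group⟩

theorem cj_mul {g : G} {u v u' v' : ℕ} (h1 : Cj φ g u v) (h2 : Cj φ g u' v') : Cj φ g (bm u u') (bm v v') :=
  ⟨h1.1.bm h2.1, h1.2.1.bm h2.2.1, by rw [M.mul h1.1 h2.1, M.mul h1.2.1 h2.2.1, ← h1.2.2, ← h2.2.2]; group⟩

theorem cj_uniq {g : G} {u v w : ℕ} (h1 : Cj φ g u v) (h2 : Cj φ g u w) : v = w :=
  M.inj h1.2.1 h2.2.1 (h1.2.2.symm.trans h2.2.2)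

theorem cj_code {c u v : ℕ} (hc : val c) (hu : val u) (hv : val v) (h : bm c u = bm v c) : Cj φ (φ c) u v :=
  ⟨hu, hv, by rw [(M.mul_eq hc hu hv hc).2 h]; group⟩

theorem cj_code' {c u v : ℕ} (hc : val c) (h : Cj φ (φ c) u v) : bm c u = bm v c := (M.mul_eq hc h.1 h.2.1 hc).1 h.eq

theorem cj_getD {g : G} {L L' : List ℕ} (h : List.Forall₂ (Cj φ g) L L') (i : ℕ) : Cj φ g (L.getD i cI) (L'.getD i cI) := by
  induction h generalizing i with
  | nil => exact M.cj_one g
  | cons h1 _ ih => cases i with
    | zero => exact h1
    | succ i => exact ih i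

theorem cj_wd {g : G} {L L' : List ℕ} (h : List.Forall₂ (Cj φ g) L L') (w : List ℕ) : Cj φ g (wd L w) (wd L' w) := by
  induction w with
  | nil => exact M.cj_one g
  | cons i w ih => rw [wd_cons, wd_cons]; exact M.cj_mul (M.cj_getD h i) ih

theorem cj_wd' {g : G} {L L' : List ℕ} (h : List.Forall₂ (Cj φ g) L L') (w : List ℕ) {u v : ℕ}
    (e : (Nat.beq (wd L w) u && Nat.beq (wd L' w) v) = true) : Cj φ g u v := by
  rw [Bool.and_eq_true, Nat.beq_eq, Nat.beq_eq] at e
  exact e.1 ▸ e.2 ▸ M.cj_wd h w

theorem cj_wds {g : G} {L L' : List ℕ} (h : List.Forall₂ (Cj φ g) L L') (ws : List (List ℕ)) {K K' : List ℕ}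
    (e1 : ws.map (wd L) = K) (e2 : ws.map (wd L') = K') : List.Forall₂ (Cj φ g) K K' := by
  subst e1 e2
  induction ws with
  | nil => exact .nil
  | cons w ws ih => exact .cons (M.cj_wd h w) ih

theorem cj_rel {g : G} {L L' : List ℕ} (h : List.Forall₂ (Cj φ g) L L') (w : List ℕ) (e : wd L w = cI) : wd L' w = cI :=
  M.cj_uniq (e ▸ M.cj_wd h w) (M.cj_one g)

theorem cj_lin {g : G} (l : List ℕ) {L L' : List ℕ} (h : List.Forall₂ (Cj φ g) L L') (c : ℕ) :
    Cj φ g (lin l L c) (lin l L' c) := by
  induction l generalizing L L' with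
  | nil => exact M.cj_one g
  | cons p l ih =>
    rw [lin_cons, lin_cons]
    have h1 : Cj φ g (L.headD cI) (L'.headD cI) ∧ List.Forall₂ (Cj φ g) L.tail L'.tail := by
      cases h with
      | nil => exact ⟨M.cj_one g, .nil⟩
      | cons h1 h2 => exact ⟨h1, h2⟩
    cases c.testBit p
    · exact ih h1.2
    · exact M.cj_mul h1.1 (ih h1.2)

theorem comm_iff {a b : ℕ} (ha : val a) (hb : val b) : φ a * φ b = φ b * φ a ↔ bm a b = bm b a := M.mul_eq ha hb hb ha

theorem mul_eq' {a b c : ℕ} (ha : val a) (hb : val b) (hc : val c) : φ a * φ b = φ c ↔ bm a b = c := by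
  rw [← M.mul ha hb]
  exact ⟨M.inj (ha.bm hb) hc, fun h => by rw [h]⟩

theorem mul_one_iff {a b : ℕ} (ha : val a) (hb : val b) : φ a * φ b = 1 ↔ bm a b = cI := by
  rw [← M.one, M.mul_eq' ha hb val_I]

theorem mem_C {g : G} : g ∈ Cx(z) ↔ ∃ c, val c ∧ φ c = g :=
  mem_centralizer_singleton_iff.trans ⟨M.sur, by rintro ⟨c, h, rfl⟩; exact M.com h⟩

/-- the Sylow subgroup -/
def S : Subgroup G := M.sub _ tr_S

theorem card_S : Nat.card M.S = 1024 := (M.card_of _ _ fun _ => Iff.rfl).trans cnt_S
theorem card_C : Nat.card Cx(z) = 21504 := (M.card_of _ _ fun _ => by simp only [M.mem_C, true_and]).trans cnt_C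
theorem S_le : M.S ≤ Cx(z) := fun _ ⟨c, h, _, e⟩ => M.mem_C.2 ⟨c, h, e⟩
theorem z_mem : z ∈ M.S := ⟨cZ, val_Z, by decide, M.hz⟩

theorem cent_S {g : G} (h : g ∈ M.S) (hc : ∀ x ∈ M.S, g * x = x * g) : g = 1 ∨ g = z := by
  obtain ⟨c, h1, h2, rfl⟩ := h
  have h4 := allM_sound cent_aux h1 h2
  have k : ∀ x, val x → inM mS x = true → Nat.beq (bm c x) (bm x c) = true := fun x hx hx' =>
    Nat.beq_eq ▸ (M.comm_iff h1 hx).1 (hc _ ⟨x, hx, hx', rfl⟩)
  rw [k _ (by decide) (by decide), k _ (by decide) (by decide), k _ (by decide) (by decide), k _ (by decide) (by decide)] at h4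
  simp only [Bool.and_self, Bool.not_true, Bool.false_or, Bool.or_eq_true, Nat.beq_eq] at h4
  rcases h4 with rfl | rfl
  · exact Or.inl M.one
  · exact Or.inr M.hz

variable [Finite G]

theorem sylC : SylIn 2 M.S Cx(z) := by
  haveI : Fact (Nat.Prime 2) := ⟨Nat.prime_two⟩
  refine sylIn_of_not_dvd M.S_le (IsPGroup.of_card (n := 10) M.card_S) ?_
  have := card_mul_relIndex M.S_le
  rw [M.card_S, M.card_C] at this
  omega

theorem sylS : SylIn 2 M.S ⊤ := by
  haveI : Fact (Nat.Prime 2) := ⟨Nat.prime_two⟩
  refine M.sylC.of_Nm_le le_top fun g hg => ?_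
  have h := mem_normalizer_iff''.1 hg.2
  rcases M.cent_S ((h z).1 M.z_mem) (fun x hx => by
    have := mem_centralizer_singleton_iff.1 (M.S_le ((mem_normalizer_iff.1 hg.2 x).1 hx))
    calc g⁻¹ * z * g * x = g⁻¹ * (z * (g * x * g⁻¹)) * g := by group
      _ = _ := by rw [← this]; group) with h | h
  · exact absurd (by simpa [mul_eq_one_iff_eq_inv] using h) M.z_ne
  · rw [mem_centralizer_singleton_iff]
    nth_rewrite 1 [← h]; group

omit [Finite G] in
theorem cls_cj {u : ℕ} (hu : val u) (hS : inM mS u = true) (h : cls u ≠ 15) :
    cls u < 8 ∧ bm u u = cI ∧ u ≠ cI ∧ ∃ c, val c ∧ Cj φ (φ c) u (rep (cls u)) := by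
  have := allM_sound cls_aux hu hS
  cases e : (Nat.beq (bm u u) cI && !(Nat.beq u cI))
  · rw [e, cond_false, Nat.beq_eq] at this; exact absurd this h
  · rw [e, cond_true, frc_eq] at this
    simp only [Bool.and_eq_true, Nat.blt_eq, Nat.beq_eq, Bool.not_eq_true', ← Bool.not_eq_true] at this e
    exact ⟨this.1, e.1, e.2, _, this.2.1, M.cj_code this.2.1 hu (val_rep _ this.1) this.2.2⟩

omit [Finite G] M in
theorem cls_ne {u : ℕ} (hu : val u) (hS : inM mS u = true) (h1 : bm u u = cI) (h2 : u ≠ cI) : cls u ≠ 15 := by
  have := allM_sound cls_aux hu hS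
  rw [h1, Nat.beq_refl, Bool.true_and, show Nat.beq u cI = false from Bool.eq_false_iff.2 fun h => h2 (Nat.beq_eq ▸ h)] at this
  simp only [Bool.not_false, cond_true, Bool.and_eq_true, Nat.blt_eq] at this
  omega

omit [Finite G] in
theorem cls_conj {u k : ℕ} (h : (valB u && inM mS u && Nat.beq (cls u) k && Nat.blt k 8) = true) :
    IsConj (φ u) (φ (rep k)) := by
  simp only [Bool.and_eq_true, Nat.beq_eq, Nat.blt_eq] at h
  obtain ⟨-, -, -, c, -, h1⟩ := M.cls_cj h.1.1.1 h.1.1.2 (by omega)
  exact h.1.2 ▸ h1.isConj

theorem inv_cls {g : G} (h : g * z = z * g) (h1 : g * g = 1) (h2 : g ≠ 1) :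
    ∃ k < 8, ∃ h, h * z = z * h ∧ h * g * h⁻¹ = φ (rep k) := by
  haveI : Fact (Nat.Prime 2) := ⟨Nat.prime_two⟩
  obtain ⟨x, hx, u, hu, hS, e⟩ := M.sylC.exists_conj_mem (mem_centralizer_singleton_iff.2 h) (k := 1) (by rwa [pow_one, pow_two])
  obtain ⟨h3, -, -, c, hc, h4⟩ := M.cls_cj hu hS (cls_ne hu hS
    ((M.mul_one_iff hu hu).1 (by rw [e, conj_mul, h1]; simp)) fun h => h2 (by
      rw [h, M.one] at e; simpa using e.symm))
  refine ⟨_, h3, φ c * x, mem_centralizer_singleton_iff.1 (mul_mem (M.mem_C.2 ⟨c, hc, rfl⟩) hx), ?_⟩
  rw [← h4.2.2, e]; group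

omit [Finite G] M in
theorem ncard_conj (g : G) (P : G → Prop) : {x | P (g * x * g⁻¹)}.ncard = {x | P x}.ncard := by
  refine Set.ncard_congr (fun x _ => g * x * g⁻¹) (fun _ h => h) (fun a b _ _ h => by simpa using h) fun b hb =>
    ⟨g⁻¹ * b * g, by simpa [mul_assoc] using hb, by group⟩

omit [Finite G] in
theorem rts_eq {u w : ℕ} (hu : val u) (hw : val w) :
    {x | x * z = z * x ∧ x * φ u = φ u * x ∧ x * x = φ w}.ncard = rts u w := by
  rw [rts, ← M.ncard]
  congr 1
  ext x
  simp only [Set.mem_setOf_eq, Bool.and_eq_true, Nat.beq_eq]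
  constructor
  · rintro ⟨h1, h2, h3⟩
    obtain ⟨c, hc, rfl⟩ := M.sur h1
    exact ⟨c, hc, ⟨(M.mul_eq' hc hc hw).1 h3, (M.comm_iff hc hu).1 h2⟩, rfl⟩
  · rintro ⟨c, hc, ⟨h1, h2⟩, rfl⟩
    exact ⟨M.com hc, (M.comm_iff hc hu).2 h2, (M.mul_eq' hc hc hw).2 h1⟩

theorem fus {u : ℕ} (hu : val u) (h : IsConj z (φ u)) : ∃ k < 8, ∃ g, Cj φ g u cZ ∧ Cj φ g cZ (rep k) ∧
    rts u u = rts (rep k) cZ ∧ rts u cZ = rts (rep k) (rep k) := by
  obtain ⟨g, hg⟩ := isConj_iff.1 h.symm
  obtain ⟨k, hk, h, h1, h2⟩ := M.inv_cls (g := g * z * g⁻¹) (by nth_rewrite 2 3 [← hg]; rw [conj_mul, conj_mul, M.com hu])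
    (by rw [conj_mul, M.zz]; simp) (by simpa using M.z_ne)
  have e1 : h * g * φ u * (h * g)⁻¹ = z := by
    calc _ = h * (g * φ u * g⁻¹) * h⁻¹ := by group
      _ = z := by rw [hg, h1]; group
  have e2 : h * g * z * (h * g)⁻¹ = φ (rep k) := by rw [← h2]; group
  refine ⟨k, hk, h * g, ⟨hu, val_Z, by rw [e1, M.hz]⟩, ⟨val_Z, val_rep k hk, by rw [M.hz, e2]⟩, ?_, ?_⟩
  · rw [← M.rts_eq hu hu, ← M.rts_eq (val_rep k hk) val_Z, M.hz, ← e2]
    refine Eq.trans ?_ (ncard_conj (h * g) _)
    congr 1; ext x
    simp only [Set.mem_setOf_eq]
    nth_rewrite 3 4 7 [← e1]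
    simp only [conj_mul, mul_left_inj, mul_right_inj]
    tauto
  · rw [← M.rts_eq hu val_Z, ← M.rts_eq (val_rep k hk) (val_rep k hk), M.hz, ← e2]
    refine Eq.trans ?_ (ncard_conj (h * g) _)
    congr 1; ext x
    simp only [Set.mem_setOf_eq]
    nth_rewrite 4 5 [← e1]
    simp only [conj_mul, mul_left_inj, mul_right_inj]
    tauto

theorem not_t : ¬ IsConj z (φ kt) := fun h => by
  obtain ⟨k, hk, -, -, -, h1, h2⟩ := M.fus (by decide) h
  rw [show kt = rep 3 from rfl, rts_u _ (by omega), rts_z _ hk] at h1
  rw [show kt = rep 3 from rfl, rts_z _ (by omega), rts_u _ hk] at h2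
  revert k; decide

theorem not_r0 : ¬ IsConj z (φ (rep 5)) := fun h => by
  obtain ⟨k, hk, -, -, -, h1, -⟩ := M.fus (by decide) h
  rw [rts_u _ (by omega), rts_z _ hk] at h1
  revert k; decide

end Mod
end CfH3.He
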