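import Cfsg.Agent.H3.Hf1
import Cfsg.Agent.H3.SL2Basic
import Cfsg.Agent.H6.TCSound
/-! The action of the involution centraliser on its extraspecial normal subgroup. -/
set_option autoImplicit false
set_option maxRecDepth 100000
open Subgroup CfH4 CfH9 CfH6
namespace CfH3.Hf
open CfH3.He

def XT : ℕ := 0xebdf8f3edd3970bb7ecdbbd72d58fbffcfbfdf3d78ab5e8d3ad52950cb9f0e3cd931609b3e4cb9d32548dbbf4ebddb35688b1e0c38d121406add8b36cd19303a7cc9b3c70d187afdcbb7cf1d382a5c8932c509104a9d0a34c911201a3c48b1c305085abd4ab5cb15280a1c0830c10100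
def TT (i : ℕ) : ℕ := cond (Nat.beq i 0) 0xddbf66dd7ab4e8eddfa75e7cb8f0fdffe7df7ebcf8cd9f265c78b0e09d3e64d972a4c8ad5ea55a74a8d0bd7ee5db76acd88d1e245870a0c05cbd62d56a94a86cdda3566c98b07cfde3d76e9cb84c9d22546890a01c3c60d16284882c5ca1526488903c7ce1d3668c980c1c2050608080 (cond (Nat.beq i 1) 0x52a35ead9b572f6cdfa75e7c98b070e7d7bfbf1fbecf992a4448f061912450b1a327ce2e5aad4a54c811b360d9a3876f5f8d1c205060a0c0d3a15aa58b776feddda3566cb8f0f1e5d3b7af3ffe4e9b2e4c58d021102654b9b3078eaf58a94244e8513262ddab974f1f0c1e2458708080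
  0x9f3b5eabb71cb80e191a22a538f0dfba5cafbf0c984e981826ad28d0bf7bdfa9b314a82e599b20a130e0fffaddadbb04886ed89924a920c01e395aa3a73cf88f1b1e2ab518b05eb858a7af2cd8cf9a1c2ebd08903e79dba1a334e8af5b9f28b110a07ef8d9a5ab24c8efda9d2cb90080)
def BT : ℕ := 0x69969669966969969696696969699696966969969669699669699696696996969669966969966996696969699696969669966996699669969696969696969696c33c3cc33cc3c33c3c3cc3c3c3c33c3c3cc3c33c3cc3c33cc3c33c3cc3c33c3c3cc33cc3c33cc33cc3c3c3c33c3c3c3cc33cc33cc33cc33c3c3c3c3c3c3c3c3c9966669966999966666699999999666666999966669999669999666699996666669966999966996699999999666666669966996699669966666666666666666633cccc33cc3333cccccc33333333cccccc3333cccc3333cc3333cccc3333cccccc33cc3333cc33cc33333333cccccccc33cc33cc33cc33cccccccccccccccccca55a5aa55aa5a55a5a5aa5a5a5a55a5a5aa5a55a5aa5a55aa5a55a5aa5a55a5a5aa55aa5a55aa55aa5a5a5a55a5a5a5aa55aa55aa55aa55a5a5a5a5a5a5a5a5a0ff0f00ff00f0ff0f0f00f0f0f0ff0f0f00f0ff0f00f0ff00f0ff0f00f0ff0f0f00ff00f0ff00ff00f0f0f0ff0f0f0f00ff00ff00ff00ff0f0f0f0f0f0f0f0f055aaaa55aa5555aaaaaa55555555aaaaaa5555aaaa5555aa5555aaaa5555aaaaaa55aa5555aa55aa55555555aaaaaaaa55aa55aa55aa55aaaaaaaaaaaaaaaaaaff0000ff00ffff000000ffffffff000000ffff0000ffff00ffff0000ffff000000ff00ffff00ff00ffffffff00000000ff00ff00ff00ff000000000000000000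
def hints : List (ℕ × ℕ × ℕ × ℕ) := [(34634485889, 0, 0, 0), (35726839937, 1, 0, 53), (17718845697, 0, 3, 0), (19933438209, 1, 3, 50), (35175547329, 0, 1, 0), (40645706177, 1, 1, 55), (17718913281, 2, 0, 49), (26050850882, 0, 4, 0), (28198596674, 1, 4, 50), (43220222083, 0, 6, 0), (50770493571, 1, 6, 52), (35301376389, 0, 5, 0), (35386311045, 1, 5, 52), (60267966598, 0, 2, 0), (63557087366, 1, 2, 50), (60268032142, 2, 6, 49), (34634716305, 2, 4, 33), (26050951258, 2, 1, 49), (35301543325, 2, 2, 41), (35175549921, 2, 5, 33), (43220255419, 2, 3, 17)]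
def bb (a b : ℕ) : ℕ := Nat.land (Nat.shiftRight BT (Nat.add (Nat.mul 64 a) b)) 1
def sg (a : ℕ) : Bool := Nat.beq (Nat.land (Nat.shiftRight 0x69c39933a50f55ff a) 1) 1
def cc (v w e f n : ℕ) : Bool := Nat.beq (bb v w) n && Nat.beq (bb v f) (bb e w)
def inn (q c : ℕ) : ℕ := Nat.xor c (Nat.mul 64 (Nat.xor (bq q c) (bq c q)))
/-- action of a word in `x` (letter 0) and `t` -/
noncomputable def wa (f : ℕ → ℕ) (w : List ℕ) (c : ℕ) : ℕ :=
  List.rec c (fun i _ r => frc r (cond (Nat.beq i 0) (lk XT) f)) w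
def ex {G : Type*} (x t : G) (i : ℕ) : G := cond (Nat.beq i 0) x t
noncomputable def triv (f : ℕ → ℕ) : Bool := [1, 2, 4, 8, 16, 32].all fun c => Nat.beq (Nat.land (f c) 63) c
def w3 : List ℕ := [0, 1, 0, 1, 0, 1]
def w4 : List ℕ := [0, 0, 0, 0, 1, 0, 0, 0, 0, 1, 0, 0, 0, 0, 1, 0, 0, 0, 0, 1]
def wk (k : ℕ) : List ℕ := List.replicate k 0 ++ 1 :: List.replicate (7 - k) 0
noncomputable def leaf (a0 a1 a2 a3 a4 a5 : ℕ) : Bool :=
  !(triv (wa (ext a0 a1 a2 a3 a4 a5) w3) && triv (wa (ext a0 a1 a2 a3 a4 a5) w4)) ||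
  hints.any fun h => Nat.beq h.1 (a0 + 64 * (a1 + 64 * (a2 + 64 * (a3 + 64 * (a4 + 64 * a5))))) && Nat.blt h.2.1 3 &&
    Nat.blt h.2.2.2 128 && al (fun c => frc (wa (ext a0 a1 a2 a3 a4 a5) (wk h.2.2.1) c) fun d =>
      Nat.beq (inn h.2.2.2 d) (lk (TT h.2.1) c)) 128

theorem enumT : al (fun a0 => !(sg a0) ||
  al (fun a1 => !(sg a1 && cc a1 a0 2 1 0) ||
  al (fun a2 => !(sg a2 && cc a2 a0 4 1 0 && cc a2 a1 4 2 0) ||
  al (fun a3 => !(sg a3 && cc a3 a0 8 1 1 && cc a3 a1 8 2 0 && cc a3 a2 8 4 0) ||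
  al (fun a4 => !(sg a4 && cc a4 a0 16 1 0 && cc a4 a1 16 2 0 && cc a4 a2 16 4 1 && cc a4 a3 16 8 0) ||
  al (fun a5 => !(sg a5 && cc a5 a0 32 1 0 && cc a5 a1 32 2 1 && cc a5 a2 32 4 0 && cc a5 a3 32 8 0 && cc a5 a4 32 16 0) ||
  leaf a0 a1 a2 a3 a4 a5) 64) 64) 64) 64) 64) 64 = true := by decide +kernel

theorem inn_aux : al (fun q => al (fun c => frc (inn q c) fun d => Nat.blt d 128 && Nat.beq (mq q c) (mq d q) &&
    Nat.beq (Nat.land d 63) (Nat.land c 63) && (Nat.beq d c || Nat.beq d (mq c 64))) 128) 128 = true := by decide +kernel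
theorem bb_aux : al (fun a => al (fun b => Nat.beq (bb a b) (cond (Nat.beq (mq a b) (mq b a)) 0 1)) 64) 64 = true := by
  decide +kernel
theorem xi_aux : al (fun c => Nat.beq (ext 2 4 3 40 8 16 c) (lk XT c)) 128 = true := by decide +kernel
theorem tt_aux : ∀ i < 3, al (fun c => Nat.beq (wa (lk (TT i)) [1, 1] c) c && Nat.beq (wa (lk (TT i)) w3 c) c) 128 = true := by
  decide +kernel

@[simp] theorem ex0 {G : Type*} (x t : G) : ex x t 0 = x := rfl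
@[simp] theorem ex1 {G : Type*} (x t : G) : ex x t 1 = t := rfl

variable {G : Type*} [Group G] {z x t : G} {ψ : ℕ → G}

theorem Act.congr {g : G} {f f' : ℕ → ℕ} (h : Act ψ g f) (e : ∀ c < 128, f c = f' c) : Act ψ g f' :=
  fun c hc => e c hc ▸ h c hc

theorem Act.mul {g h : G} {f f' : ℕ → ℕ} (h1 : Act ψ g f) (h2 : Act ψ h f') : Act ψ (g * h) fun c => f (f' c) := fun c hc =>
  ⟨hc, (h1 _ (h2 c hc).2.1).2.1, by rw [← (h1 _ (h2 c hc).2.1).2.2, ← (h2 c hc).2.2]; group⟩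

theorem Act.wa {f : ℕ → ℕ} (h1 : Act ψ x (lk XT)) (h2 : Act ψ t f) (w : List ℕ) : Act ψ (evw (ex x t) w) (wa f w) := by
  induction w with
  | nil => exact fun c hc => ⟨hc, hc, by simp [Hf.wa]⟩
  | cons i w ih =>
    rw [evw_cons]
    have : Act ψ (ex x t i) (cond (Nat.beq i 0) (lk XT) f) := by unfold ex; cases Nat.beq i 0; exacts [h2, h1]
    exact (this.mul ih).congr fun c _ => (frc_eq _ _).symm

namespace Q0
variable (D : Q0 z ψ)
include D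

theorem act_inn {q : ℕ} (hq : q < 128) : Act ψ (ψ q) (inn q) := fun c hc => by
  have := al2 inn_aux hq hc
  simp only [frc_eq, Bool.and_eq_true, Nat.beq_eq, Nat.blt_eq] at this
  exact ⟨hc, this.1.1.1, by rw [← D.mul hq hc, this.1.1.2, D.mul this.1.1.1 hq, mul_inv_cancel_right]⟩

theorem conj_q {q c : ℕ} (hq : q < 128) (hc : c < 128) : ψ q * ψ c * (ψ q)⁻¹ = ψ c ∨ ψ q * ψ c * (ψ q)⁻¹ = ψ c * z := by
  have := al2 inn_aux hq hc
  simp only [frc_eq, Bool.and_eq_true, Nat.beq_eq, Bool.or_eq_true] at this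
  rw [(D.act_inn hq c hc).2.2]
  rcases this.2 with h | h <;> rw [h]
  exacts [Or.inl rfl, Or.inr (by rw [D.mul hc (by omega), D.hz])]

theorem act_uniq {g : G} {f f' : ℕ → ℕ} (h1 : Act ψ g f) (h2 : Act ψ g f') {c : ℕ} (hc : c < 128) : f c = f' c :=
  D.inj (h1 c hc).2.1 (h2 c hc).2.1 ((h1 c hc).2.2.symm.trans (h2 c hc).2.2)

theorem triv_of {f : ℕ → ℕ} {q : ℕ} (hq : q < 128) (h : Act ψ (ψ q) f) : triv f = true := by
  simp only [triv, List.all_eq_true, Nat.beq_eq]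
  intro c hc
  have h1 : c < 128 ∧ Nat.land c 63 = c := by revert c; decide
  have := al2 inn_aux hq h1.1
  simp only [frc_eq, Bool.and_eq_true, Nat.beq_eq] at this
  rw [D.act_uniq h (D.act_inn hq) h1.1, this.1.2, h1.2]

theorem bb_eq {a b c d : ℕ} (ha : a < 64) (hb : b < 64) (hc : c < 64) (hd : d < 64)
    (h : Commute (ψ a) (ψ b) ↔ Commute (ψ c) (ψ d)) : bb a b = bb c d := by
  have k : ∀ {a b}, a < 64 → b < 64 → (Nat.beq (mq a b) (mq b a) = true ↔ Commute (ψ a) (ψ b)) := fun {a b} ha hb => by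
    rw [Nat.beq_eq, Commute, SemiconjBy, ← D.mul (by omega) (by omega), ← D.mul (by omega) (by omega)]
    exact ⟨fun h => by rw [h], D.inj (mq_lt (by omega) (by omega)) (mq_lt (by omega) (by omega))⟩
  rw [Nat.eq_of_beq_eq_true (al2 bb_aux ha hb), Nat.eq_of_beq_eq_true (al2 bb_aux hc hd),
    Bool.eq_iff_iff.2 ((k ha hb).trans (h.trans (k hc hd).symm))]

theorem cc_of {q v w e f n : ℕ} (hq : q < 128) (h : t * t = ψ q) (h1 : Cq ψ t e v) (h2 : Cq ψ t f w) (hv : v < 64) (hw : w < 64)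
    (k : e < 64 ∧ f < 64 ∧ bb e f = n) : cc v w e f n = true := by
  rw [cc, Bool.and_eq_true, Nat.beq_eq, Nat.beq_eq, ← k.2.2]
  refine ⟨D.bb_eq hv hw k.1 k.2.1 (by rw [← h1.2.2, ← h2.2.2, Commute.conj_iff]), D.bb_eq hv k.2.1 k.1 hw ?_⟩
  rw [← Commute.conj_iff t, h2.2.2, ← h1.2.2, show t * (t * ψ e * t⁻¹) * t⁻¹ = t * t * ψ e * (t * t)⁻¹ by group, h]
  rcases D.conj_q hq h1.1 with h3 | h3 <;> rw [h3]
  have c : Commute z (ψ w) := (D.com h2.2.1).symm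
  exact ⟨fun h => by simpa using h.mul_left c.inv_left, fun h => h.mul_left c⟩

theorem sg_of {v e : ℕ} (h1 : Cq ψ t e v) (hv : v < 64) (k : mq e e = 0) : sg v = true := by
  have : ∀ v < 64, mq v v = 0 → sg v = true := by decide +kernel
  refine this v hv (D.ker (mq_lt h1.2.1 h1.2.1) ?_)
  rw [D.mul h1.2.1 h1.2.1, ← h1.2.2, conj_mul, ← D.mul h1.1 h1.1, k, D.one]; simp

theorem cq_sign {q e a : ℕ} (hq : q < 128) (ht : t * z = z * t) (h : Cq ψ t e a) (k : inn q e = cond (Nat.blt a 64) e (mq e 64)) :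
    Cq ψ (t * ψ q) e (a % 64) := by
  refine ⟨h.1, by omega, ?_⟩
  rw [show t * ψ q * ψ e * (t * ψ q)⁻¹ = t * (ψ q * ψ e * (ψ q)⁻¹) * t⁻¹ by group, (D.act_inn hq e h.1).2.2, k]
  by_cases ha : a < 64
  · rw [Nat.blt_eq.mpr ha, cond_true, h.2.2, Nat.mod_eq_of_lt ha]
  · have : ∀ a < 128, ¬ a < 64 → mq a 64 = a % 64 := by decide +kernel
    rw [show Nat.blt a 64 = false from Bool.eq_false_iff.2 fun h => ha (Nat.blt_eq.mp h), cond_false, D.mul h.1 (by omega),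
      ← this a h.2.1 ha, D.mul h.2.1 (by omega), ← h.2.2, D.hz, ← mul_assoc, mul_assoc _ z, ← inv_mul_cancel_left t (z * t⁻¹),
      ← mul_assoc t, ht]
    group

theorem classify (hx : Act ψ x (lk XT)) (R : G → Prop) (hR : ∀ t, R t → ∀ q < 128, R (t * ψ q))
    (hR' : ∀ t, R t → t * z = z * t ∧ (∀ c < 128, ∃ d, Cq ψ t c d) ∧ (∃ q < 128, t * t = ψ q) ∧
      (∃ q < 128, evw (ex x t) w3 = ψ q) ∧ ∃ q < 128, evw (ex x t) w4 = ψ q) (h : R t) : ∃ t', ∃ i < 3, Act ψ t' (lk (TT i)) := by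
  obtain ⟨h1, h2, -⟩ := hR' t h
  obtain ⟨b0, c0⟩ := h2 1 (by omega)
  obtain ⟨b1, c1⟩ := h2 2 (by omega)
  obtain ⟨b2, c2⟩ := h2 4 (by omega)
  obtain ⟨b3, c3⟩ := h2 8 (by omega)
  obtain ⟨b4, c4⟩ := h2 16 (by omega)
  obtain ⟨b5, c5⟩ := h2 32 (by omega)
  have : ∀ s0 s1 s2 s3 s4 s5 : Bool, an (fun q => Nat.beq (inn q 1) (cond s0 1 (mq 1 64)) && Nat.beq (inn q 2) (cond s1 2 (mq 2 64)) &&
    Nat.beq (inn q 4) (cond s2 4 (mq 4 64)) && Nat.beq (inn q 8) (cond s3 8 (mq 8 64)) && Nat.beq (inn q 16) (cond s4 16 (mq 16 64)) &&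
    Nat.beq (inn q 32) (cond s5 32 (mq 32 64))) 64 = true := by decide +kernel
  simp only [an_iff, Bool.and_eq_true, Nat.beq_eq] at this
  obtain ⟨q, hq, ⟨⟨⟨⟨k0, k1⟩, k2⟩, k3⟩, k4⟩, k5⟩ := this _ _ _ _ _ _
  replace hq : q < 128 := by omega
  replace c0 := D.cq_sign hq h1 c0 k0
  replace c1 := D.cq_sign hq h1 c1 k1
  replace c2 := D.cq_sign hq h1 c2 k2
  replace c3 := D.cq_sign hq h1 c3 k3
  replace c4 := D.cq_sign hq h1 c4 k4
  replace c5 := D.cq_sign hq h1 c5 k5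
  obtain ⟨h1, -, ⟨p, hp, e2⟩, ⟨p3, hp3, e3⟩, p4, hp4, e4⟩ := hR' _ (hR t h q hq)
  have l : ∀ b, b % 64 < 64 := fun b => Nat.mod_lt _ (by omega)
  have A := D.act_ext h1 c0 c1 c2 c3 c4 c5
  have im : ∀ {a b : Bool}, (!a || b) = true → a = true → b = true := by decide
  have E := im (al_iff.1 (im (al_iff.1 (im (al_iff.1 (im (al_iff.1 (im (al_iff.1 (im (al_iff.1 enumT _ (l b0))
    (D.sg_of c0 (l _) rfl)) _ (l b1)) (by
      simp only [Bool.and_eq_true]; exact ⟨D.sg_of c1 (l _) rfl, D.cc_of hp e2 c1 c0 (l _) (l _) (by decide +kernel)⟩)) _ (l b2)) (by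
      simp only [Bool.and_eq_true]
      refine ⟨⟨D.sg_of c2 (l _) rfl, ?_⟩, ?_⟩ <;> exact D.cc_of hp e2 ‹_› ‹_› (l _) (l _) (by decide +kernel))) _ (l b3)) (by
      simp only [Bool.and_eq_true]
      refine ⟨⟨⟨D.sg_of c3 (l _) rfl, ?_⟩, ?_⟩, ?_⟩ <;> exact D.cc_of hp e2 ‹_› ‹_› (l _) (l _) (by decide +kernel))) _ (l b4)) (by
      simp only [Bool.and_eq_true]
      refine ⟨⟨⟨⟨D.sg_of c4 (l _) rfl, ?_⟩, ?_⟩, ?_⟩, ?_⟩ <;>
        exact D.cc_of hp e2 ‹_› ‹_› (l _) (l _) (by decide +kernel))) _ (l b5)) (by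
      simp only [Bool.and_eq_true]
      refine ⟨⟨⟨⟨⟨D.sg_of c5 (l _) rfl, ?_⟩, ?_⟩, ?_⟩, ?_⟩, ?_⟩ <;>
        exact D.cc_of hp e2 ‹_› ‹_› (l _) (l _) (by decide +kernel))
  replace E := im E (by rw [D.triv_of hp3 (e3 ▸ hx.wa A w3), D.triv_of hp4 (e4 ▸ hx.wa A w4)]; rfl)
  obtain ⟨⟨k, i, j, r⟩, -, E⟩ := List.any_eq_true.1 E
  simp only [Bool.and_eq_true, Nat.blt_eq, al_iff, frc_eq, Nat.beq_eq] at E
  exact ⟨_, i, E.1.1.2, ((D.act_inn E.1.2).mul (hx.wa A (wk j))).congr E.2⟩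

end Q0

structure Dat (z x t : G) (ψ : ℕ → G) (T e : ℕ) : Prop where
  q : Q0 z ψ
  cen : ∀ g, (∀ c < 128, g * ψ c = ψ c * g) → g = 1 ∨ g = z
  ax : Act ψ x (lk XT)
  ay : Act ψ t (lk T)
  x7 : x ^ 7 = 1
  t2 : t * t = z ^ e
  xt : (x * t) ^ 3 = 1

theorem Q0.act_z (D : Q0 z ψ) : Act ψ z id := fun c hc => ⟨hc, hc, by rw [← D.com hc]; simp⟩

theorem act_triv (cen : ∀ g, (∀ c < 128, g * ψ c = ψ c * g) → g = 1 ∨ g = z) {g : G} {f : ℕ → ℕ} (h : Act ψ g f)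
    (e : ∀ c < 128, f c = c) : g = 1 ∨ g = z :=
  cen g fun c hc => mul_inv_eq_iff_eq_mul.1 (by rw [(h c hc).2.2, e c hc])

theorem mk_dat (D : Q0 z ψ) (cen : ∀ g, (∀ c < 128, g * ψ c = ψ c * g) → g = 1 ∨ g = z) (hx : Act ψ x (lk XT)) (x7 : x ^ 7 = 1)
    {i : ℕ} (hi : i < 3) (ht : Act ψ t (lk (TT i))) : ∃ t e, e < 2 ∧ Dat z x t ψ (TT i) e := by
  have k := tt_aux i hi
  simp only [al_iff, Bool.and_eq_true, Nat.beq_eq] at k
  have f : ∀ t, Act ψ t (lk (TT i)) → (x * t) ^ 3 = 1 → ∃ t e, e < 2 ∧ Dat z x t ψ (TT i) e := fun t ht h => by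
    rcases act_triv cen (hx.wa ht [1, 1]) fun c hc => (k c hc).1 with h1 | h1
    · exact ⟨t, 0, by omega, D, cen, hx, ht, x7, by simpa using h1, h⟩
    · exact ⟨t, 1, by omega, D, cen, hx, ht, x7, by simpa using h1, h⟩
  have h3 : evw (ex x t) w3 = (x * t) ^ 3 := by simp [w3, pow_succ, mul_assoc]
  rcases act_triv cen (hx.wa ht w3) fun c hc => (k c hc).2 with h1 | h1 <;> rw [h3] at h1
  · exact f t ht h1
  · refine f (t * z) (ht.mul D.act_z) ?_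
    have c : Commute (x * t) z := by rw [← h1]; exact (Commute.refl _).pow_right 3
    rw [← mul_assoc, c.mul_pow, h1, pow_succ, pow_two, D.zz, one_mul, D.zz]

abbrev SL3 := Matrix.SpecialLinearGroup (Fin 3) (ZMod 2)
def sX : SL3 := ⟨!![0, 0, 1; 1, 0, 1; 0, 1, 0], by decide⟩
def sT : SL3 := ⟨!![1, 0, 0; 0, 0, 1; 0, 1, 0], by decide⟩

theorem exists_dat [Finite G] (hz : orderOf z = 2) (Q : Subgroup Cx(z)) [Q.Normal] (hQ : Cfsg.IsExtraspecial 2 Q)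
    (hcard : Nat.card Q = 2 ^ 7) (h2c : Cz(Q) ≤ Q) (e : Cx(z) ⧸ Q ≃* SL3) :
    Nat.card Cx(z) = 21504 ∧ ∃ x t ψ, ∃ i < 3, ∃ e < 2, Dat z x t ψ (TT i) e := by
  constructor
  · have := CfH3.card_SL_mul (n := Fin 3) (F := ZMod 2)
    rw [Matrix.card_GL_field] at this
    rw [card_eq_card_quotient_mul_card_subgroup Q, hcard, Nat.card_congr e.toEquiv,
      show Nat.card SL3 = 168 by simpa [Fin.prod_univ_succ] using this]
    rfl
  obtain ⟨z0, h⟩ := exists_es2 hQ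
  let π : Cx(z) →* SL3 := e.toMonoidHom.comp (QuotientGroup.mk' Q)
  have hπ : ∀ g, π g = 1 ↔ g ∈ Q := fun g => e.map_eq_one_iff.trans (QuotientGroup.eq_one_iff g)
  have sπ : Function.Surjective π := e.surjective.comp (QuotientGroup.mk'_surjective Q)
  have cq : ∀ g : Cx(z), (∀ q : Q, g * q = q * g) → g = 1 ∨ g = z0 := fun g hg => by
    have m : g ∈ Q := h2c fun q hq => (hg ⟨q, hq⟩).symm
    rcases h.center ⟨g, m⟩ fun y => Subtype.ext (hg y) with h1 | h1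
    exacts [Or.inl (congrArg Subtype.val h1), Or.inr (congrArg Subtype.val h1)]
  have e0 : ((z0 : Cx(z)) : G) = z := by
    rcases cq ⟨z, mem_Cx.2 rfl⟩ fun q => Subtype.ext (mem_Cx.1 (q : Cx(z)).2).symm with h1 | h1
    · rw [show z = 1 from congrArg Subtype.val h1, orderOf_one] at hz; omega
    · rw [← h1]
  obtain ⟨x0, hx0⟩ := sπ sX
  obtain ⟨t0, ht0⟩ := sπ sT
  have x7 : (x0 ^ 8) ^ 7 = 1 := by
    have m : x0 ^ 7 ∈ Q := (hπ _).1 (by rw [map_pow, hx0]; decide +kernel)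
    have : (⟨_, m⟩ : Q) ^ 8 = 1 := by
      rw [show 8 = 2 * 4 from rfl, pow_mul, pow_two]
      rcases h.sq_eq ⟨_, m⟩ with h1 | h1 <;> rw [h1]
      · exact one_pow _
      · rw [show 4 = 2 * 2 from rfl, pow_mul, pow_two z0, h.sq, one_pow]
    rw [← pow_mul, mul_comm, pow_mul]
    exact congrArg Subtype.val this
  have hx : π (x0 ^ 8) = sX := by rw [map_pow, hx0]; decide +kernel
  generalize x0 ^ 8 = x at x7 hx
  obtain ⟨ψ, D0, sur, a1, a2, a3, a4, a5, a6⟩ := coord h hcard (MulAut.conjNormal x) (by rw [← map_pow, x7, map_one]) fun h1 => by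
    have m : x ∈ Q := h2c fun q hq => (mul_inv_eq_iff_eq_mul.1 (congrArg (fun f : MulAut Q => (f ⟨q, hq⟩ : Cx(z))) h1)).symm
    rw [(hπ x).2 m] at hx
    exact absurd hx (by decide +kernel)
  have D : Q0 z fun c => ((ψ c : Cx(z)) : G) := ⟨fun ha hb => by rw [D0.mul ha hb]; rfl, by rw [D0.hz, e0],
    fun h1 => by rw [h1, orderOf_one] at hz; omega⟩
  have cen : ∀ g, (∀ c < 128, g * ((ψ c : Cx(z)) : G) = ((ψ c : Cx(z)) : G) * g) → g = 1 ∨ g = z := fun g hg => by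
    rcases cq ⟨g, mem_Cx.2 (D.hz ▸ hg 64 (by omega))⟩ fun q => (by
      obtain ⟨c, hc, rfl⟩ := sur q; exact Subtype.ext (hg c hc)) with h1 | h1
    exacts [Or.inl (congrArg Subtype.val h1), Or.inr ((congrArg Subtype.val h1).trans e0)]
  have cv : ∀ {a b}, a < 128 → b < 128 → MulAut.conjNormal x (ψ a) = ψ b → Cq (fun c => ((ψ c : Cx(z)) : G)) x a b :=
    fun ha hb h1 => ⟨ha, hb, by beta_reduce; rw [← h1]; rfl⟩
  have ax := (D.act_ext (mem_Cx.1 x.2) (cv (by omega) (by omega) a1) (cv (by omega) (by omega) a2) (cv (by omega) (by omega) a3)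
    (cv (by omega) (by omega) a4) (cv (by omega) (by omega) a5) (cv (by omega) (by omega) a6)).congr
    fun c hc => Nat.eq_of_beq_eq_true (al_iff.1 xi_aux c hc)
  have mq : ∀ g : Cx(z), π g = 1 → ∃ q < 128, (g : G) = ((ψ q : Cx(z)) : G) := fun g hg => by
    obtain ⟨c, hc, h1⟩ := sur ⟨g, (hπ g).1 hg⟩
    exact ⟨c, hc, by rw [h1]⟩
  obtain ⟨t, i, hi, ht⟩ := D.classify ax (fun t => ∃ s : Cx(z), s = t ∧ π s = sT) (by
      rintro _ ⟨s, rfl, hs⟩ q _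
      exact ⟨s * ψ q, rfl, by rw [map_mul, hs, (hπ _).2 (ψ q).2, mul_one]⟩) (by
      rintro _ ⟨s, rfl, hs⟩
      have ew : ∀ w, evw (ex sX sT) w = 1 → ∃ q < 128, evw (ex (x : G) s) w = ((ψ q : Cx(z)) : G) := fun w hw => by
        have h1 : ∀ w, ((evw (ex x s) w : Cx(z)) : G) = evw (ex (x : G) s) w ∧ π (evw (ex x s) w) = evw (ex sX sT) w := fun w => by
          induction w with
          | nil => exact ⟨rfl, π.map_one⟩
          | cons i w ih =>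
            rw [evw_cons, evw_cons, evw_cons, map_mul, coe_mul, ih.1, ih.2]
            unfold ex
            cases Nat.beq i 0 <;> simp [hx, hs]
        rw [← (h1 w).1]
        exact mq _ ((h1 w).2.trans hw)
      refine ⟨mem_Cx.1 s.2, fun c hc => ?_, mq (s * s) (by rw [map_mul, hs]; decide +kernel), ew _ (by decide +kernel),
        ew _ (by decide +kernel)⟩
      obtain ⟨d, hd, h1⟩ := sur (MulAut.conjNormal s (ψ c))
      exact ⟨d, hc, hd, by beta_reduce; rw [h1]; rfl⟩) ⟨t0, rfl, ht0⟩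
  obtain ⟨t, e, he, h⟩ := mk_dat D cen ax (congrArg Subtype.val x7) hi ht
  exact ⟨_, t, _, i, hi, e, he, h⟩

end CfH3.Hf
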