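import Cfsg.Agent.OD.Pre
import Cfsg.Agent.H6.TCTop
/-! coset enumeration certificate; generators a b c C d e f ; index 45 -/
set_option autoImplicit false
set_option maxRecDepth 100000
set_option Elab.async false
set_option linter.all false
namespace CfH6.HxHT2
open CfH6
noncomputable def tab0 : Tr := (Tr.l (nat_lit 0x9aeb2b6c87e26a63435c7961865b9a642ae52ae9286a29e774d4695527d642d123e826e676576550854f26da675e29df2560835373cc235d25d925d864495448245262cb82ca24ce24cd73446246524523c7414131c221c310c0))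
noncomputable def tab1 : Tr := (Tr.l (nat_lit 0x25ec656baa6a6969b9e879e7856624652464856364e254e195e065df55deb65d28dca75b76da64d984d823d763d653d5345483d394d2255163d083cf644e544d334c62cb82ca6349534873c76246524532c4424331c221c110c0))
noncomputable def tab2 : Tr := (Tr.l (nat_lit 0xba6478e5835ea95f49e75a688359596b5aec82d5645658dc33d459e953ea46da986182d0575d53e682cd565154e253635460824b334c35d7535b8248634e535853d252d381c573c952cf32c76246524a3244424331c221c110c0))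
noncomputable def tab3 : Tr := (Tr.l (nat_lit 0x2aea74623b6c7a63b45ca96064e698da3bd73ae934eb52d439e737d252d1885634e8645b396573ce63d84b6438dd524c336163d3775f335e7349634f3459524732d572c662ca33d051c432cd334b51423248424331c521c110c0))
noncomputable def tab4 : Tr := (Tr.l (nat_lit 0x2ae7536199e0535c3a633b6c746626d729daa9e852d433eb3a6a52d126d2395533e996db3a6452cd63d83765524c88dd33627353375e335f5248644f5247335932d651c562ca51c432d032ce5142324b324942c331c6224110c0))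
noncomputable def tab5 : Tr := (Tr.l (nat_lit 0x236368e299e91a6a39e71a6895e622d622d513ec196bb7d447dca4de155f36da18609453175d665975d8224c13651364186114db83d1145265cb74ca644e354d12d71650154f63465345434713c913c84242324312c420c01141))
noncomputable def tab6 : Tr := (Tr.l (nat_lit 0x5a64396b786a345f6966235919e88a651aec7a6333d618db22d314e937de65d822d0586122cd13e7165d454f146239d5224b1360224a2248135c15d7334e135a21c512d412d232c912d121c33246124c2141124720c011c41142))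
noncomputable def tab7 : Tr := (Tr.l (nat_lit 0))
noncomputable def tab8 : Tr := (Tr.l (nat_lit 0x542406255243643062642543626642436424364360650))
noncomputable def tab9 : Tr := (Tr.l (nat_lit 0))
noncomputable def tab10 : Tr := (Tr.l (nat_lit 0))
noncomputable def tab11 : Tr := (Tr.l (nat_lit 0))
noncomputable def tab12 : Tr := (Tr.l (nat_lit 0))
noncomputable def tab13 : Tr := (Tr.l (nat_lit 0))
noncomputable def tab14 : Tr := (Tr.l (nat_lit 0))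
noncomputable def tab15 : Tr := (Tr.l (nat_lit 0))
noncomputable def tab16 : Tr := (Tr.l (nat_lit 0))
noncomputable def ty0 : TT := (TT.n (TT.n (TT.n (TT.n (TT.l (Ty.ssub [] []))
 (TT.l (Ty.rel5 (nat_lit 5) (nat_lit 0) (nat_lit 5) (nat_lit 0) (nat_lit 5))))
 (TT.l (Ty.rel3 (nat_lit 3) (nat_lit 0) (nat_lit 3))))
 (TT.n (TT.l (Ty.relL (nat_lit 6) [nat_lit 2, nat_lit 3, nat_lit 2, nat_lit 1, nat_lit 0, nat_lit 1, nat_lit 2, nat_lit 3, nat_lit 6]))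
 (TT.l (Ty.relL (nat_lit 1) [nat_lit 6, nat_lit 1, nat_lit 0, nat_lit 2, nat_lit 6]))))
 (TT.n (TT.n (TT.l (Ty.rel1 (nat_lit 0)))
 (TT.l (Ty.rel3 (nat_lit 4) (nat_lit 0) (nat_lit 4))))
 (TT.n (TT.l (Ty.dfn))
 (TT.l (Ty.rel3 (nat_lit 2) (nat_lit 0) (nat_lit 2))))))
noncomputable def ty1 : TT := (TT.n (TT.n (TT.n (TT.n (TT.l (Ty.ssub [] []))
 (TT.l (Ty.relL (nat_lit 6) [nat_lit 1, nat_lit 0, nat_lit 6, nat_lit 2, nat_lit 0])))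
 (TT.l (Ty.rel3 (nat_lit 3) (nat_lit 1) (nat_lit 3))))
 (TT.n (TT.n (TT.l (Ty.relL (nat_lit 6) [nat_lit 2, nat_lit 1, nat_lit 0, nat_lit 1, nat_lit 2, nat_lit 1, nat_lit 0, nat_lit 6]))
 (TT.l (Ty.relL (nat_lit 6) [nat_lit 1, nat_lit 2, nat_lit 0, nat_lit 6, nat_lit 0])))
 (TT.l (Ty.relL (nat_lit 0) [nat_lit 6, nat_lit 2, nat_lit 0, nat_lit 1, nat_lit 6]))))
 (TT.n (TT.n (TT.n (TT.l (Ty.rel3 (nat_lit 5) (nat_lit 1) (nat_lit 5)))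
 (TT.l (Ty.relL (nat_lit 4) [nat_lit 5, nat_lit 4, nat_lit 2, nat_lit 5, nat_lit 2])))
 (TT.l (Ty.rel3 (nat_lit 4) (nat_lit 1) (nat_lit 4))))
 (TT.n (TT.l (Ty.relL (nat_lit 0) [nat_lit 1, nat_lit 5, nat_lit 0, nat_lit 1, nat_lit 0, nat_lit 5, nat_lit 0]))
 (TT.l (Ty.relL (nat_lit 2) [nat_lit 3, nat_lit 2, nat_lit 1, nat_lit 2, nat_lit 3, nat_lit 1, nat_lit 2])))))
noncomputable def ty2 : TT := (TT.n (TT.n (TT.n (TT.n (TT.l (Ty.ssub [] []))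
 (TT.l (Ty.relL (nat_lit 5) [nat_lit 4, nat_lit 2, nat_lit 1, nat_lit 2, nat_lit 4, nat_lit 2, nat_lit 1, nat_lit 5])))
 (TT.l (Ty.rel1 (nat_lit 2))))
 (TT.n (TT.n (TT.l (Ty.rel3 (nat_lit 6) (nat_lit 2) (nat_lit 6)))
 (TT.l (Ty.relL (nat_lit 4) [nat_lit 5, nat_lit 4, nat_lit 1, nat_lit 2, nat_lit 5])))
 (TT.l (Ty.relL (nat_lit 5) [nat_lit 2, nat_lit 4, nat_lit 5, nat_lit 4, nat_lit 1]))))
 (TT.n (TT.n (TT.n (TT.l (Ty.relL (nat_lit 5) [nat_lit 1, nat_lit 2, nat_lit 4, nat_lit 2, nat_lit 1, nat_lit 2, nat_lit 4, nat_lit 5]))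
 (TT.l (Ty.relL (nat_lit 3) [nat_lit 2, nat_lit 4, nat_lit 2, nat_lit 4, nat_lit 3, nat_lit 2, nat_lit 4])))
 (TT.l (Ty.relL (nat_lit 4) [nat_lit 2, nat_lit 6, nat_lit 4, nat_lit 2, nat_lit 4, nat_lit 6, nat_lit 4])))
 (TT.n (TT.l (Ty.rel3 (nat_lit 0) (nat_lit 2) (nat_lit 0)))
 (TT.l (Ty.dfn)))))
noncomputable def ty3 : TT := (TT.n (TT.n (TT.n (TT.n (TT.l (Ty.ssub [] []))
 (TT.l (Ty.relL (nat_lit 5) [nat_lit 3, nat_lit 2, nat_lit 4, nat_lit 2, nat_lit 1, nat_lit 2, nat_lit 4, nat_lit 2, nat_lit 1, nat_lit 5])))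
 (TT.l (Ty.dfn)))
 (TT.n (TT.n (TT.l (Ty.rel1 (nat_lit 3)))
 (TT.l (Ty.relL (nat_lit 6) [nat_lit 3, nat_lit 5, nat_lit 4, nat_lit 6, nat_lit 0, nat_lit 3, nat_lit 6, nat_lit 3, nat_lit 5, nat_lit 4, nat_lit 6, nat_lit 0])))
 (TT.l (Ty.rel3 (nat_lit 4) (nat_lit 3) (nat_lit 4)))))
 (TT.n (TT.n (TT.n (TT.l (Ty.relL (nat_lit 5) [nat_lit 1, nat_lit 2, nat_lit 4, nat_lit 2, nat_lit 1, nat_lit 2, nat_lit 4, nat_lit 2, nat_lit 3, nat_lit 5]))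
 (TT.l (Ty.relL (nat_lit 2) [nat_lit 1, nat_lit 0, nat_lit 1, nat_lit 2, nat_lit 3, nat_lit 2, nat_lit 6, nat_lit 0, nat_lit 6])))
 (TT.l (Ty.rel5 (nat_lit 2) (nat_lit 3) (nat_lit 2) (nat_lit 3) (nat_lit 2))))
 (TT.n (TT.l (Ty.rel3 (nat_lit 0) (nat_lit 3) (nat_lit 0)))
 (TT.l (Ty.relL (nat_lit 0) [nat_lit 6, nat_lit 4, nat_lit 5, nat_lit 3, nat_lit 6, nat_lit 3, nat_lit 0, nat_lit 6, nat_lit 4, nat_lit 5, nat_lit 3, nat_lit 6])))))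
noncomputable def ty4 : TT := (TT.n (TT.n (TT.n (TT.n (TT.l (Ty.ssub [] []))
 (TT.l (Ty.relL (nat_lit 5) [nat_lit 4, nat_lit 1, nat_lit 2, nat_lit 5, nat_lit 2])))
 (TT.l (Ty.dfn)))
 (TT.n (TT.l (Ty.rel1 (nat_lit 4)))
 (TT.l (Ty.relL (nat_lit 2) [nat_lit 4, nat_lit 2, nat_lit 4, nat_lit 2, nat_lit 4, nat_lit 2]))))
 (TT.n (TT.n (TT.n (TT.l (Ty.relL (nat_lit 1) [nat_lit 2, nat_lit 5, nat_lit 2, nat_lit 4, nat_lit 5]))
 (TT.l (Ty.relL (nat_lit 6) [nat_lit 4, nat_lit 2, nat_lit 4, nat_lit 2, nat_lit 6, nat_lit 4, nat_lit 2])))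
 (TT.l (Ty.relL (nat_lit 2) [nat_lit 3, nat_lit 4, nat_lit 2, nat_lit 4, nat_lit 2, nat_lit 3, nat_lit 2])))
 (TT.n (TT.l (Ty.rel3 (nat_lit 0) (nat_lit 4) (nat_lit 0)))
 (TT.l (Ty.rel3 (nat_lit 3) (nat_lit 4) (nat_lit 3))))))
noncomputable def ty5 : TT := (TT.n (TT.n (TT.n (TT.n (TT.l (Ty.rel1 (nat_lit 5)))
 (TT.l (Ty.relL (nat_lit 2) [nat_lit 4, nat_lit 5, nat_lit 4, nat_lit 1, nat_lit 2])))
 (TT.l (Ty.relL (nat_lit 3) [nat_lit 2, nat_lit 4, nat_lit 2, nat_lit 1, nat_lit 2, nat_lit 4, nat_lit 2, nat_lit 1, nat_lit 5, nat_lit 3])))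
 (TT.n (TT.n (TT.l (Ty.rel5 (nat_lit 0) (nat_lit 5) (nat_lit 0) (nat_lit 5) (nat_lit 0)))
 (TT.l (Ty.relL (nat_lit 4) [nat_lit 6, nat_lit 0, nat_lit 3, nat_lit 6, nat_lit 3, nat_lit 5, nat_lit 4, nat_lit 6, nat_lit 0, nat_lit 3, nat_lit 6, nat_lit 3])))
 (TT.l (Ty.relL (nat_lit 2) [nat_lit 5, nat_lit 1, nat_lit 2, nat_lit 4, nat_lit 2, nat_lit 1, nat_lit 2, nat_lit 4]))))
 (TT.n (TT.n (TT.n (TT.l (Ty.dfn))
 (TT.l (Ty.relL (nat_lit 3) [nat_lit 6, nat_lit 3, nat_lit 0, nat_lit 6, nat_lit 4, nat_lit 5, nat_lit 3, nat_lit 6, nat_lit 3, nat_lit 0, nat_lit 6, nat_lit 4])))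
 (TT.l (Ty.relL (nat_lit 4) [nat_lit 1, nat_lit 2, nat_lit 5, nat_lit 2, nat_lit 4])))
 (TT.n (TT.l (Ty.relL (nat_lit 6) [nat_lit 0, nat_lit 1, nat_lit 4, nat_lit 2, nat_lit 1, nat_lit 0, nat_lit 2, nat_lit 4, nat_lit 2, nat_lit 1, nat_lit 5, nat_lit 6]))
 (TT.l (Ty.relL (nat_lit 6) [nat_lit 5, nat_lit 1, nat_lit 2, nat_lit 4, nat_lit 2, nat_lit 0, nat_lit 1, nat_lit 2, nat_lit 4, nat_lit 1, nat_lit 0, nat_lit 6])))))
noncomputable def ty6 : TT := (TT.n (TT.n (TT.n (TT.l (Ty.rel1 (nat_lit 6)))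
 (TT.l (Ty.relL (nat_lit 5) [nat_lit 6, nat_lit 0, nat_lit 1, nat_lit 4, nat_lit 2, nat_lit 1, nat_lit 0, nat_lit 2, nat_lit 4, nat_lit 2, nat_lit 1, nat_lit 5])))
 (TT.n (TT.l (Ty.rel5 (nat_lit 4) (nat_lit 6) (nat_lit 4) (nat_lit 6) (nat_lit 4)))
 (TT.l (Ty.rel3 (nat_lit 2) (nat_lit 6) (nat_lit 2)))))
 (TT.n (TT.n (TT.l (Ty.dfn))
 (TT.l (Ty.relL (nat_lit 2) [nat_lit 0, nat_lit 1, nat_lit 6, nat_lit 1, nat_lit 0])))
 (TT.n (TT.l (Ty.relL (nat_lit 5) [nat_lit 1, nat_lit 2, nat_lit 4, nat_lit 2, nat_lit 0, nat_lit 1, nat_lit 2, nat_lit 4, nat_lit 1, nat_lit 0, nat_lit 6, nat_lit 5]))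
 (TT.l (Ty.relL (nat_lit 3) [nat_lit 5, nat_lit 4, nat_lit 6, nat_lit 0, nat_lit 3, nat_lit 6, nat_lit 3, nat_lit 5, nat_lit 4, nat_lit 6, nat_lit 0, nat_lit 3])))))
noncomputable def ty7 : TT := (TT.l (Ty.skip))
noncomputable def C : Cert where
  tabs := [tab0, tab1, tab2, tab3, tab4, tab5, tab6, tab7, tab8, tab9, tab10, tab11, tab12, tab13, tab14, tab15, tab16]
  tts := [ty0, ty1, ty2, ty3, ty4, ty5, ty6, ty7]
  k := nat_lit 6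
  base := nat_lit 11
  mJ := nat_lit 64
  mR := nat_lit 63
  W := nat_lit 16
  mA := nat_lit 4095
  mI := nat_lit 127
  S := nat_lit 12
  mC := nat_lit 15
  nc := nat_lit 7
  lo := nat_lit 64
  live := nat_lit 109
  hi1 := nat_lit 108
  AW := nat_lit 13
  mAW := nat_lit 8191
def il : List ℕ := [0, 1, 2, 3, 4, 5, 6]
def rels : List (List ℕ) := [[0, 1, 0, 1, 0, 1, 0, 1],
  [0, 2, 0, 2],
  [0, 3, 0, 3],
  [0, 4, 0, 4],
  [1, 2, 1, 2, 1, 2, 1, 2],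
  [1, 3, 1, 3],
  [1, 4, 1, 4],
  [2, 3, 2, 3, 2, 3],
  [2, 4, 2, 4, 2, 4, 2, 4],
  [3, 4, 3, 4],
  [1, 2, 1, 4, 2, 1, 4, 2, 4, 1, 2, 4],
  [0, 1, 0, 2, 1, 0, 2, 1, 2, 0, 1, 2],
  [2, 3, 2, 4, 2, 3, 4, 2, 4],
  [1, 2, 1, 2, 3, 2, 1, 2, 3],
  [0, 5, 0, 5, 0, 5],
  [5, 1, 5, 1],
  [5, 2, 5, 1, 2, 4, 2, 1, 2, 4],
  [5, 3, 5, 1, 2, 4, 2, 1, 2, 4, 2, 3],
  [5, 0, 1, 0, 1, 5, 0, 1, 0],
  [4, 6, 4, 6, 4, 6],
  [6, 2, 6, 2],
  [6, 1, 6, 2, 1, 0, 1, 2, 1, 0],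
  [6, 0, 6, 2, 3, 2, 1, 0, 1, 2, 3],
  [6, 4, 2, 4, 2, 6, 4, 2, 4],
  [5, 6, 5, 6, 0, 1, 4, 2, 1, 0, 2, 4, 2, 1],
  [1, 2, 5, 2, 4, 5, 4],
  [0, 1, 6, 1, 0, 2, 6],
  [0, 3, 6, 3, 5, 4, 6, 0, 3, 6, 3, 5, 4, 6],
  [2, 1, 6, 1, 0, 6, 0],
  [4, 2, 5, 2, 4, 1, 5]]
def subs : List (List ℕ) := [[0],
  [1],
  [2],
  [3],
  [4]]
theorem valid : C.valid il rels subs = true := by decide +kernel
theorem p0 : C.OkL 64 109 := C.okL_of 64 0 45 109 (by decide) (by decide +kernel)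
theorem covers {G : Type*} [Group G] (ev : ℕ → G) (H : Subgroup G)
    (hinv : ∀ x < 7, ev (il.getD x 0) = (ev x)⁻¹) (hr : ∀ r ∈ rels, evw ev r = 1)
    (hs : ∀ s ∈ subs, evw ev s ∈ H) : Covers H (gensub ev 7) 45 :=
  C.sound il rels subs 7 45 valid (p0) (Cert.OkR.nil C _) (by decide) (by decide) ev H hinv hr hs
end CfH6.HxHT2
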