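import Cfsg.Agent.OD.Pre
import Cfsg.Agent.H6.TCTop
/-! coset enumeration certificate; generators a b B c C d e f ; index 31 -/
set_option autoImplicit false
set_option maxRecDepth 100000
set_option Elab.async false
set_option linter.all false
namespace CfH6.HxLT1
open CfH6
noncomputable def t0 : Tr := (Tr.n (Tr.l (nat_lit 0x2897f2ffff2ffff2ffff08b8a28b722ffff2ffff24b6d2ffff0c6652ffff1097308c7a2ffff2ffff2ffff2ffff08c772ffff0c5612ffff2ffff0c5602ffff24962087750c45f2ffff08a660866b086680856428b5e28a5d28d591ca5b20a5a08e5c1c958209571cb5220b51209542495308c5608c55208502484f2094b1094a1c84c08a4e08a4d1c7491c74618747088481464510543086440c2410834204140))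
 (Tr.l (nat_lit 0x2ffff2ffff2ffff2ffff2ffff2ffff2ffff2ffff24f9e2ffff2ffff2ffff2ffff2ffff2ffff2ffff2ffff2ffff090a82ffff2ffff2ffff2ffff2ffff2ffff28d892ffff2ffff2ffff1cd852ffff2ffff2ffff2ffff2ffff2ffff2ffff2ffff14a7b08e972ffff2ffff2ffff08e932ffff2ffff2ffff2ffff2ffff)))
noncomputable def t1 : Tr := (Tr.n (Tr.l (nat_lit 0x28a7233fff10a9833fff1466910c8e2497933fff108901464d34a6b33fff1088a10b7f33fff2487033fff33fff107811454a10b7533fff1077b0c86433fff2c866087601096833fff2c7620865f108651076128b5e28a5d4195c18b5624a5a3d95918a522495710c5b1ca8f2494e2095310b581c9802484b2084f10a541c77618748109501c66c186461084c14444107491434310547104450c4420834104140))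
 (Tr.l (nat_lit 0x33fff33fff33fff33fff33fff3999e33fff33fff33fff28d972cd9633fff33fff33fff33fff33fff33fff33fff11aab28c8933fff33fff18a9a33fff1897d10ea710ea633fff28a9433fff33fff33fff147772495528b7a33fff33fff33fff1477310d9d33fff33fff2898633fff33fff33fff33fff1466d24851)))
noncomputable def t2 : Tr := (Tr.n (Tr.l (nat_lit 0x2db7f188503087d2884f1086c08b5c27fff27fff2886608a8a2cc6527fff0c64c08a5927fff27fff27fff27fff287620897b27fff27fff0c54927fff27fff0897708d7527fff27fff0886d27fff27fff2055f1d35e1d25d1ca7a149a5149a31c9721489b14899148951884e14a8c14a8b147871874b1497e1497c089550c54814773088510c446146690864d106470854a105450c3420c241084440834304140))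
 (Tr.l (nat_lit 0x27fff27fff27fff27fff27fff27fff27fff27fff27fff27fff27fff0c85b27fff0c85a27fff27fff27fff27fff27fff27fff27fff0c75827fff0c75727fff27fff27fff0c75627fff27fff27fff27fff10a9027fff11a8e27fff18954289531097627fff27fff0c65227fff27fff27fff27fff27fff1098127fff)))
noncomputable def t3 : Tr := (Tr.n (Tr.l (nat_lit 0x28a7f33fff14b7d206693486c28a7a2484e33fff2064d33fff33fff33fff1c88b2897233fff2474b0876333fff2054a1c97b33fff33fff1c77c33fff33fff2054833fff33fff1c86f2044633fff33fff33fff2cc5e2cb5d28b5c189a62495428a591889c248501889618a911ca5a2064c18788189831c9572054918979187771c753188701866d1c64f1866614747185621464510544104430c4420834104140))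
 (Tr.l (nat_lit 0x33fff209a424aa02089d33fff2089a2089733fff2089333fff2085b33fff1caaf33fff33fff207891cbae33fff207851c9ad2075833fff1c9ab33fff38a981c9aa2075633fff33fff1c9a833fff2495533fff33fff28b8e33fff33fff20773349761c8a12065233fff33fff1c89e33fff2485133fff33fff33fff)))
noncomputable def t4 : Tr := (Tr.n (Tr.l (nat_lit 0x27fff27fff1466927fff1089810a9727fff27fff27fff27fff27fff0886527fff1098927fff27fff27fff27fff27fff2876c27fff087611077d27fff087601c7661097427fff0865f1c6621086a108671076320ab020bac20ba914754209a420a9f146502089a1464e208931085b1c8531454b20785107581c74f107561874d14547106521864a14445144441064c143431054910548104460c4420834104140))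
 (Tr.l (nat_lit 0x1495e27fff27fff27fff2ca5d1ca9c1cbaa2ca5c3189627fff27fff27fff1485a27fff27fff1caa1349a02c959318882c97f27fff27fff1475727fff1477b2c97a119a827fff27fff1475527fff27fff27fff27fff27fff27fff27fff27fff27fff2c8721199e27fff27fff1465127fff27fff1466d27fff27fff)))
noncomputable def t5 : Tr := (Tr.n (Tr.l (nat_lit 0x286502ffff2ffff2ffff2ffff2864e248942ffff10a772ffff2ffff2ffff2ffff2854b2ffff247862ffff2ffff1096d2ffff2ffff2ffff2ffff2ffff2ffff208662ffff2ffff2ffff207622ffff2ffff2ffff2885a28757287551c9a72495e286511c89d2485d1c8972485c1c88e209531c789247591c77f2084f1c77a1074d1874c1c6721064a186491864814647185461454510544104430c4420834104140))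
 (Tr.l (nat_lit 0x2ffff2ffff39aae2ffff2889a34b9c2ffff28893318962885b2ffff2ffff2ffff2ffff2ffff2ffff21ba02878531888287582ffff2ffff249ac2ffff2ffff287562ffff2ffff28779249a92ffff2ffff2ffff2ffff287542ffff2ffff2ffff2ffff286522599e2ffff286702489f2ffff2ffff2ffff2ffff2ffff)))
noncomputable def t6 : Tr := (Tr.n (Tr.l (nat_lit 0x33fff33fff33fff33fff33fff33fff356790864d33fff33fff0c8750864c33fff33fff3474b33fff085620854a33fff33fff33fff0854933fff33fff08548155660854733fff084460466f0844508444083432d35e299594595c1d65b2125a05a5d25452214701d65610a92195541088d05558109844144b3d4621554e1077810774108711066e1066a10667106651056310561105601045f0c4420814004241))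
 (Tr.l (nat_lit 0x33fff33fff33fff398a133fff33fff33fff33fff33fff33fff33fff33fff33fff33fff33fff059ad33fff33fff33fff2d68933fff33fff33fff33fff33fff33fff33fff33fff2d79433fff3495533fff33fff33fff33fff0875333fff33fff33fff0579d33fff33fff33fff33fff3485133fff33fff33fff33fff)))
noncomputable def t7 : Tr := (Tr.n (Tr.l (nat_lit 0x2bfff1c6692bfff2bfff2bfff2bfff1c66618892188911888f2bfff2bfff1888c2bfff1c5631c5622bfff1878418783187802bfff2bfff1877e2bfff2bfff187792bfff2bfff18671186702bfff2bfff2bfff24a5e2495d2495c2095b1c75324859208581c64f208561c64d1c64c1885a207521c54a1c549187571c54818755187541c44618651186501864e146471854b1454510544104430c4420834104140))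
 (Tr.l (nat_lit 0x2bfff2bfff1c89e2bfff2bfff2bfff2bfff2bfff2bfff2bfff2bfff2bfff2bfff2bfff1c7892bfff1c7852bfff189ae2bfff2bfff2bfff2bfff2bfff2bfff2bfff2bfff2bfff2bfff2bfff1c7781c7772bfff1c7762bfff2bfff1c7732bfff2bfff2bfff2c8882bfff2bfff188a01c66e1c66d2bfff2bfff1c66c)))
noncomputable def t8 : Tr := (Tr.n (Tr.l (nat_lit 0xae058a905007fffa504fa0d6d9e056997559574d917488cf6608e478904c8504c81f527d350797517534f7174f6d74668e6264f44611465cf4907fff591485564d50f4707fff4d2494964a45043410443d14500000000000000000000000000000000000000000000000000000000000000000000000000000000000000000000000000000000000000000000000000000000000000000000000000000000000))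
 (Tr.l (nat_lit 0x2245e1e25419ca2d5f9ad215dcde9dc9f93c615cc1e97be254ba15bb625bb235a1525a07fffade8507fffaa059a5d89a21509df7f9a158960571515710c829214e8df7a8a15c8585c820557d8557984e74f73717556e15b0d153691546515360e775e04b59e7256059518594df51498574584b07fff40e693d751)))
noncomputable def t9 : Tr := (Tr.n (Tr.l (nat_lit 0x5743157631062577663106206360636665554754747734773724724414122060))
 (Tr.l (nat_lit 0x4373533535324273753532424532547717567315325477417)))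
noncomputable def t10 : Tr := (Tr.n (Tr.l (nat_lit 0x9402180))
 (Tr.l (nat_lit 0)))
noncomputable def t11 : Tr := (Tr.n (Tr.l (nat_lit 0x25007101bc0))
 (Tr.l (nat_lit 0)))
noncomputable def t12 : Tr := (Tr.n (Tr.l (nat_lit 0x2ac5691da439812a05661d9a6760a28265124029e158c7621d8c36299b027b09d416112042601228375017c47b0dac06505841))
 (Tr.l (nat_lit 0x2ae39a16781a88e4c59e025c196063a2af0e7a38516b87ad0eac47f8a8469612a047a89e45aa11e07771e2a1761de81731dcc37b022049e11ca270168446e1db477b85b07)))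
noncomputable def tab0 : Tr := t0
noncomputable def tab1 : Tr := t1
noncomputable def tab2 : Tr := t2
noncomputable def tab3 : Tr := t3
noncomputable def tab4 : Tr := t4
noncomputable def tab5 : Tr := t5
noncomputable def tab6 : Tr := t6
noncomputable def tab7 : Tr := t7
noncomputable def tab8 : Tr := t8
noncomputable def tab9 : Tr := t9
noncomputable def tab10 : Tr := (Tr.l (nat_lit 0))
noncomputable def tab11 : Tr := t10
noncomputable def tab12 : Tr := (Tr.l (nat_lit 0))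
noncomputable def tab13 : Tr := (Tr.l (nat_lit 0))
noncomputable def tab14 : Tr := (Tr.l (nat_lit 0))
noncomputable def tab15 : Tr := (Tr.l (nat_lit 0))
noncomputable def tab16 : Tr := t11
noncomputable def tab17 : Tr := (Tr.l (nat_lit 0))
noncomputable def tab18 : Tr := t12
noncomputable def ty0 : TT := (TT.n (TT.n (TT.n (TT.n (TT.l (Ty.ssub [] []))
 (TT.l (Ty.rel3 (nat_lit 3) (nat_lit 0) (nat_lit 3))))
 (TT.l (Ty.relL (nat_lit 1) [nat_lit 2, nat_lit 1, nat_lit 0, nat_lit 1, nat_lit 2, nat_lit 0, nat_lit 1])))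
 (TT.n (TT.n (TT.l (Ty.dfn))
 (TT.l (Ty.skip)))
 (TT.l (Ty.rel3 (nat_lit 4) (nat_lit 0) (nat_lit 4)))))
 (TT.n (TT.n (TT.n (TT.l (Ty.rel1 (nat_lit 0)))
 (TT.l (Ty.rel3 (nat_lit 5) (nat_lit 0) (nat_lit 5))))
 (TT.l (Ty.relL (nat_lit 1) [nat_lit 0, nat_lit 1, nat_lit 0, nat_lit 1, nat_lit 0, nat_lit 1])))
 (TT.n (TT.l (Ty.rel3 (nat_lit 2) (nat_lit 0) (nat_lit 2)))
 (TT.l (Ty.rel3 (nat_lit 7) (nat_lit 0) (nat_lit 7))))))
noncomputable def ty1 : TT := (TT.n (TT.n (TT.n (TT.n (TT.l (Ty.ssub [] []))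
 (TT.l (Ty.rel3 (nat_lit 7) (nat_lit 1) (nat_lit 7))))
 (TT.n (TT.l (Ty.dfn))
 (TT.l (Ty.relL (nat_lit 0) [nat_lit 1, nat_lit 0, nat_lit 1, nat_lit 0, nat_lit 1, nat_lit 0]))))
 (TT.n (TT.n (TT.l (Ty.relL (nat_lit 0) [nat_lit 1, nat_lit 6, nat_lit 0, nat_lit 1, nat_lit 0, nat_lit 6, nat_lit 0]))
 (TT.l (Ty.relL (nat_lit 3) [nat_lit 4, nat_lit 3, nat_lit 1, nat_lit 3, nat_lit 4, nat_lit 1, nat_lit 3])))
 (TT.l (Ty.srel [nat_lit 1]))))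
 (TT.n (TT.n (TT.n (TT.l (Ty.rel3 (nat_lit 6) (nat_lit 1) (nat_lit 6)))
 (TT.l (Ty.rel3 (nat_lit 5) (nat_lit 1) (nat_lit 5))))
 (TT.n (TT.l (Ty.rel3 (nat_lit 4) (nat_lit 1) (nat_lit 4)))
 (TT.l (Ty.srel [nat_lit 3, nat_lit 4, nat_lit 3, nat_lit 1, nat_lit 3, nat_lit 4, nat_lit 1, nat_lit 3]))))
 (TT.n (TT.n (TT.l (Ty.rel1 (nat_lit 1)))
 (TT.l (Ty.skip)))
 (TT.l (Ty.relL (nat_lit 3) [nat_lit 1, nat_lit 3, nat_lit 1, nat_lit 3, nat_lit 1, nat_lit 3])))))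
noncomputable def ty2 : TT := (TT.n (TT.n (TT.n (TT.n (TT.l (Ty.ssub [] []))
 (TT.l (Ty.skip)))
 (TT.l (Ty.srel [nat_lit 2])))
 (TT.n (TT.n (TT.l (Ty.dfn))
 (TT.l (Ty.relL (nat_lit 0) [nat_lit 1, nat_lit 0, nat_lit 1, nat_lit 2, nat_lit 1, nat_lit 0, nat_lit 1])))
 (TT.l (Ty.srel [nat_lit 5, nat_lit 2, nat_lit 5]))))
 (TT.n (TT.n (TT.n (TT.l (Ty.rel1 (nat_lit 2)))
 (TT.l (Ty.rel3 (nat_lit 3) (nat_lit 2) (nat_lit 3))))
 (TT.l (Ty.rel3 (nat_lit 7) (nat_lit 2) (nat_lit 7))))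
 (TT.n (TT.n (TT.l (Ty.rel5 (nat_lit 1) (nat_lit 2) (nat_lit 1) (nat_lit 2) (nat_lit 1)))
 (TT.l (Ty.relL (nat_lit 4) [nat_lit 2, nat_lit 4, nat_lit 2, nat_lit 4, nat_lit 2, nat_lit 4])))
 (TT.l (Ty.relL (nat_lit 6) [nat_lit 2, nat_lit 6, nat_lit 2, nat_lit 6, nat_lit 2, nat_lit 6])))))
noncomputable def ty3 : TT := (TT.n (TT.n (TT.n (TT.n (TT.l (Ty.ssub [] []))
 (TT.l (Ty.rel3 (nat_lit 7) (nat_lit 3) (nat_lit 7))))
 (TT.n (TT.l (Ty.relL (nat_lit 1) [nat_lit 3, nat_lit 1, nat_lit 2, nat_lit 1, nat_lit 3, nat_lit 1, nat_lit 2]))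
 (TT.l (Ty.relL (nat_lit 1) [nat_lit 2, nat_lit 3, nat_lit 1, nat_lit 3, nat_lit 1, nat_lit 2, nat_lit 1]))))
 (TT.n (TT.n (TT.l (Ty.rel3 (nat_lit 0) (nat_lit 3) (nat_lit 0)))
 (TT.l (Ty.relL (nat_lit 5) [nat_lit 3, nat_lit 5, nat_lit 3, nat_lit 5, nat_lit 3, nat_lit 5])))
 (TT.l (Ty.rel1 (nat_lit 3)))))
 (TT.n (TT.n (TT.n (TT.l (Ty.rel3 (nat_lit 6) (nat_lit 3) (nat_lit 6)))
 (TT.l (Ty.relL (nat_lit 5) [nat_lit 3, nat_lit 7, nat_lit 5, nat_lit 3, nat_lit 5, nat_lit 7, nat_lit 5])))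
 (TT.n (TT.l (Ty.srel [nat_lit 3]))
 (TT.l (Ty.rel5 (nat_lit 4) (nat_lit 3) (nat_lit 4) (nat_lit 3) (nat_lit 4)))))
 (TT.n (TT.n (TT.l (Ty.rel3 (nat_lit 2) (nat_lit 3) (nat_lit 2)))
 (TT.l (Ty.skip)))
 (TT.l (Ty.dfn)))))
noncomputable def ty4 : TT := (TT.n (TT.n (TT.n (TT.n (TT.l (Ty.ssub [] []))
 (TT.l (Ty.skip)))
 (TT.n (TT.l (Ty.dfn))
 (TT.l (Ty.relL (nat_lit 7) [nat_lit 4, nat_lit 7, nat_lit 4, nat_lit 7, nat_lit 4, nat_lit 7]))))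
 (TT.n (TT.n (TT.l (Ty.rel3 (nat_lit 0) (nat_lit 4) (nat_lit 0)))
 (TT.l (Ty.rel3 (nat_lit 5) (nat_lit 4) (nat_lit 5))))
 (TT.l (Ty.rel5 (nat_lit 3) (nat_lit 4) (nat_lit 3) (nat_lit 4) (nat_lit 3)))))
 (TT.n (TT.n (TT.n (TT.l (Ty.rel3 (nat_lit 6) (nat_lit 4) (nat_lit 6)))
 (TT.l (Ty.rel3 (nat_lit 1) (nat_lit 4) (nat_lit 1))))
 (TT.l (Ty.relL (nat_lit 2) [nat_lit 4, nat_lit 2, nat_lit 4, nat_lit 2, nat_lit 4, nat_lit 2])))
 (TT.n (TT.n (TT.l (Ty.rel1 (nat_lit 4)))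
 (TT.l (Ty.srel [nat_lit 3, nat_lit 4, nat_lit 3, nat_lit 4, nat_lit 3])))
 (TT.l (Ty.srel [nat_lit 4])))))
noncomputable def ty5 : TT := (TT.n (TT.n (TT.n (TT.n (TT.l (Ty.ssub [] []))
 (TT.l (Ty.rel1 (nat_lit 5))))
 (TT.n (TT.l (Ty.rel3 (nat_lit 1) (nat_lit 5) (nat_lit 1)))
 (TT.l (Ty.relL (nat_lit 3) [nat_lit 4, nat_lit 5, nat_lit 3, nat_lit 5, nat_lit 3, nat_lit 4, nat_lit 3]))))
 (TT.n (TT.n (TT.l (Ty.rel3 (nat_lit 0) (nat_lit 5) (nat_lit 0)))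
 (TT.l (Ty.skip)))
 (TT.l (Ty.srel [nat_lit 5]))))
 (TT.n (TT.n (TT.n (TT.l (Ty.rel3 (nat_lit 6) (nat_lit 5) (nat_lit 6)))
 (TT.l (Ty.dfn)))
 (TT.n (TT.l (Ty.rel3 (nat_lit 4) (nat_lit 5) (nat_lit 4)))
 (TT.l (Ty.rel5 (nat_lit 7) (nat_lit 5) (nat_lit 7) (nat_lit 5) (nat_lit 7)))))
 (TT.n (TT.n (TT.l (Ty.rel3 (nat_lit 2) (nat_lit 5) (nat_lit 2)))
 (TT.l (Ty.srel [nat_lit 3, nat_lit 4, nat_lit 5, nat_lit 3, nat_lit 5, nat_lit 3, nat_lit 4, nat_lit 3])))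
 (TT.l (Ty.relL (nat_lit 3) [nat_lit 5, nat_lit 3, nat_lit 4, nat_lit 3, nat_lit 5, nat_lit 3, nat_lit 4])))))
noncomputable def ty6 : TT := (TT.n (TT.n (TT.n (TT.n (TT.l (Ty.rel1 (nat_lit 6)))
 (TT.l (Ty.srel [nat_lit 4, nat_lit 6, nat_lit 4])))
 (TT.n (TT.l (Ty.srel [nat_lit 0, nat_lit 6, nat_lit 0, nat_lit 6, nat_lit 0]))
 (TT.l (Ty.rel3 (nat_lit 7) (nat_lit 6) (nat_lit 7)))))
 (TT.n (TT.n (TT.l (Ty.rel5 (nat_lit 0) (nat_lit 6) (nat_lit 0) (nat_lit 6) (nat_lit 0)))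
 (TT.l (Ty.rel3 (nat_lit 5) (nat_lit 6) (nat_lit 5))))
 (TT.l (Ty.rel3 (nat_lit 4) (nat_lit 6) (nat_lit 4)))))
 (TT.n (TT.n (TT.n (TT.l (Ty.dfn))
 (TT.l (Ty.srel [nat_lit 5, nat_lit 6, nat_lit 5])))
 (TT.n (TT.l (Ty.relL (nat_lit 0) [nat_lit 1, nat_lit 0, nat_lit 1, nat_lit 6, nat_lit 0, nat_lit 1, nat_lit 0]))
 (TT.l (Ty.rel3 (nat_lit 3) (nat_lit 6) (nat_lit 3)))))
 (TT.n (TT.n (TT.l (Ty.srel [nat_lit 6]))
 (TT.l (Ty.skip)))
 (TT.l (Ty.srel [nat_lit 7, nat_lit 6, nat_lit 7])))))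
noncomputable def ty7 : TT := (TT.n (TT.n (TT.n (TT.n (TT.l (Ty.ssub [] []))
 (TT.l (Ty.rel5 (nat_lit 5) (nat_lit 7) (nat_lit 5) (nat_lit 7) (nat_lit 5))))
 (TT.l (Ty.rel3 (nat_lit 1) (nat_lit 7) (nat_lit 1))))
 (TT.n (TT.n (TT.l (Ty.rel3 (nat_lit 0) (nat_lit 7) (nat_lit 0)))
 (TT.l (Ty.rel3 (nat_lit 3) (nat_lit 7) (nat_lit 3))))
 (TT.l (Ty.dfn))))
 (TT.n (TT.n (TT.n (TT.l (Ty.rel3 (nat_lit 6) (nat_lit 7) (nat_lit 6)))
 (TT.l (Ty.skip)))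
 (TT.l (Ty.rel1 (nat_lit 7))))
 (TT.n (TT.l (Ty.rel3 (nat_lit 2) (nat_lit 7) (nat_lit 2)))
 (TT.l (Ty.relL (nat_lit 4) [nat_lit 7, nat_lit 4, nat_lit 7, nat_lit 4, nat_lit 7, nat_lit 4])))))
noncomputable def ty8 : TT := (TT.n (TT.n (TT.n (TT.l (Ty.skip))
 (TT.l (Ty.srel [nat_lit 3, nat_lit 2, nat_lit 3, nat_lit 2])))
 (TT.n (TT.l (Ty.srel [nat_lit 3, nat_lit 6, nat_lit 3, nat_lit 6]))
 (TT.l (Ty.srel [nat_lit 4, nat_lit 3, nat_lit 4, nat_lit 3, nat_lit 4, nat_lit 3]))))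
 (TT.n (TT.n (TT.l (Ty.relL (nat_lit 6) [nat_lit 2, nat_lit 6, nat_lit 2, nat_lit 6, nat_lit 2, nat_lit 6, nat_lit 2]))
 (TT.l (Ty.relL (nat_lit 7) [nat_lit 5, nat_lit 3, nat_lit 5, nat_lit 7, nat_lit 3, nat_lit 5, nat_lit 3, nat_lit 5])))
 (TT.n (TT.l (Ty.relL (nat_lit 4) [nat_lit 3, nat_lit 1, nat_lit 3, nat_lit 4, nat_lit 3, nat_lit 1, nat_lit 3, nat_lit 1]))
 (TT.l (Ty.srel [nat_lit 5, nat_lit 4, nat_lit 5, nat_lit 4])))))
noncomputable def C : Cert where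
  tabs := [tab0, tab1, tab2, tab3, tab4, tab5, tab6, tab7, tab8, tab9, tab10, tab11, tab12, tab13, tab14, tab15, tab16, tab17, tab18]
  tts := [ty0, ty1, ty2, ty3, ty4, ty5, ty6, ty7, ty8]
  k := nat_lit 6
  base := nat_lit 14
  mJ := nat_lit 192
  mR := nat_lit 63
  W := nat_lit 20
  mA := nat_lit 16383
  mI := nat_lit 255
  S := nat_lit 14
  mC := nat_lit 63
  nc := nat_lit 8
  lo := nat_lit 64
  live := nat_lit 95
  hi1 := nat_lit 176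
  AW := nat_lit 14
  mAW := nat_lit 16383
def il : List ℕ := [0, 1, 2, 3, 4, 5, 6, 7]
def rels : List (List ℕ) := [[0, 1, 0, 1, 0, 1, 0, 1],
  [0, 2, 0, 2],
  [0, 3, 0, 3],
  [0, 4, 0, 4],
  [0, 5, 0, 5],
  [1, 2, 1, 2, 1, 2],
  [1, 3, 1, 3, 1, 3, 1, 3],
  [1, 4, 1, 4],
  [1, 5, 1, 5],
  [2, 3, 2, 3],
  [2, 4, 2, 4, 2, 4, 2, 4],
  [2, 5, 2, 5],
  [3, 4, 3, 4, 3, 4],
  [3, 5, 3, 5, 3, 5, 3, 5],
  [4, 5, 4, 5],
  [1, 3, 1, 5, 3, 1, 5, 3, 5, 1, 3, 5],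
  [0, 1, 0, 3, 1, 0, 3, 1, 3, 0, 1, 3],
  [3, 4, 3, 5, 3, 4, 5, 3, 5],
  [1, 3, 1, 3, 4, 3, 1, 3, 4],
  [1, 2, 1, 3, 1, 2, 3, 1, 3],
  [0, 1, 0, 1, 2, 1, 0, 1, 2],
  [0, 6, 0, 6, 0, 6],
  [6, 1, 6, 1],
  [6, 3, 6, 3],
  [6, 4, 6, 4],
  [6, 5, 6, 5],
  [6, 0, 1, 0, 1, 6, 0, 1, 0],
  [5, 7, 5, 7, 5, 7],
  [7, 3, 7, 3],
  [7, 1, 7, 1],
  [7, 2, 7, 2],
  [7, 0, 7, 0],
  [7, 5, 3, 5, 3, 7, 5, 3, 5],
  [6, 7, 6, 7],
  [4, 7, 4, 7, 4, 7, 4, 7],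
  [2, 6, 2, 6, 2, 6, 2, 6]]
def subs : List (List ℕ) := [[0],
  [1],
  [2],
  [3],
  [4],
  [5],
  [7]]
theorem valid : C.valid il rels subs = true := by decide +kernel
theorem p0 : C.OkL 64 95 := C.okL_of 64 0 31 95 (by decide) (by decide +kernel)
theorem p1 : C.OkR 95 177 := C.okR_of 95 0 82 177 (by decide) (by decide +kernel)
theorem covers {G : Type*} [Group G] (ev : ℕ → G) (H : Subgroup G)
    (hinv : ∀ x < 8, ev (il.getD x 0) = (ev x)⁻¹) (hr : ∀ r ∈ rels, evw ev r = 1)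
    (hs : ∀ s ∈ subs, evw ev s ∈ H) : Covers H (gensub ev 8) 31 :=
  C.sound il rels subs 8 31 valid (p0) (p1) (by decide) (by decide) ev H hinv hr hs
end CfH6.HxLT1
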