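import Cfsg.Agent.OD.Pre
import Cfsg.Agent.H6.TCTop
/-! coset enumeration certificate; generators a b B c C d f ; index 15 -/
set_option autoImplicit false
set_option maxRecDepth 100000
set_option Elab.async false
set_option linter.all false
namespace CfH6.HxLT2
open CfH6
noncomputable def tab0 : Tr := (Tr.l (nat_lit 0x8fff23ffc8fff23ffc8fff23ffc8fff23ffc8fff23ffc8fff23ffc8fff23ffc8fff23ffc8fff23ffc8fff23ffc8fff23ffc8fff23ffc8fff23ffc8fff23ffc8fff23ffc8fff23ffc8fff23ffc8fff23ffc754e18f3423cc10f2c634a10d2463481cd1c42c618b1452c41090c32420870410c0))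
noncomputable def tab1 : Tr := (Tr.l (nat_lit 0xafff0d3b0c5692bffcafff2bffcafff2bffc64d9157c0345711370afff0936cafff2bffcb4e22bffcafff2bffcafff2bffc556715594afff2bffcafff153a072c80cf40afff2bffcafff1513054552bffc734d14f3893d110f2463ca1512c83561c91042c618b1452c71090c32420870410c0))
noncomputable def tab2 : Tr := (Tr.l (nat_lit 0x8fff23ffc74e323ffc8fff23ffc8fff115788fff14d5c8fff23ffc8fff23ffc8fff23ffc535523ffc8fff23ffc35eb23ffc8fff0914c8fff23ffc24520cfa48fff0cf888fff0d36c34d823ffc935023ffc654e1d12823cc10f2c34cd10d18734518d1c33c90cf2051c21090c32440870410c0))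
noncomputable def tab3 : Tr := (Tr.l (nat_lit 0x8fff23ffc53e22938044dc0916c8fff23ffc535723ffc8fff23ffc8fff23ffc8fff14d54347011150356f08f4c8fff251748fff0d3b48fff14b4023d10cfa873d60cf8c8fff0d17c234f0d1608fff0cf48754e14b2423cc1932c52460cd34524418d1c32ca1470832c81090c32450870410c0))
noncomputable def tab4 : Tr := (Tr.l (nat_lit 0x8fff0cf38a670191788fff23ffc334d23ffc5459251a4335623ffc334c23ffc644b1518c8fff23ffc32d323ffc8fff0cb488fff23ffc63c923ffc8fff0cb2023e80cb1c8fff08d80235d23ffc32441cb3c447110fb043e61139053ca11168435710d5462c314b1442d008d1831410870810c0))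
noncomputable def tab5 : Tr := (Tr.l (nat_lit 0x9fff27ffc9fff0cd74335b27ffc9fff0cd609fff27ffc9fff0cd309fff27ffc335527ffc9fff0cb4c9fff27ffc32d208fbc32d108fb832d027ffc23eb27ffc9fff08f90324f08d84235e27ffc235a27ffc854e1933473e70cb1c634a0c910544808d2c31c210b1422c90c50422460870c10c0))
noncomputable def tab6 : Tr := (Tr.l (nat_lit 0x23ce17ffc5fff1d7bc445c08d345fff113ac5fff17ffc5fff17ffc5fff08d2c5fff17ffc5fff10f5063e008b2843de17ffc5fff08b245fff17ffc22c817ffc5fff17ffc5fff089182245089105fff0870834720cfb422c70cf94335f0cd6c335804d3032d30cb4832d11090c324f083001141))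
noncomputable def tab7 : Tr := (Tr.l (nat_lit 0x594e1273836e90998287d89e3366a4d95d6e47d507ffe3a668a55a1acc8232df9c979d5c1fff75d481fff72129b6d307ffda85166125894b5e14169445612149cc4e51127cf45f1908c23e320e8c7361140000000000000000000000000000000000000000000000000000000000000000000))
noncomputable def tab8 : Tr := (Tr.l (nat_lit 0x643556453245465325465456536414566646136535315325460))
noncomputable def tab9 : Tr := (Tr.l (nat_lit 0))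
noncomputable def tab10 : Tr := (Tr.l (nat_lit 0))
noncomputable def tab11 : Tr := (Tr.l (nat_lit 0))
noncomputable def tab12 : Tr := (Tr.l (nat_lit 0))
noncomputable def tab13 : Tr := (Tr.l (nat_lit 0))
noncomputable def tab14 : Tr := (Tr.l (nat_lit 0))
noncomputable def tab15 : Tr := (Tr.l (nat_lit 0))
noncomputable def tab16 : Tr := (Tr.l (nat_lit 0xd72db0f883782c71d612e035c1b60d5178057a5a61ef13707ac6a02ea06d8b8c4a30d70f087786a62ee1b509846))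
noncomputable def ty0 : TT := (TT.n (TT.n (TT.n (TT.l (Ty.ssub [] []))
 (TT.l (Ty.rel3 (nat_lit 2) (nat_lit 0) (nat_lit 2))))
 (TT.n (TT.l (Ty.rel3 (nat_lit 4) (nat_lit 0) (nat_lit 4)))
 (TT.l (Ty.relL (nat_lit 1) [nat_lit 2, nat_lit 1, nat_lit 0, nat_lit 1, nat_lit 2, nat_lit 0, nat_lit 1]))))
 (TT.n (TT.n (TT.l (Ty.rel3 (nat_lit 6) (nat_lit 0) (nat_lit 6)))
 (TT.l (Ty.rel3 (nat_lit 3) (nat_lit 0) (nat_lit 3))))
 (TT.n (TT.l (Ty.rel3 (nat_lit 5) (nat_lit 0) (nat_lit 5)))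
 (TT.l (Ty.skip)))))
noncomputable def ty1 : TT := (TT.n (TT.n (TT.n (TT.n (TT.l (Ty.ssub [] []))
 (TT.l (Ty.srel [nat_lit 6, nat_lit 1, nat_lit 6])))
 (TT.l (Ty.rel1 (nat_lit 1))))
 (TT.n (TT.n (TT.l (Ty.rel3 (nat_lit 4) (nat_lit 1) (nat_lit 4)))
 (TT.l (Ty.rel5 (nat_lit 2) (nat_lit 1) (nat_lit 2) (nat_lit 1) (nat_lit 2))))
 (TT.l (Ty.dfn))))
 (TT.n (TT.n (TT.n (TT.l (Ty.rel3 (nat_lit 6) (nat_lit 1) (nat_lit 6)))
 (TT.l (Ty.skip)))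
 (TT.l (Ty.relL (nat_lit 3) [nat_lit 4, nat_lit 3, nat_lit 1, nat_lit 3, nat_lit 4, nat_lit 1, nat_lit 3])))
 (TT.n (TT.n (TT.l (Ty.rel3 (nat_lit 5) (nat_lit 1) (nat_lit 5)))
 (TT.l (Ty.relL (nat_lit 2) [nat_lit 3, nat_lit 1, nat_lit 3, nat_lit 1, nat_lit 2, nat_lit 1, nat_lit 3])))
 (TT.l (Ty.srel [nat_lit 1])))))
noncomputable def ty2 : TT := (TT.n (TT.n (TT.n (TT.n (TT.l (Ty.ssub [] []))
 (TT.l (Ty.relL (nat_lit 4) [nat_lit 2, nat_lit 4, nat_lit 2, nat_lit 4, nat_lit 2, nat_lit 4])))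
 (TT.l (Ty.dfn)))
 (TT.n (TT.l (Ty.rel1 (nat_lit 2)))
 (TT.l (Ty.rel3 (nat_lit 3) (nat_lit 2) (nat_lit 3)))))
 (TT.n (TT.n (TT.l (Ty.rel3 (nat_lit 6) (nat_lit 2) (nat_lit 6)))
 (TT.l (Ty.rel5 (nat_lit 1) (nat_lit 2) (nat_lit 1) (nat_lit 2) (nat_lit 1))))
 (TT.n (TT.l (Ty.rel3 (nat_lit 5) (nat_lit 2) (nat_lit 5)))
 (TT.l (Ty.skip)))))
noncomputable def ty3 : TT := (TT.n (TT.n (TT.n (TT.n (TT.l (Ty.ssub [] []))
 (TT.l (Ty.rel5 (nat_lit 4) (nat_lit 3) (nat_lit 4) (nat_lit 3) (nat_lit 4))))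
 (TT.l (Ty.dfn)))
 (TT.n (TT.l (Ty.rel1 (nat_lit 3)))
 (TT.l (Ty.relL (nat_lit 1) [nat_lit 3, nat_lit 1, nat_lit 3, nat_lit 1, nat_lit 3, nat_lit 1]))))
 (TT.n (TT.n (TT.n (TT.l (Ty.rel3 (nat_lit 6) (nat_lit 3) (nat_lit 6)))
 (TT.l (Ty.relL (nat_lit 4) [nat_lit 5, nat_lit 3, nat_lit 5, nat_lit 3, nat_lit 4, nat_lit 3, nat_lit 5])))
 (TT.l (Ty.relL (nat_lit 1) [nat_lit 2, nat_lit 3, nat_lit 1, nat_lit 3, nat_lit 1, nat_lit 2, nat_lit 1])))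
 (TT.n (TT.l (Ty.relL (nat_lit 5) [nat_lit 3, nat_lit 6, nat_lit 5, nat_lit 3, nat_lit 5, nat_lit 6, nat_lit 5]))
 (TT.l (Ty.skip)))))
noncomputable def ty4 : TT := (TT.n (TT.n (TT.n (TT.n (TT.l (Ty.ssub [] []))
 (TT.l (Ty.relL (nat_lit 2) [nat_lit 4, nat_lit 2, nat_lit 4, nat_lit 2, nat_lit 4, nat_lit 2])))
 (TT.l (Ty.rel5 (nat_lit 3) (nat_lit 4) (nat_lit 3) (nat_lit 4) (nat_lit 3))))
 (TT.n (TT.l (Ty.dfn))
 (TT.l (Ty.relL (nat_lit 6) [nat_lit 4, nat_lit 6, nat_lit 4, nat_lit 6, nat_lit 4, nat_lit 6]))))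
 (TT.n (TT.n (TT.n (TT.l (Ty.rel1 (nat_lit 4)))
 (TT.l (Ty.rel3 (nat_lit 1) (nat_lit 4) (nat_lit 1))))
 (TT.l (Ty.rel3 (nat_lit 5) (nat_lit 4) (nat_lit 5))))
 (TT.n (TT.l (Ty.srel [nat_lit 4]))
 (TT.l (Ty.skip)))))
noncomputable def ty5 : TT := (TT.n (TT.n (TT.n (TT.n (TT.l (Ty.ssub [] []))
 (TT.l (Ty.skip)))
 (TT.l (Ty.rel3 (nat_lit 2) (nat_lit 5) (nat_lit 2))))
 (TT.n (TT.l (Ty.dfn))
 (TT.l (Ty.srel [nat_lit 5]))))
 (TT.n (TT.n (TT.l (Ty.rel1 (nat_lit 5)))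
 (TT.l (Ty.relL (nat_lit 3) [nat_lit 5, nat_lit 3, nat_lit 5, nat_lit 3, nat_lit 5, nat_lit 3])))
 (TT.n (TT.l (Ty.relL (nat_lit 3) [nat_lit 4, nat_lit 5, nat_lit 3, nat_lit 5, nat_lit 3, nat_lit 4, nat_lit 3]))
 (TT.l (Ty.rel3 (nat_lit 1) (nat_lit 5) (nat_lit 1))))))
noncomputable def ty6 : TT := (TT.n (TT.n (TT.n (TT.l (Ty.rel1 (nat_lit 6)))
 (TT.l (Ty.skip)))
 (TT.n (TT.l (Ty.srel [nat_lit 6]))
 (TT.l (Ty.rel3 (nat_lit 3) (nat_lit 6) (nat_lit 3)))))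
 (TT.n (TT.n (TT.l (Ty.dfn))
 (TT.l (Ty.relL (nat_lit 4) [nat_lit 6, nat_lit 4, nat_lit 6, nat_lit 4, nat_lit 6, nat_lit 4])))
 (TT.l (Ty.rel5 (nat_lit 5) (nat_lit 6) (nat_lit 5) (nat_lit 6) (nat_lit 5)))))
noncomputable def ty7 : TT := (TT.n (TT.n (TT.n (TT.l (Ty.skip))
 (TT.l (Ty.srel [nat_lit 1, nat_lit 6, nat_lit 1, nat_lit 6])))
 (TT.l (Ty.relL (nat_lit 1) [nat_lit 4, nat_lit 3, nat_lit 1, nat_lit 3, nat_lit 4, nat_lit 3, nat_lit 1, nat_lit 3])))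
 (TT.n (TT.l (Ty.relL (nat_lit 6) [nat_lit 3, nat_lit 5, nat_lit 3, nat_lit 5, nat_lit 6, nat_lit 5, nat_lit 3, nat_lit 5]))
 (TT.l (Ty.srel [nat_lit 3, nat_lit 1, nat_lit 3, nat_lit 4, nat_lit 1, nat_lit 3, nat_lit 1, nat_lit 3, nat_lit 4]))))
noncomputable def C : Cert where
  tabs := [tab0, tab1, tab2, tab3, tab4, tab5, tab6, tab7, tab8, tab9, tab10, tab11, tab12, tab13, tab14, tab15, tab16]
  tts := [ty0, ty1, ty2, ty3, ty4, ty5, ty6, ty7]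
  k := nat_lit 6
  base := nat_lit 12
  mJ := nat_lit 64
  mR := nat_lit 63
  W := nat_lit 18
  mA := nat_lit 4095
  mI := nat_lit 127
  S := nat_lit 12
  mC := nat_lit 63
  nc := nat_lit 7
  lo := nat_lit 64
  live := nat_lit 79
  hi1 := nat_lit 114
  AW := nat_lit 13
  mAW := nat_lit 8191
def il : List ℕ := [0, 1, 2, 3, 4, 5, 6]
def rels : List (List ℕ) := [[0, 1, 0, 1, 0, 1, 0, 1],
  [0, 2, 0, 2],
  [0, 3, 0, 3],
  [0, 4, 0, 4],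
  [0, 5, 0, 5],
  [1, 2, 1, 2, 1, 2],
  [1, 3, 1, 3, 1, 3, 1, 3],
  [1, 4, 1, 4],
  [1, 5, 1, 5],
  [2, 3, 2, 3],
  [2, 4, 2, 4, 2, 4, 2, 4],
  [2, 5, 2, 5],
  [3, 4, 3, 4, 3, 4],
  [3, 5, 3, 5, 3, 5, 3, 5],
  [4, 5, 4, 5],
  [1, 3, 1, 5, 3, 1, 5, 3, 5, 1, 3, 5],
  [0, 1, 0, 3, 1, 0, 3, 1, 3, 0, 1, 3],
  [3, 4, 3, 5, 3, 4, 5, 3, 5],
  [1, 3, 1, 3, 4, 3, 1, 3, 4],
  [1, 2, 1, 3, 1, 2, 3, 1, 3],
  [0, 1, 0, 1, 2, 1, 0, 1, 2],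
  [5, 6, 5, 6, 5, 6],
  [6, 3, 6, 3],
  [6, 1, 6, 1],
  [6, 2, 6, 2],
  [6, 0, 6, 0],
  [6, 5, 3, 5, 3, 6, 5, 3, 5],
  [4, 6, 4, 6, 4, 6, 4, 6]]
def subs : List (List ℕ) := [[0],
  [1],
  [2],
  [3],
  [4],
  [5]]
theorem valid : C.valid il rels subs = true := by decide +kernel
theorem p0 : C.OkL 64 79 := C.okL_of 64 0 15 79 (by decide) (by decide +kernel)
theorem p1 : C.OkR 79 115 := C.okR_of 79 0 36 115 (by decide) (by decide +kernel)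
theorem covers {G : Type*} [Group G] (ev : ℕ → G) (H : Subgroup G)
    (hinv : ∀ x < 7, ev (il.getD x 0) = (ev x)⁻¹) (hr : ∀ r ∈ rels, evw ev r = 1)
    (hs : ∀ s ∈ subs, evw ev s ∈ H) : Covers H (gensub ev 7) 15 :=
  C.sound il rels subs 7 15 valid (p0) (p1) (by decide) (by decide) ev H hinv hr hs
end CfH6.HxLT2
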