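import Cfsg.Agent.OD.Pre
import Cfsg.Agent.H6.TCTop
/-! coset enumeration certificate; generators a b B c C d e f ; index 1 -/
set_option autoImplicit false
set_option maxRecDepth 100000
set_option Elab.async false
set_option linter.all false
namespace CfH6.HxMK
open CfH6
noncomputable def tab0 : Tr := (Tr.l (nat_lit 0xa97889fff13ffe107344fff89fff186b830d4c4fff89fff13ffe27ffc4fff89fff13ffe105204fff9cac80828e6cf784fff863eb13ffe27ffc4fff89fff250c827ffc4fff89fff13ffe27ffc87a889fff0828427ffc31370e246184882890c4fff861e20c3be18b304fff89fff0c5941873c206002141))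
noncomputable def tab1 : Tr := (Tr.l (nat_lit 0x4fff861dc0c3a842f3c4fff89fff13ffe27ffc30e50eb601859a27ffc4fff89fff0c29027ffc4fff84be813ffe27ffc4fff8427013ffe27ffc4fff89fff13ffe27ffc4fff8426f13ffe1850ce7618a246098dc6b7a021b389fff13ffe109a430a0841e313ffe10b404fff89fff083a41830020e482142))
noncomputable def tab2 : Tr := (Tr.l (nat_lit 0x3fff87fff0fffe1fffc3fff87fff0fffe28b2c3fff87fff0fffe1fffc3fff881480fffe1fffc3fff88147353901fffc3fff87fff0fffe1fffc3fff87fff0fffe1fffc3fff8c246144881fffc3fff87fff0fffe1fffc3fff87fff0fffe205043fff841e4083c010b503fff87fff101801fffc20e502143))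
noncomputable def tab3 : Tr := (Tr.l (nat_lit 0xa43887fff0fffe2abb83fff87fff10398207283fff87fff0fffe28b8422ad87fff0fffe1fffc3fff92b60214be6cf783fff881461c9ca1fffc3fff8c2481448e1fffc3fff87fff102861fffc3fff87fff0fffe1fffc3fff8426b10282109a83fff842d8085ae107703fff880c0083a61fffc20e582144))
noncomputable def tab4 : Tr := (Tr.l (nat_lit 0x30ee05fff0bffe4a7b88476861cc0bffe17ffc2fff85fff0bffe17ffc30a405fff0bffe17ffc436505fff0bffe6cf702fff882710bffe2891c61230e5db1d0ae17ffc2fff85fff0bffe17ffc2fff85fff0bffe17ffc64a68826c0bffe299842fff85fff105b420b64306005fff0bffe17ffc2fff82145))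
noncomputable def tab5 : Tr := (Tr.l (nat_lit 0x3fff87fff0fffe1fffc616687fff0fffe1fffc3fff87fff0fffe1fffc3fff87fff0fffe1fffc3fff87fff0fffe2d1703fff854de0fffe1fffc40a287fff0fffe1fffc3fff881430fffe1fffc3fff881420fffe1fffc21b6881410fffe1fffc3fff87fff0fffe2030020ec87fff083a81074020e602146))
noncomputable def tab6 : Tr := (Tr.l (nat_lit 0x3fff87fff0fffe48b7c40e607fff0fffe1fffc3fff90f51103922052072b507fff0fffe1fffc612c07fff086dc1fffc40a307fff08994205143fff842e1102881fffc40a187fff0fffe1fffc27f407fff0fffe1fffc40a08426d0fffe2916c2133841e6101801077420ed041d7083aa1fffc20e682147))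
noncomputable def tab7 : Tr := (Tr.l (nat_lit 0x3fff87fff0fffe12f803fff87fff0fffe111683fff881c9217c638b5c3fff87fff0fffe1fffc40a38cb6e0fffe205183fff87fff1028a28fa83fff881440fffe2050c3fff87fff0fffe1fffc40a107fff0fffe205043fff87fff0fffe69f5c2134080c0083c2107783fff841d8083ac1074420e702148))
noncomputable def tab8 : Tr := (Tr.l (nat_lit 0xc9af1745e2a2a84b306d6e31084cb24b959b86a77403fffa5b8541d28732c4e95f99ca2329801fffcad4e91b811d71a27260b54684d9101d1df3e33c9c81118eebb01c7650724607ffedbb442825351c665a92c392976a02d1c607ffeac30c1fffa8e434db829590113a0209403e58074500d8a000000))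
noncomputable def tab9 : Tr := (Tr.l (nat_lit 0x41106433176642107207637657676531750765321765432100))
noncomputable def tab10 : Tr := (Tr.l (nat_lit 0x3101c40))
noncomputable def tab11 : Tr := (Tr.l (nat_lit 0x3181800))
noncomputable def tab12 : Tr := (Tr.l (nat_lit 0x1900))
noncomputable def tab13 : Tr := (Tr.l (nat_lit 0x1c40))
noncomputable def tab14 : Tr := (Tr.l (nat_lit 0x1c40))
noncomputable def tab15 : Tr := (Tr.l (nat_lit 0))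
noncomputable def tab16 : Tr := (Tr.l (nat_lit 0))
noncomputable def tab17 : Tr := (Tr.l (nat_lit 0x1980))
noncomputable def tab18 : Tr := (Tr.l (nat_lit 0x1345981e51a743341b73570338fb87dc35c076cd943d43c51620f227913488610bb818e16e0208b440be14d9ae0b6c7ae3541688f282))
noncomputable def ty0 : TT := (TT.n (TT.n (TT.n (TT.n (TT.l (Ty.srel [nat_lit 0]))
 (TT.l (Ty.rel5 (nat_lit 2) (nat_lit 6) (nat_lit 3) (nat_lit 4) (nat_lit 7))))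
 (TT.l (Ty.rel3 (nat_lit 2) (nat_lit 0) (nat_lit 2))))
 (TT.n (TT.l (Ty.rel1 (nat_lit 0)))
 (TT.l (Ty.rel3 (nat_lit 5) (nat_lit 0) (nat_lit 5)))))
 (TT.n (TT.n (TT.n (TT.l (Ty.dfn))
 (TT.l (Ty.srel [nat_lit 4, nat_lit 0, nat_lit 4])))
 (TT.l (Ty.rel3 (nat_lit 3) (nat_lit 0) (nat_lit 3))))
 (TT.n (TT.l (Ty.skip))
 (TT.l (Ty.srel [nat_lit 1, nat_lit 2, nat_lit 1, nat_lit 0, nat_lit 1, nat_lit 2, nat_lit 0, nat_lit 1])))))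
noncomputable def ty1 : TT := (TT.n (TT.n (TT.n (TT.l (Ty.srel [nat_lit 1]))
 (TT.l (Ty.rel3 (nat_lit 5) (nat_lit 1) (nat_lit 5))))
 (TT.n (TT.l (Ty.dfn))
 (TT.l (Ty.srel [nat_lit 0, nat_lit 3, nat_lit 7, nat_lit 0, nat_lit 1, nat_lit 7]))))
 (TT.n (TT.n (TT.l (Ty.rel1 (nat_lit 1)))
 (TT.l (Ty.rel3 (nat_lit 6) (nat_lit 1) (nat_lit 6))))
 (TT.n (TT.l (Ty.skip))
 (TT.l (Ty.srel [nat_lit 0, nat_lit 1, nat_lit 3, nat_lit 4, nat_lit 7, nat_lit 0, nat_lit 7, nat_lit 3, nat_lit 4, nat_lit 3])))))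
noncomputable def ty2 : TT := (TT.n (TT.n (TT.n (TT.l (Ty.srel [nat_lit 2]))
 (TT.l (Ty.rel3 (nat_lit 3) (nat_lit 2) (nat_lit 3))))
 (TT.l (Ty.skip)))
 (TT.n (TT.n (TT.l (Ty.rel1 (nat_lit 2)))
 (TT.l (Ty.rel3 (nat_lit 5) (nat_lit 2) (nat_lit 5))))
 (TT.l (Ty.dfn))))
noncomputable def ty3 : TT := (TT.n (TT.n (TT.n (TT.n (TT.l (Ty.srel [nat_lit 3]))
 (TT.l (Ty.srel [nat_lit 0, nat_lit 3, nat_lit 0])))
 (TT.l (Ty.rel3 (nat_lit 6) (nat_lit 3) (nat_lit 6))))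
 (TT.n (TT.l (Ty.skip))
 (TT.l (Ty.rel5 (nat_lit 4) (nat_lit 7) (nat_lit 0) (nat_lit 2) (nat_lit 6)))))
 (TT.n (TT.n (TT.n (TT.l (Ty.rel1 (nat_lit 3)))
 (TT.l (Ty.srel [nat_lit 4, nat_lit 3, nat_lit 4, nat_lit 3, nat_lit 4])))
 (TT.l (Ty.rel3 (nat_lit 7) (nat_lit 3) (nat_lit 7))))
 (TT.n (TT.l (Ty.dfn))
 (TT.l (Ty.srel [nat_lit 2, nat_lit 3, nat_lit 2])))))
noncomputable def ty4 : TT := (TT.n (TT.n (TT.n (TT.n (TT.l (Ty.srel [nat_lit 4]))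
 (TT.l (Ty.rel3 (nat_lit 0) (nat_lit 4) (nat_lit 0))))
 (TT.l (Ty.rel3 (nat_lit 6) (nat_lit 4) (nat_lit 6))))
 (TT.n (TT.l (Ty.dfn))
 (TT.l (Ty.rel5 (nat_lit 3) (nat_lit 6) (nat_lit 2) (nat_lit 0) (nat_lit 7)))))
 (TT.n (TT.n (TT.l (Ty.skip))
 (TT.l (Ty.rel3 (nat_lit 5) (nat_lit 4) (nat_lit 5))))
 (TT.n (TT.l (Ty.rel1 (nat_lit 4)))
 (TT.l (Ty.srel [nat_lit 6, nat_lit 4, nat_lit 6])))))
noncomputable def ty5 : TT := (TT.n (TT.n (TT.n (TT.l (Ty.srel [nat_lit 5]))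
 (TT.l (Ty.srel [nat_lit 3, nat_lit 4, nat_lit 5, nat_lit 3, nat_lit 5, nat_lit 3, nat_lit 4, nat_lit 3])))
 (TT.l (Ty.skip)))
 (TT.n (TT.n (TT.l (Ty.rel1 (nat_lit 5)))
 (TT.l (Ty.rel3 (nat_lit 6) (nat_lit 5) (nat_lit 6))))
 (TT.l (Ty.dfn))))
noncomputable def ty6 : TT := (TT.n (TT.n (TT.n (TT.n (TT.l (Ty.srel [nat_lit 6]))
 (TT.l (Ty.rel5 (nat_lit 0) (nat_lit 6) (nat_lit 0) (nat_lit 6) (nat_lit 0))))
 (TT.l (Ty.relL (nat_lit 7) [nat_lit 6, nat_lit 7, nat_lit 3])))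
 (TT.n (TT.l (Ty.skip))
 (TT.l (Ty.rel3 (nat_lit 3) (nat_lit 6) (nat_lit 3)))))
 (TT.n (TT.n (TT.l (Ty.rel1 (nat_lit 6)))
 (TT.l (Ty.relL (nat_lit 7) [nat_lit 3, nat_lit 6, nat_lit 7])))
 (TT.n (TT.l (Ty.dfn))
 (TT.l (Ty.srel [nat_lit 1, nat_lit 6, nat_lit 1])))))
noncomputable def ty7 : TT := (TT.n (TT.n (TT.n (TT.l (Ty.srel [nat_lit 7]))
 (TT.l (Ty.rel5 (nat_lit 0) (nat_lit 2) (nat_lit 6) (nat_lit 3) (nat_lit 4))))
 (TT.n (TT.l (Ty.skip))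
 (TT.l (Ty.relL (nat_lit 6) [nat_lit 7, nat_lit 3, nat_lit 6]))))
 (TT.n (TT.n (TT.l (Ty.rel1 (nat_lit 7)))
 (TT.l (Ty.srel [nat_lit 4, nat_lit 3, nat_lit 6, nat_lit 2, nat_lit 0])))
 (TT.n (TT.l (Ty.dfn))
 (TT.l (Ty.srel [nat_lit 1, nat_lit 0, nat_lit 3, nat_lit 7, nat_lit 0, nat_lit 1])))))
noncomputable def ty8 : TT := (TT.n (TT.n (TT.n (TT.n (TT.l (Ty.skip))
 (TT.l (Ty.srel [nat_lit 2, nat_lit 7, nat_lit 2, nat_lit 7, nat_lit 3, nat_lit 1, nat_lit 0, nat_lit 1, nat_lit 3, nat_lit 1, nat_lit 0, nat_lit 1])))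
 (TT.l (Ty.srel [nat_lit 7, nat_lit 5, nat_lit 4, nat_lit 7, nat_lit 6, nat_lit 4, nat_lit 1, nat_lit 7, nat_lit 0, nat_lit 4, nat_lit 5, nat_lit 7, nat_lit 1, nat_lit 4, nat_lit 3])))
 (TT.n (TT.n (TT.l (Ty.srel [nat_lit 2, nat_lit 1, nat_lit 2, nat_lit 1, nat_lit 2, nat_lit 1]))
 (TT.l (Ty.srel [nat_lit 7, nat_lit 5, nat_lit 4, nat_lit 0, nat_lit 7, nat_lit 1, nat_lit 4, nat_lit 6, nat_lit 7, nat_lit 4, nat_lit 5, nat_lit 7, nat_lit 3, nat_lit 4, nat_lit 1])))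
 (TT.l (Ty.relL (nat_lit 4) [nat_lit 3, nat_lit 4, nat_lit 3, nat_lit 4, nat_lit 3]))))
 (TT.n (TT.n (TT.n (TT.l (Ty.srel [nat_lit 0, nat_lit 6, nat_lit 0, nat_lit 1, nat_lit 0, nat_lit 6, nat_lit 1, nat_lit 0, nat_lit 1]))
 (TT.l (Ty.srel [nat_lit 5, nat_lit 1, nat_lit 5, nat_lit 1])))
 (TT.l (Ty.relL (nat_lit 2) [nat_lit 0, nat_lit 2, nat_lit 0])))
 (TT.n (TT.n (TT.l (Ty.srel [nat_lit 3, nat_lit 4, nat_lit 3, nat_lit 4, nat_lit 3, nat_lit 4]))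
 (TT.l (Ty.srel [nat_lit 7, nat_lit 0, nat_lit 2, nat_lit 6, nat_lit 3, nat_lit 4])))
 (TT.l (Ty.srel [nat_lit 0, nat_lit 4, nat_lit 0, nat_lit 4])))))
noncomputable def C : Cert where
  tabs := [tab0, tab1, tab2, tab3, tab4, tab5, tab6, tab7, tab8, tab9, tab10, tab11, tab12, tab13, tab14, tab15, tab16, tab17, tab18]
  tts := [ty0, ty1, ty2, ty3, ty4, ty5, ty6, ty7, ty8]
  k := nat_lit 6
  base := nat_lit 12
  mJ := nat_lit 64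
  mR := nat_lit 63
  W := nat_lit 19
  mA := nat_lit 8191
  mI := nat_lit 127
  S := nat_lit 13
  mC := nat_lit 63
  nc := nat_lit 8
  lo := nat_lit 64
  live := nat_lit 65
  hi1 := nat_lit 113
  AW := nat_lit 13
  mAW := nat_lit 8191
def il : List ℕ := [0, 1, 2, 3, 4, 5, 6, 7]
def rels : List (List ℕ) := [[0, 1, 0, 1, 0, 1, 0, 1],
  [0, 2, 0, 2],
  [0, 3, 0, 3],
  [0, 4, 0, 4],
  [0, 5, 0, 5],
  [1, 2, 1, 2, 1, 2],
  [1, 3, 1, 3, 1, 3, 1, 3],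
  [1, 4, 1, 4],
  [1, 5, 1, 5],
  [2, 3, 2, 3],
  [2, 4, 2, 4, 2, 4, 2, 4],
  [2, 5, 2, 5],
  [3, 4, 3, 4, 3, 4],
  [3, 5, 3, 5, 3, 5, 3, 5],
  [4, 5, 4, 5],
  [1, 3, 1, 5, 3, 1, 5, 3, 5, 1, 3, 5],
  [0, 1, 0, 3, 1, 0, 3, 1, 3, 0, 1, 3],
  [3, 4, 3, 5, 3, 4, 5, 3, 5],
  [1, 3, 1, 3, 4, 3, 1, 3, 4],
  [1, 2, 1, 3, 1, 2, 3, 1, 3],
  [0, 1, 0, 1, 2, 1, 0, 1, 2],
  [0, 6, 0, 6, 0, 6],
  [6, 1, 6, 1],
  [6, 3, 6, 3],
  [6, 4, 6, 4],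
  [6, 5, 6, 5],
  [6, 0, 1, 0, 1, 6, 0, 1, 0],
  [5, 7, 5, 7, 5, 7],
  [7, 3, 7, 3],
  [7, 1, 7, 3, 1, 0, 1, 3, 1, 0],
  [7, 2, 7, 3, 1, 0, 1, 3, 1, 0, 1, 2],
  [7, 0, 7, 3, 4, 3, 1, 0, 1, 3, 4],
  [7, 5, 3, 5, 3, 7, 5, 3, 5],
  [6, 7, 6, 7, 3],
  [0, 1, 7, 1, 0, 3, 7],
  [0, 4, 5, 7, 1, 4, 3, 7, 5, 4, 7, 6, 4, 1, 7],
  [3, 1, 7, 1, 0, 7, 0],
  [2, 6, 2, 6, 2, 6, 2, 6],
  [2, 6, 3, 4, 7, 0]]
def subs : List (List ℕ) := []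
theorem valid : C.valid il rels subs = true := by decide +kernel
theorem p0 : C.OkL 64 65 := C.okL_of 64 0 1 65 (by decide) (by decide +kernel)
theorem p1 : C.OkR 65 114 := C.okR_of 65 0 49 114 (by decide) (by decide +kernel)
theorem covers {G : Type*} [Group G] (ev : ℕ → G) (H : Subgroup G)
    (hinv : ∀ x < 8, ev (il.getD x 0) = (ev x)⁻¹) (hr : ∀ r ∈ rels, evw ev r = 1)
    (hs : ∀ s ∈ subs, evw ev s ∈ H) : Covers H (gensub ev 8) 1 :=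
  C.sound il rels subs 8 1 valid (p0) (p1) (by decide) (by decide) ev H hinv hr hs
end CfH6.HxMK
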