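import Cfsg.Agent.OD.Pre
import Cfsg.Agent.H6.TCTop
/-! coset enumeration certificate; generators a b B c C d e ; index 15 -/
set_option autoImplicit false
set_option maxRecDepth 100000
set_option Elab.async false
set_option linter.all false
namespace CfH6.HxMT2
open CfH6
noncomputable def tab0 : Tr := (Tr.l (nat_lit 0x27ffc9fff27ffc9fff155989fff27ffc9fff27ffc25eb27ffc85dd27ffc335527ffc44e027ffc9fff099909fff0cb449fff27ffc32d027ffc84d208f88324f27ffc255608d6c235808b5084ce2113444ca1d12c254c1cf2473c618f1c244814d1442c308d1031410870810c0))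
noncomputable def tab1 : Tr := (Tr.l (nat_lit 0x193a053e42bffcafff14f80afff14d74456f2bffc53592bffc446e14d30b55b2bffc446b2bffcafff10fa452ca11788afff10f9834542bffc945608f4044d82bffc93d208d3c445510f4484ce2113473e318f20735c18d18444b1491043c91470c42c71091432420870410c0))
noncomputable def tab2 : Tr := (Tr.l (nat_lit 0x1fffc456e1fffc84ce1138c7fff113a4a46821134445c1fffc8456095ac96551fffc334b1fffc7fff20f4824e61fffc7fff0cb247fff1fffc24e409b887fff1fffc245d1fffc7fff18b3c556c1539c32c814f80324614d64234c10d1c22ca10b1431c20c50422440870c10c0))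
noncomputable def tab3 : Tr := (Tr.l (nat_lit 0x2d5bc9fff27ffc83e02938c9fff27ffc55e820d64a45c27ffc834c27ffc9fff27ffc746c08f4c9fff20b2874e627ffc9fff1cf9c9fff27ffc82c827ffc9fff1d17c824627ffc9fff27ffc834b20b2463e41cf38635d1cd34635614f1c62d214d1442c41090c32420870410c0))
noncomputable def tab4 : Tr := (Tr.l (nat_lit 0x14f988fff23ffc8fff23ffc535d23ffc535923ffc446f23ffc8fff23ffc8fff091548fff23ffc8fff23ffc93dc23ffc23d110fa08fff08f408fff113848fff08d3c8fff11168445710f4c744e1cf3463cc14b1c634a14914524410d2c51c310b2442c81091832420870410c0))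
noncomputable def tab5 : Tr := (Tr.l (nat_lit 0x23ffc8fff23ffc8fff23ffc8fff23ffc8fff23ffc8fff23ffc8fff23ffc8fff23ffc8fff23ffc8fff23ffc8fff23ffc8fff23ffc8fff23ffc8fff23ffc8fff23ffc8fff23ffc8fff23ffc74ce1d13443cc18f2c434a18d24634814d1c62c614b1442c41090c32420870410c0))
noncomputable def tab6 : Tr := (Tr.l (nat_lit 0x17ffc5fff08f385fff17ffc5fff17ffc5fff17ffc5fff08d305fff17ffc346208d2c5fff08b4822ca17ffc5fff17ffc22c917ffc5fff08b206ad608b1c5fff08918135f0891422440870c446d3294843e510f84435e10d68435710d5442d310b4442d01093c3242083001141))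
noncomputable def tab7 : Tr := (Tr.l (nat_lit 0x119aa57e00e33a48ce8dd901fff89d641fff8613606dd7ef31ebc875f5827477212db84b6a7359bcd62f19775259f1158c651f241fff4e3212b4c45f1c1fff42524fb4a3a10cd844323140000000000000000000000000000000000000000000000000000000000000000000))
noncomputable def tab8 : Tr := (Tr.l (nat_lit 0x416314143163106266310620636063666332424414122060))
noncomputable def tab9 : Tr := (Tr.l (nat_lit 0))
noncomputable def tab10 : Tr := (Tr.l (nat_lit 0))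
noncomputable def tab11 : Tr := (Tr.l (nat_lit 0))
noncomputable def tab12 : Tr := (Tr.l (nat_lit 0))
noncomputable def tab13 : Tr := (Tr.l (nat_lit 0))
noncomputable def tab14 : Tr := (Tr.l (nat_lit 0))
noncomputable def tab15 : Tr := (Tr.l (nat_lit 0x17c0))
noncomputable def tab16 : Tr := (Tr.l (nat_lit 0x35c3803cc06686c87bc4ad3630b585544dc1530e94d702cc16206889a42a026b0f1013c4cc1db02a83441))
noncomputable def ty0 : TT := (TT.n (TT.n (TT.n (TT.n (TT.l (Ty.ssub [] []))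
 (TT.l (Ty.skip)))
 (TT.l (Ty.relL (nat_lit 1) [nat_lit 2, nat_lit 1, nat_lit 0, nat_lit 1, nat_lit 2, nat_lit 0, nat_lit 1])))
 (TT.n (TT.l (Ty.dfn))
 (TT.l (Ty.rel3 (nat_lit 4) (nat_lit 0) (nat_lit 4)))))
 (TT.n (TT.n (TT.l (Ty.rel1 (nat_lit 0)))
 (TT.l (Ty.relL (nat_lit 1) [nat_lit 0, nat_lit 1, nat_lit 0, nat_lit 1, nat_lit 0, nat_lit 1])))
 (TT.n (TT.l (Ty.rel3 (nat_lit 2) (nat_lit 0) (nat_lit 2)))
 (TT.l (Ty.rel3 (nat_lit 3) (nat_lit 0) (nat_lit 3))))))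
noncomputable def ty1 : TT := (TT.n (TT.n (TT.n (TT.n (TT.l (Ty.ssub [] []))
 (TT.l (Ty.relL (nat_lit 3) [nat_lit 4, nat_lit 3, nat_lit 1, nat_lit 3, nat_lit 4, nat_lit 1, nat_lit 3])))
 (TT.l (Ty.dfn)))
 (TT.n (TT.n (TT.l (Ty.relL (nat_lit 0) [nat_lit 1, nat_lit 6, nat_lit 0, nat_lit 1, nat_lit 0, nat_lit 6, nat_lit 0]))
 (TT.l (Ty.relL (nat_lit 0) [nat_lit 1, nat_lit 0, nat_lit 1, nat_lit 0, nat_lit 1, nat_lit 0])))
 (TT.l (Ty.srel [nat_lit 1]))))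
 (TT.n (TT.n (TT.n (TT.l (Ty.rel3 (nat_lit 6) (nat_lit 1) (nat_lit 6)))
 (TT.l (Ty.skip)))
 (TT.l (Ty.rel3 (nat_lit 4) (nat_lit 1) (nat_lit 4))))
 (TT.n (TT.l (Ty.rel1 (nat_lit 1)))
 (TT.l (Ty.relL (nat_lit 3) [nat_lit 1, nat_lit 3, nat_lit 1, nat_lit 3, nat_lit 1, nat_lit 3])))))
noncomputable def ty2 : TT := (TT.n (TT.n (TT.n (TT.n (TT.l (Ty.ssub [] []))
 (TT.l (Ty.relL (nat_lit 0) [nat_lit 1, nat_lit 0, nat_lit 1, nat_lit 2, nat_lit 1, nat_lit 0, nat_lit 1])))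
 (TT.l (Ty.srel [nat_lit 2])))
 (TT.n (TT.l (Ty.dfn))
 (TT.l (Ty.skip))))
 (TT.n (TT.n (TT.n (TT.l (Ty.rel1 (nat_lit 2)))
 (TT.l (Ty.relL (nat_lit 4) [nat_lit 2, nat_lit 4, nat_lit 2, nat_lit 4, nat_lit 2, nat_lit 4])))
 (TT.l (Ty.relL (nat_lit 6) [nat_lit 2, nat_lit 6, nat_lit 2, nat_lit 6, nat_lit 2, nat_lit 6])))
 (TT.n (TT.l (Ty.rel5 (nat_lit 1) (nat_lit 2) (nat_lit 1) (nat_lit 2) (nat_lit 1)))
 (TT.l (Ty.rel3 (nat_lit 3) (nat_lit 2) (nat_lit 3))))))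
noncomputable def ty3 : TT := (TT.n (TT.n (TT.n (TT.n (TT.l (Ty.ssub [] []))
 (TT.l (Ty.skip)))
 (TT.l (Ty.relL (nat_lit 1) [nat_lit 3, nat_lit 1, nat_lit 2, nat_lit 1, nat_lit 3, nat_lit 1, nat_lit 2])))
 (TT.n (TT.n (TT.l (Ty.rel3 (nat_lit 0) (nat_lit 3) (nat_lit 0)))
 (TT.l (Ty.rel5 (nat_lit 4) (nat_lit 3) (nat_lit 4) (nat_lit 3) (nat_lit 4))))
 (TT.l (Ty.rel1 (nat_lit 3)))))
 (TT.n (TT.n (TT.n (TT.l (Ty.rel3 (nat_lit 6) (nat_lit 3) (nat_lit 6)))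
 (TT.l (Ty.relL (nat_lit 1) [nat_lit 2, nat_lit 3, nat_lit 1, nat_lit 3, nat_lit 1, nat_lit 2, nat_lit 1])))
 (TT.l (Ty.srel [nat_lit 3])))
 (TT.n (TT.l (Ty.rel3 (nat_lit 2) (nat_lit 3) (nat_lit 2)))
 (TT.l (Ty.dfn)))))
noncomputable def ty4 : TT := (TT.n (TT.n (TT.n (TT.n (TT.l (Ty.ssub [] []))
 (TT.l (Ty.rel3 (nat_lit 1) (nat_lit 4) (nat_lit 1))))
 (TT.l (Ty.dfn)))
 (TT.n (TT.l (Ty.rel3 (nat_lit 0) (nat_lit 4) (nat_lit 0)))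
 (TT.l (Ty.rel5 (nat_lit 3) (nat_lit 4) (nat_lit 3) (nat_lit 4) (nat_lit 3)))))
 (TT.n (TT.n (TT.l (Ty.rel3 (nat_lit 6) (nat_lit 4) (nat_lit 6)))
 (TT.l (Ty.relL (nat_lit 2) [nat_lit 4, nat_lit 2, nat_lit 4, nat_lit 2, nat_lit 4, nat_lit 2])))
 (TT.n (TT.l (Ty.rel1 (nat_lit 4)))
 (TT.l (Ty.skip)))))
noncomputable def ty5 : TT := (TT.n (TT.n (TT.n (TT.l (Ty.ssub [] []))
 (TT.l (Ty.rel3 (nat_lit 1) (nat_lit 5) (nat_lit 1))))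
 (TT.n (TT.l (Ty.rel3 (nat_lit 0) (nat_lit 5) (nat_lit 0)))
 (TT.l (Ty.relL (nat_lit 3) [nat_lit 5, nat_lit 3, nat_lit 4, nat_lit 3, nat_lit 5, nat_lit 3, nat_lit 4]))))
 (TT.n (TT.n (TT.l (Ty.rel3 (nat_lit 6) (nat_lit 5) (nat_lit 6)))
 (TT.l (Ty.rel3 (nat_lit 4) (nat_lit 5) (nat_lit 4))))
 (TT.n (TT.l (Ty.rel3 (nat_lit 2) (nat_lit 5) (nat_lit 2)))
 (TT.l (Ty.skip)))))
noncomputable def ty6 : TT := (TT.n (TT.n (TT.n (TT.l (Ty.rel1 (nat_lit 6)))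
 (TT.l (Ty.skip)))
 (TT.l (Ty.rel5 (nat_lit 0) (nat_lit 6) (nat_lit 0) (nat_lit 6) (nat_lit 0))))
 (TT.n (TT.n (TT.l (Ty.dfn))
 (TT.l (Ty.srel [nat_lit 0, nat_lit 6, nat_lit 0, nat_lit 6, nat_lit 0])))
 (TT.l (Ty.srel [nat_lit 6]))))
noncomputable def ty7 : TT := (TT.n (TT.n (TT.l (Ty.skip))
 (TT.l (Ty.srel [nat_lit 3, nat_lit 6, nat_lit 3, nat_lit 6])))
 (TT.n (TT.l (Ty.relL (nat_lit 6) [nat_lit 2, nat_lit 6, nat_lit 2, nat_lit 6, nat_lit 2, nat_lit 6, nat_lit 2]))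
 (TT.l (Ty.relL (nat_lit 4) [nat_lit 3, nat_lit 1, nat_lit 3, nat_lit 4, nat_lit 3, nat_lit 1, nat_lit 3, nat_lit 1]))))
noncomputable def C : Cert where
  tabs := [tab0, tab1, tab2, tab3, tab4, tab5, tab6, tab7, tab8, tab9, tab10, tab11, tab12, tab13, tab14, tab15, tab16]
  tts := [ty0, ty1, ty2, ty3, ty4, ty5, ty6, ty7]
  k := nat_lit 6
  base := nat_lit 11
  mJ := nat_lit 64
  mR := nat_lit 63
  W := nat_lit 18
  mA := nat_lit 4095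
  mI := nat_lit 127
  S := nat_lit 12
  mC := nat_lit 63
  nc := nat_lit 7
  lo := nat_lit 64
  live := nat_lit 79
  hi1 := nat_lit 111
  AW := nat_lit 13
  mAW := nat_lit 8191
def il : List ℕ := [0, 1, 2, 3, 4, 5, 6]
def rels : List (List ℕ) := [[0, 1, 0, 1, 0, 1, 0, 1],
  [0, 2, 0, 2],
  [0, 3, 0, 3],
  [0, 4, 0, 4],
  [0, 5, 0, 5],
  [1, 2, 1, 2, 1, 2],
  [1, 3, 1, 3, 1, 3, 1, 3],
  [1, 4, 1, 4],
  [1, 5, 1, 5],
  [2, 3, 2, 3],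
  [2, 4, 2, 4, 2, 4, 2, 4],
  [2, 5, 2, 5],
  [3, 4, 3, 4, 3, 4],
  [3, 5, 3, 5, 3, 5, 3, 5],
  [4, 5, 4, 5],
  [1, 3, 1, 5, 3, 1, 5, 3, 5, 1, 3, 5],
  [0, 1, 0, 3, 1, 0, 3, 1, 3, 0, 1, 3],
  [3, 4, 3, 5, 3, 4, 5, 3, 5],
  [1, 3, 1, 3, 4, 3, 1, 3, 4],
  [1, 2, 1, 3, 1, 2, 3, 1, 3],
  [0, 1, 0, 1, 2, 1, 0, 1, 2],
  [0, 6, 0, 6, 0, 6],
  [6, 1, 6, 1],
  [6, 3, 6, 3],
  [6, 4, 6, 4],
  [6, 5, 6, 5],
  [6, 0, 1, 0, 1, 6, 0, 1, 0],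
  [2, 6, 2, 6, 2, 6, 2, 6]]
def subs : List (List ℕ) := [[0],
  [1],
  [2],
  [3],
  [4],
  [5]]
theorem valid : C.valid il rels subs = true := by decide +kernel
theorem p0 : C.OkL 64 79 := C.okL_of 64 0 15 79 (by decide) (by decide +kernel)
theorem p1 : C.OkR 79 112 := C.okR_of 79 0 33 112 (by decide) (by decide +kernel)
theorem covers {G : Type*} [Group G] (ev : ℕ → G) (H : Subgroup G)
    (hinv : ∀ x < 7, ev (il.getD x 0) = (ev x)⁻¹) (hr : ∀ r ∈ rels, evw ev r = 1)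
    (hs : ∀ s ∈ subs, evw ev s ∈ H) : Covers H (gensub ev 7) 15 :=
  C.sound il rels subs 7 15 valid (p0) (p1) (by decide) (by decide) ev H hinv hr hs
end CfH6.HxMT2
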