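import Cfsg.Agent.OD.Pre
import Cfsg.Agent.H6.TCTop
/-! coset enumeration certificate; generators a b B c C d ; index 7 -/
set_option autoImplicit false
set_option maxRecDepth 100000
set_option Elab.async false
set_option linter.all false
namespace CfH6.HxT2
open CfH6
noncomputable def tab0 : Tr := (Tr.l (nat_lit 0x6fff6fff6fff6fff6fff6fff6fff6fff6fff6fff53c642c552c44243324221c110c0))
noncomputable def tab1 : Tr := (Tr.l (nat_lit 0x84ce444a355023c96fff744b6fff344d234733c8524532c651c24243324421c110c0))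
noncomputable def tab2 : Tr := (Tr.l (nat_lit 0x544c7fff32c97fff7fff32c87fff234e234b62c743c652c342c42345314121c210c0))
noncomputable def tab3 : Tr := (Tr.l (nat_lit 0x334b32c96fff6fff32c823d03247234f234c6fff534631c242c43141224521c310c0))
noncomputable def tab4 : Tr := (Tr.l (nat_lit 0x75d043ca63ce22c643cc5fff5fff2245224421c2334d32c932c84243324720c01141))
noncomputable def tab5 : Tr := (Tr.l (nat_lit 0x6fff6fff6fff6fff6fff6fff6fff6fff6fff6fff544633c552c442c3324221c110c0))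
noncomputable def tab6 : Tr := (Tr.l (nat_lit 0x264ef7481fffe846d6c91fffc7c7b7c5a8c298440000000000000000000000000000))
noncomputable def tab7 : Tr := (Tr.l (nat_lit 0x33243234441313240))
noncomputable def tab8 : Tr := (Tr.l (nat_lit 0))
noncomputable def tab9 : Tr := (Tr.l (nat_lit 0))
noncomputable def tab10 : Tr := (Tr.l (nat_lit 0))
noncomputable def tab11 : Tr := (Tr.l (nat_lit 0))
noncomputable def tab12 : Tr := (Tr.l (nat_lit 0))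
noncomputable def tab13 : Tr := (Tr.l (nat_lit 0))
noncomputable def tab14 : Tr := (Tr.l (nat_lit 0x4c8e4834029e0cc124873c4))
noncomputable def ty0 : TT := (TT.n (TT.n (TT.n (TT.l (Ty.ssub [] []))
 (TT.l (Ty.relL (nat_lit 1) [nat_lit 2, nat_lit 1, nat_lit 0, nat_lit 1, nat_lit 2, nat_lit 0, nat_lit 1])))
 (TT.l (Ty.rel3 (nat_lit 2) (nat_lit 0) (nat_lit 2))))
 (TT.n (TT.n (TT.l (Ty.rel3 (nat_lit 4) (nat_lit 0) (nat_lit 4)))
 (TT.l (Ty.skip)))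
 (TT.l (Ty.rel3 (nat_lit 3) (nat_lit 0) (nat_lit 3)))))
noncomputable def ty1 : TT := (TT.n (TT.n (TT.n (TT.l (Ty.ssub [] []))
 (TT.l (Ty.dfn)))
 (TT.n (TT.l (Ty.rel1 (nat_lit 1)))
 (TT.l (Ty.rel5 (nat_lit 2) (nat_lit 1) (nat_lit 2) (nat_lit 1) (nat_lit 2)))))
 (TT.n (TT.n (TT.l (Ty.rel3 (nat_lit 4) (nat_lit 1) (nat_lit 4)))
 (TT.l (Ty.skip)))
 (TT.n (TT.l (Ty.relL (nat_lit 3) [nat_lit 4, nat_lit 3, nat_lit 1, nat_lit 3, nat_lit 4, nat_lit 1, nat_lit 3]))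
 (TT.l (Ty.relL (nat_lit 2) [nat_lit 3, nat_lit 1, nat_lit 3, nat_lit 1, nat_lit 2, nat_lit 1, nat_lit 3])))))
noncomputable def ty2 : TT := (TT.n (TT.n (TT.n (TT.l (Ty.ssub [] []))
 (TT.l (Ty.rel3 (nat_lit 3) (nat_lit 2) (nat_lit 3))))
 (TT.n (TT.l (Ty.dfn))
 (TT.l (Ty.skip))))
 (TT.n (TT.n (TT.l (Ty.rel1 (nat_lit 2)))
 (TT.l (Ty.relL (nat_lit 4) [nat_lit 2, nat_lit 4, nat_lit 2, nat_lit 4, nat_lit 2, nat_lit 4])))
 (TT.l (Ty.rel5 (nat_lit 1) (nat_lit 2) (nat_lit 1) (nat_lit 2) (nat_lit 1)))))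
noncomputable def ty3 : TT := (TT.n (TT.n (TT.n (TT.l (Ty.ssub [] []))
 (TT.l (Ty.relL (nat_lit 1) [nat_lit 3, nat_lit 1, nat_lit 3, nat_lit 1, nat_lit 3, nat_lit 1])))
 (TT.l (Ty.dfn)))
 (TT.n (TT.n (TT.l (Ty.rel1 (nat_lit 3)))
 (TT.l (Ty.skip)))
 (TT.l (Ty.relL (nat_lit 1) [nat_lit 2, nat_lit 3, nat_lit 1, nat_lit 3, nat_lit 1, nat_lit 2, nat_lit 1]))))
noncomputable def ty4 : TT := (TT.n (TT.n (TT.n (TT.l (Ty.rel1 (nat_lit 4)))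
 (TT.l (Ty.skip)))
 (TT.n (TT.l (Ty.srel [nat_lit 4]))
 (TT.l (Ty.rel3 (nat_lit 1) (nat_lit 4) (nat_lit 1)))))
 (TT.n (TT.n (TT.l (Ty.dfn))
 (TT.l (Ty.relL (nat_lit 2) [nat_lit 4, nat_lit 2, nat_lit 4, nat_lit 2, nat_lit 4, nat_lit 2])))
 (TT.l (Ty.rel5 (nat_lit 3) (nat_lit 4) (nat_lit 3) (nat_lit 4) (nat_lit 3)))))
noncomputable def ty5 : TT := (TT.n (TT.n (TT.n (TT.l (Ty.ssub [] []))
 (TT.l (Ty.rel3 (nat_lit 1) (nat_lit 5) (nat_lit 1))))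
 (TT.l (Ty.rel3 (nat_lit 2) (nat_lit 5) (nat_lit 2))))
 (TT.n (TT.n (TT.l (Ty.rel3 (nat_lit 4) (nat_lit 5) (nat_lit 4)))
 (TT.l (Ty.skip)))
 (TT.l (Ty.relL (nat_lit 3) [nat_lit 5, nat_lit 3, nat_lit 4, nat_lit 3, nat_lit 5, nat_lit 3, nat_lit 4]))))
noncomputable def ty6 : TT := (TT.n (TT.l (Ty.skip))
 (TT.l (Ty.relL (nat_lit 1) [nat_lit 4, nat_lit 3, nat_lit 1, nat_lit 3, nat_lit 4, nat_lit 3, nat_lit 1, nat_lit 3])))
noncomputable def C : Cert where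
  tabs := [tab0, tab1, tab2, tab3, tab4, tab5, tab6, tab7, tab8, tab9, tab10, tab11, tab12, tab13, tab14]
  tts := [ty0, ty1, ty2, ty3, ty4, ty5, ty6]
  k := nat_lit 6
  base := nat_lit 8
  mJ := nat_lit 64
  mR := nat_lit 63
  W := nat_lit 16
  mA := nat_lit 4095
  mI := nat_lit 127
  S := nat_lit 12
  mC := nat_lit 15
  nc := nat_lit 6
  lo := nat_lit 64
  live := nat_lit 71
  hi1 := nat_lit 80
  AW := nat_lit 13
  mAW := nat_lit 8191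
def il : List ℕ := [0, 1, 2, 3, 4, 5]
def rels : List (List ℕ) := [[0, 1, 0, 1, 0, 1, 0, 1],
  [0, 2, 0, 2],
  [0, 3, 0, 3],
  [0, 4, 0, 4],
  [0, 5, 0, 5],
  [1, 2, 1, 2, 1, 2],
  [1, 3, 1, 3, 1, 3, 1, 3],
  [1, 4, 1, 4],
  [1, 5, 1, 5],
  [2, 3, 2, 3],
  [2, 4, 2, 4, 2, 4, 2, 4],
  [2, 5, 2, 5],
  [3, 4, 3, 4, 3, 4],
  [3, 5, 3, 5, 3, 5, 3, 5],
  [4, 5, 4, 5],
  [1, 3, 1, 5, 3, 1, 5, 3, 5, 1, 3, 5],
  [0, 1, 0, 3, 1, 0, 3, 1, 3, 0, 1, 3],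
  [3, 4, 3, 5, 3, 4, 5, 3, 5],
  [1, 3, 1, 3, 4, 3, 1, 3, 4],
  [1, 2, 1, 3, 1, 2, 3, 1, 3],
  [0, 1, 0, 1, 2, 1, 0, 1, 2]]
def subs : List (List ℕ) := [[0],
  [1],
  [2],
  [3],
  [5]]
theorem valid : C.valid il rels subs = true := by decide +kernel
theorem p0 : C.OkL 64 71 := C.okL_of 64 0 7 71 (by decide) (by decide +kernel)
theorem p1 : C.OkR 71 81 := C.okR_of 71 0 10 81 (by decide) (by decide +kernel)
theorem covers {G : Type*} [Group G] (ev : ℕ → G) (H : Subgroup G)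
    (hinv : ∀ x < 6, ev (il.getD x 0) = (ev x)⁻¹) (hr : ∀ r ∈ rels, evw ev r = 1)
    (hs : ∀ s ∈ subs, evw ev s ∈ H) : Covers H (gensub ev 6) 7 :=
  C.sound il rels subs 6 7 valid (p0) (p1) (by decide) (by decide) ev H hinv hr hs
end CfH6.HxT2
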