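import Cfsg.Agent.OD.Pre
import Cfsg.Agent.H3.HxMA
import Cfsg.Agent.H3.HxMK
import Cfsg.Agent.H3.HxMO
import Cfsg.Agent.H3.HxMO
/-! An abstract presentation: order and simplicity. -/
set_option autoImplicit false
set_option maxRecDepth 100000
namespace CfH6.HxMG
open CfH6 MulAction
attribute [local instance] HxMA.act

theorem stab : HxMA.H = stabilizer HxMB.G 0 ∧ HxMA.H.index = 759 := HxMA.stab HxMO.covT0

theorem card : Nat.card HxMB.G = 244823040 := (HxMA.top HxMO.finG).1

theorem base : ∀ g : HxMB.G, (∀ b ∈ HxMA.bs, g • b = b) → g = 1 := (HxMA.top HxMO.finG).2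

theorem simple : IsSimpleGroup HxMB.G := by
  have := HxMO.finG.1
  refine simple_of stab.1 (by rw [stab.2]; decide) (HxMA.hmax stab.1 stab.2) base HxMA.hbs fun M hM h => ?_
  exact top_of_index (eq_top_of_collapse HxMB.el (n := 4) HxMB.hinv HxMB.hrel HxMB.htop M
    (pow_words HxMB.el h (by norm_num) (not_dvd_card card stab.2 (by decide)) 1 HxMA.ex (HxMA.hex base))
    (by decide +kernel) 1 fun ev' h1 h2 => HxMK.covers ev' ⊥ h1 h2 forall_nil)

theorem nprime : ¬ (Nat.card HxMB.G).Prime := by rw [card]; norm_num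

end CfH6.HxMG
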