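import Cfsg.Agent.OD.Pre
import Cfsg.Agent.H6.TCTop
/-! coset enumeration certificate; generators a b c d e f z t x ; index 24 -/
set_option autoImplicit false
set_option maxRecDepth 100000
set_option Elab.async false
set_option linter.all false
namespace CfH6.HyT1
open CfH6
noncomputable def tab0 : Tr := (Tr.l (nat_lit 0x5fff5fff265726d645d546543553355224d144d0454f24ce254d344c23cb444a44c924483347234643c532c442c3324221c110c0))
noncomputable def tab1 : Tr := (Tr.l (nat_lit 0x5fff5fff25d72656455545d435d335522551445044cf244e24cd34cc23cb43ca444923c833472346434532c44243324221c110c0))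
noncomputable def tab2 : Tr := (Tr.l (nat_lit 0x5fff5fff265726d644d5455435d3355225514450444f24ce254d34cc23cb43ca43c924483347234642c532c44243324221c110c0))
noncomputable def tab3 : Tr := (Tr.l (nat_lit 0x5fff5fff25d725d644d54554355334d224d14450444f244e244d344c23cb43ca43c923c83347234642c532c44243324221c110c0))
noncomputable def tab4 : Tr := (Tr.l (nat_lit 0x5fff5fff25d725d64555455434d334d224d1445044cf244e244d344c23cb43ca43c923c833472346434532c44243324221c110c0))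
noncomputable def tab5 : Tr := (Tr.l (nat_lit 0x5fff5fff25d72656455545d434d334d224d144d044cf24ce24cd344c23cb444a444923c833472346434532c442c3324221c110c0))
noncomputable def tab6 : Tr := (Tr.l (nat_lit 0x5fff5fff2557255644d544d43453345224514450444f244e23cd33cc23cb43ca434923483347234642c532c44243324221c11140))
noncomputable def tab7 : Tr := (Tr.l (nat_lit 0x23cf6fff2455245414d714d65450864f234c14d34459234a22c913d122c713ce134d2245134b224412c812c6324212c320c01141))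
noncomputable def tab8 : Tr := (Tr.l (nat_lit 0x7fff7fff58d7665633d033cf28552554544d334b334a445823d323d224ce32c63245234c23c923c831c322c73141224421c210c0))
noncomputable def tab9 : Tr := (Tr.l (nat_lit 0x5fff23ce195716d647d344d2234d234c874e14551454344b14d122c813d013cf434733462244134a12c921c21245214111c31140))
noncomputable def tab10 : Tr := (Tr.l (nat_lit 0x35d226d1000000000000000000000000000000000000000000000000000000000000000000000000000000000000000000000000))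
noncomputable def tab11 : Tr := (Tr.l (nat_lit 0x79778899788779788797898970))
noncomputable def tab12 : Tr := (Tr.l (nat_lit 0))
noncomputable def tab13 : Tr := (Tr.l (nat_lit 0))
noncomputable def tab14 : Tr := (Tr.l (nat_lit 0))
noncomputable def tab15 : Tr := (Tr.l (nat_lit 0))
noncomputable def tab16 : Tr := (Tr.l (nat_lit 0))
noncomputable def tab17 : Tr := (Tr.l (nat_lit 0))
noncomputable def tab18 : Tr := (Tr.l (nat_lit 0))
noncomputable def tab19 : Tr := (Tr.l (nat_lit 0x1640))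
noncomputable def tab20 : Tr := (Tr.l (nat_lit 0))
noncomputable def tab21 : Tr := (Tr.l (nat_lit 0x1600))
noncomputable def tab22 : Tr := (Tr.l (nat_lit 0))
noncomputable def ty0 : TT := (TT.n (TT.n (TT.n (TT.l (Ty.ssub [] []))
 (TT.l (Ty.skip)))
 (TT.l (Ty.rel3 (nat_lit 9) (nat_lit 1) (nat_lit 8))))
 (TT.n (TT.l (Ty.rel3 (nat_lit 7) (nat_lit 0) (nat_lit 7)))
 (TT.l (Ty.relL (nat_lit 8) [nat_lit 2, nat_lit 9, nat_lit 1]))))
noncomputable def ty1 : TT := (TT.n (TT.n (TT.n (TT.l (Ty.ssub [] []))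
 (TT.l (Ty.skip)))
 (TT.l (Ty.rel3 (nat_lit 9) (nat_lit 2) (nat_lit 8))))
 (TT.n (TT.l (Ty.rel3 (nat_lit 7) (nat_lit 1) (nat_lit 7)))
 (TT.l (Ty.rel3 (nat_lit 8) (nat_lit 0) (nat_lit 9)))))
noncomputable def ty2 : TT := (TT.n (TT.n (TT.n (TT.l (Ty.ssub [] []))
 (TT.l (Ty.skip)))
 (TT.l (Ty.relL (nat_lit 9) [nat_lit 1, nat_lit 0, nat_lit 8])))
 (TT.n (TT.l (Ty.relL (nat_lit 7) [nat_lit 2, nat_lit 0, nat_lit 7]))
 (TT.l (Ty.rel3 (nat_lit 8) (nat_lit 1) (nat_lit 9)))))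
noncomputable def ty3 : TT := (TT.n (TT.n (TT.n (TT.l (Ty.ssub [] []))
 (TT.l (Ty.skip)))
 (TT.l (Ty.relL (nat_lit 9) [nat_lit 5, nat_lit 3, nat_lit 8])))
 (TT.n (TT.l (Ty.relL (nat_lit 7) [nat_lit 4, nat_lit 3, nat_lit 7]))
 (TT.l (Ty.rel3 (nat_lit 8) (nat_lit 4) (nat_lit 9)))))
noncomputable def ty4 : TT := (TT.n (TT.n (TT.n (TT.l (Ty.ssub [] []))
 (TT.l (Ty.skip)))
 (TT.l (Ty.rel3 (nat_lit 9) (nat_lit 3) (nat_lit 8))))
 (TT.n (TT.l (Ty.rel3 (nat_lit 7) (nat_lit 4) (nat_lit 7)))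
 (TT.l (Ty.rel3 (nat_lit 8) (nat_lit 5) (nat_lit 9)))))
noncomputable def ty5 : TT := (TT.n (TT.n (TT.n (TT.l (Ty.ssub [] []))
 (TT.l (Ty.skip)))
 (TT.l (Ty.rel3 (nat_lit 9) (nat_lit 4) (nat_lit 8))))
 (TT.n (TT.l (Ty.rel3 (nat_lit 7) (nat_lit 5) (nat_lit 7)))
 (TT.l (Ty.relL (nat_lit 3) [nat_lit 8, nat_lit 3, nat_lit 9]))))
noncomputable def ty6 : TT := (TT.n (TT.n (TT.n (TT.l (Ty.relL (nat_lit 0) [nat_lit 3, nat_lit 0, nat_lit 3]))
 (TT.l (Ty.skip)))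
 (TT.l (Ty.rel3 (nat_lit 9) (nat_lit 6) (nat_lit 8))))
 (TT.n (TT.l (Ty.rel3 (nat_lit 7) (nat_lit 6) (nat_lit 7)))
 (TT.l (Ty.rel3 (nat_lit 8) (nat_lit 6) (nat_lit 9)))))
noncomputable def ty7 : TT := (TT.n (TT.n (TT.n (TT.l (Ty.rel1 (nat_lit 7)))
 (TT.l (Ty.rel5 (nat_lit 8) (nat_lit 7) (nat_lit 8) (nat_lit 7) (nat_lit 8))))
 (TT.l (Ty.rel5 (nat_lit 9) (nat_lit 7) (nat_lit 9) (nat_lit 7) (nat_lit 9))))
 (TT.n (TT.n (TT.l (Ty.dfn))
 (TT.l (Ty.skip)))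
 (TT.l (Ty.srel [nat_lit 7]))))
noncomputable def ty8 : TT := (TT.n (TT.n (TT.n (TT.l (Ty.ssub [] []))
 (TT.l (Ty.rel5 (nat_lit 7) (nat_lit 8) (nat_lit 7) (nat_lit 8) (nat_lit 7))))
 (TT.n (TT.l (Ty.dfn))
 (TT.l (Ty.skip))))
 (TT.n (TT.n (TT.l (Ty.rel1 (nat_lit 9)))
 (TT.l (Ty.srel [nat_lit 7, nat_lit 8, nat_lit 7, nat_lit 8, nat_lit 7])))
 (TT.l (Ty.srel [nat_lit 9]))))
noncomputable def ty9 : TT := (TT.n (TT.n (TT.n (TT.l (Ty.rel1 (nat_lit 8)))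
 (TT.l (Ty.skip)))
 (TT.l (Ty.rel5 (nat_lit 7) (nat_lit 9) (nat_lit 7) (nat_lit 9) (nat_lit 7))))
 (TT.n (TT.l (Ty.dfn))
 (TT.l (Ty.relL (nat_lit 9) [nat_lit 9, nat_lit 9, nat_lit 9, nat_lit 9, nat_lit 9]))))
noncomputable def ty10 : TT := (TT.n (TT.n (TT.l (Ty.skip))
 (TT.l (Ty.relL (nat_lit 8) [nat_lit 8, nat_lit 8, nat_lit 8, nat_lit 7, nat_lit 8, nat_lit 8, nat_lit 8, nat_lit 8, nat_lit 7, nat_lit 8, nat_lit 8, nat_lit 8, nat_lit 8, nat_lit 7, nat_lit 8, nat_lit 8, nat_lit 8, nat_lit 8, nat_lit 7])))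
 (TT.l (Ty.relL (nat_lit 7) [nat_lit 8, nat_lit 7, nat_lit 8, nat_lit 7, nat_lit 8])))
noncomputable def C : Cert where
  tabs := [tab0, tab1, tab2, tab3, tab4, tab5, tab6, tab7, tab8, tab9, tab10, tab11, tab12, tab13, tab14, tab15, tab16, tab17, tab18, tab19, tab20, tab21, tab22]
  tts := [ty0, ty1, ty2, ty3, ty4, ty5, ty6, ty7, ty8, ty9, ty10]
  k := nat_lit 6
  base := nat_lit 7
  mJ := nat_lit 64
  mR := nat_lit 63
  W := nat_lit 16
  mA := nat_lit 4095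
  mI := nat_lit 127
  S := nat_lit 12
  mC := nat_lit 15
  nc := nat_lit 10
  lo := nat_lit 64
  live := nat_lit 88
  hi1 := nat_lit 89
  AW := nat_lit 13
  mAW := nat_lit 8191
def il : List ℕ := [0, 1, 2, 3, 4, 5, 6, 7, 9, 8]
def rels : List (List ℕ) := [[0, 1, 0, 1],
  [0, 2, 0, 2],
  [0, 3, 0, 3, 6],
  [0, 4, 0, 4],
  [0, 5, 0, 5],
  [0, 6, 0, 6],
  [1, 2, 1, 2],
  [1, 3, 1, 3],
  [1, 4, 1, 4],
  [1, 5, 1, 5, 6],
  [1, 6, 1, 6],
  [2, 3, 2, 3],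
  [2, 4, 2, 4, 6],
  [2, 5, 2, 5],
  [2, 6, 2, 6],
  [3, 4, 3, 4],
  [3, 5, 3, 5],
  [3, 6, 3, 6],
  [4, 5, 4, 5],
  [4, 6, 4, 6],
  [5, 6, 5, 6],
  [8, 0, 9, 1],
  [8, 1, 9, 2],
  [8, 2, 9, 1, 0],
  [8, 3, 9, 5, 3],
  [8, 4, 9, 3],
  [8, 5, 9, 4],
  [8, 6, 9, 6],
  [7, 0, 7, 0],
  [7, 1, 7, 1],
  [7, 2, 7, 2, 0],
  [7, 3, 7, 4, 3],
  [7, 4, 7, 4],
  [7, 5, 7, 5],
  [7, 6, 7, 6],
  [8, 8, 8, 8, 8, 8, 8],
  [8, 7, 8, 7, 8, 7],
  [8, 8, 8, 8, 7, 8, 8, 8, 8, 7, 8, 8, 8, 8, 7, 8, 8, 8, 8, 7]]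
def subs : List (List ℕ) := [[0],
  [1],
  [2],
  [3],
  [4],
  [5],
  [6],
  [8]]
theorem valid : C.valid il rels subs = true := by decide +kernel
theorem p0 : C.OkL 64 88 := C.okL_of 64 0 24 88 (by decide) (by decide +kernel)
theorem p1 : C.OkR 88 90 := C.okR_of 88 0 2 90 (by decide) (by decide +kernel)
theorem covers {G : Type*} [Group G] (ev : ℕ → G) (H : Subgroup G)
    (hinv : ∀ x < 10, ev (il.getD x 0) = (ev x)⁻¹) (hr : ∀ r ∈ rels, evw ev r = 1)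
    (hs : ∀ s ∈ subs, evw ev s ∈ H) : Covers H (gensub ev 10) 24 :=
  C.sound il rels subs 10 24 valid (p0) (p1) (by decide) (by decide) ev H hinv hr hs
end CfH6.HyT1
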