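import Cfsg.Agent.OD.Pre
import Cfsg.Agent.H3.He0
import Cfsg.Agent.H4.M11
/-! Codes for the even Golay cocode. -/
set_option autoImplicit false
set_option maxRecDepth 100000
open Subgroup CfH9 CfH4.Gol Cfsg
namespace CfH3.J4

def cy (i : ℕ) : ℕ := [1, 2, 4, 8, 16, 32, 64, 128, 256, 512, 1024, 0, 1183, 318, 1763, 1478, 1811, 697, 493, 986, 1972,
  1896, 591, 1141].getD i 0
/-- the code of the duad `{a, b}` -/
def dd (a b : GolayPt) : ℕ := cy (ix a) ^^^ cy (ix b)
def DM : ℕ := 0x100108240000401071801000180200810017010008012000180100088e40084008088e0001100802100008800004200020010802408000040020401008000108002040004240d4001004028100004000240100100008404200008000082001012000088000024080041000e880800120b24020042000010020080180010117048020004d04040202100004040010800002014004108000400008202008000102000018042080002b02420002400001100480008000e88102800001000181172001b2200400204040082000002008014000200802800001d440400140010117004024001008000102000081800101170820000100018117400101170117177e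
def isD (c : ℕ) : Bool := Nat.beq (Nat.land (Nat.shiftRight DM c) 1) 1

theorem dd_lt : ∀ a b, dd a b < 2048 := by decide +kernel
theorem isD_dd : ∀ a b, a ≠ b → isD (dd a b) = true := by decide +kernel
theorem isD_ex : ∀ c < 2048, isD c = true → ∃ a b, a ≠ b ∧ dd a b = c := by decide +kernel

variable {G : Type*} [Group G] {φ : ℕ → G}

structure VD (φ : ℕ → G) : Prop where
  mul : ∀ {a b}, a < 2048 → b < 2048 → φ (a ^^^ b) = φ a * φ b
  inj : ∀ {a}, a < 2048 → φ a = 1 → a = 0

theorem xor_lt {a b : ℕ} (ha : a < 2048) (hb : b < 2048) : a ^^^ b < 2048 := Nat.xor_lt_two_pow (n := 11) ha hb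

theorem VD.one (D : VD φ) : φ 0 = 1 := by
  have := D.mul (a := 0) (b := 0) (by omega) (by omega)
  rwa [Nat.xor_self, left_eq_mul] at this
theorem VD.sq (D : VD φ) {a : ℕ} (ha : a < 2048) : φ a * φ a = 1 := by rw [← D.mul ha ha, Nat.xor_self, D.one]

def VD.V (D : VD φ) : Subgroup G where
  carrier := {g | ∃ c < 2048, φ c = g}
  mul_mem' := by
    rintro _ _ ⟨a, ha, rfl⟩ ⟨b, hb, rfl⟩
    exact ⟨_, xor_lt ha hb, D.mul ha hb⟩
  one_mem' := ⟨0, by omega, D.one⟩
  inv_mem' := by
    rintro _ ⟨a, ha, rfl⟩
    exact ⟨a, ha, eq_inv_of_mul_eq_one_left (D.sq ha)⟩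

/-- `n` induces the permutation `π` on the duads -/
def Ind (φ : ℕ → G) (n : G) (π : Equiv.Perm GolayPt) : Prop := ∀ a b, n * φ (dd a b) * n⁻¹ = φ (dd (π a) (π b))

end CfH3.J4
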