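import Cfsg.Agent.H3.Jv9
import Cfsg.Agent.H6.J4B
/-! Derivations of the relations. -/
set_option autoImplicit false
set_option maxRecDepth 100000
namespace CfH3.J4
open CfH3.He CfH6

abbrev Steps := List (ℕ × ℕ × ℕ × List ℕ)
def dR : List Steps := [[(0, 0, 200, [])], [(0, 0, 200, [])], [(0, 0, 200, [])], [(0, 0, 200, [])], [(0, 0, 200, [])], [(0, 0, 200, [])],
  [(0, 1, 13, [18]), (0, 3, 13, [17]), (2, 0, 4, [])],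
  [(2, 0, 4, [])],
  [(0, 28, 17, [0, 18, 7, 9, 13, 8, 7, 9, 10, 17, 0]), (0, 10, 17, [0, 18, 7, 9, 13, 8, 7, 9, 10, 17, 0]), (2, 31, 3, [3, 17, 0]), (2, 19, 5, [3]), (2, 9, 3, [0, 18, 3]), (1, 11, 17, [10, 9, 7, 8, 13, 9, 7]), (0, 0, 28, [])],
  [(0, 22, 20, [1, 0, 2, 1379, 0, 2, 0, 2, 0, 2, 0, 2, 0, 1, 0, 2, 0, 2, 935, 7, 13, 6, 8, 7, 15]), (2, 26, 0, [3, 3]), (0, 28, 21, [0, 18, 1059, 6, 7, 9, 8, 7, 10, 9, 6, 15, 8, 7, 10, 9, 17, 0]), (2, 27, 3, [0, 18, 3]), (2, 44, 3, [3, 17, 0]), (1, 29, 16, [192, 7, 3, 390, 7, 9, 6, 8, 7, 15, 8, 10, 9, 6, 8, 7]), (0, 22, 4, [0, 17, 17, 214, 6, 8, 7, 9, 6, 10, 12, 8, 7, 6, 9, 8, 18, 18, 0]), (2, 21, 4, [0, 17, 17, 3]), (2, 38, 4, [3, 18, 18, 0]), (1, 24, 15, [192, 10, 9, 6, 7, 3, 65, 6, 8, 7, 10, 9, 6, 14, 8, 15]), (0, 48, 56, [17, 17, 970, 9, 6, 7, 11,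 10, 9, 11, 18, 18, 0]), (2, 47, 3, [17, 17, 3]), (2, 58, 4, [3, 18, 18, 0]), (1, 49, 10, [1088, 9, 6, 7, 3, 1793, 6, 8, 7, 9, 6, 8, 7, 10, 9, 11, 8, 15]), (0, 30, 23, [0, 17, 17, 934, 5, 7, 8, 9, 8, 10, 11, 9, 8, 12, 17, 0]), (2, 29, 4, [0, 17, 17, 3]), (2, 44, 3, [3, 17, 0]), (1, 32, 13, [6, 7, 3, 1033, 4, 9, 16, 6, 7, 8, 9, 10, 9]), (0, 35, 48, [0, 17, 17, 103, 7, 8, 10, 13, 6, 7]), (2, 34, 4, [0, 17, 17, 3]), (1, 37, 9, [103, 7, 6, 8, 7, 10, 13]), (0, 0, 64, [])]]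
def dG : List (List ℕ × Steps) := [([128], [(0, 3, 3, [111]), (1, 2, 3, [111]), (0, 1, 3, [128]), (1, 0, 4, [])]),
  ([794], [(0, 3, 3, [163]), (1, 2, 3, [163, 7, 14, 7]), (0, 1, 6, [794, 6, 8]), (1, 0, 6, [])]),
  ([801], [(0, 3, 3, [146]), (1, 2, 3, [146, 11, 16]), (0, 1, 5, [801, 6, 14, 8, 11]), (1, 0, 8, [])]),
  ([192], [(0, 3, 3, [157]), (1, 2, 3, [157, 6, 13, 6, 12]), (0, 1, 7, [192, 8, 10]), (1, 0, 6, [])]),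
  ([286], [(0, 3, 3, [718]), (1, 2, 3, [718, 6, 14, 8, 11]), (0, 1, 7, [286, 11, 8, 10, 16]), (1, 0, 8, [])]),
  ([145], [(0, 3, 3, [623]), (1, 2, 3, [623, 6, 10]), (0, 1, 5, [145, 6, 14, 6, 13]), (1, 0, 8, [])]),
  ([657], [(0, 3, 3, [612]), (1, 2, 3, [612, 10, 14, 6, 13]), (0, 1, 7, [657, 10, 14, 6, 13]), (1, 0, 8, [])]),
  ([6, 8], [(0, 3, 4, [7, 14, 7]), (1, 2, 5, [7, 14, 7]), (0, 1, 5, [6, 8]), (1, 0, 6, [])]),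
  ([6, 10], [(0, 3, 4, [6, 14, 6, 13]), (1, 2, 6, [6, 14, 6, 13]), (0, 1, 6, [6, 10]), (1, 0, 6, [])]),
  ([11, 13], [(0, 3, 4, [8, 12, 6, 16]), (1, 2, 6, [8, 12, 6, 16]), (0, 1, 6, [11, 13]), (1, 0, 6, [])])]
def dC : List (ℕ × ℕ × List ℕ × ℕ × Steps) := [(13, 0, [21, 22, 20, 22], 48, [(1, 0, 11, [])]),
  (13, 1, [21, 22, 20, 22], 49, [(1, 0, 11, [])]),
  (13, 16, [21, 19, 22, 21, 24, 22], 49, [(1, 0, 15, [])]),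
  (13, 17, [21, 19, 22, 20, 24, 22, 24, 22], 49, [(1, 0, 19, [])]),
  (13, 384, [21, 22, 23, 24, 22, 21, 2, 0, 1, 0, 1, 0, 2, 0, 1, 0, 2, 0, 1, 0, 2, 0, 2], 276, [(0, 6, 36, [330, 6, 7, 9, 8, 7, 10, 14, 9, 6]), (1, 0, 23, [])]),
  (13, 385, [21, 22, 20, 21, 24, 22, 2, 0, 1, 0, 1], 1976, [(0, 6, 12, [1343, 4, 9, 6, 11, 15]), (1, 0, 19, [])]),
  (13, 400, [21, 22, 23, 24, 22, 21, 20, 23, 1, 0, 2, 0, 2, 0, 1, 0, 2, 0, 2, 0, 1, 0, 1], 49, [(0, 8, 32, [121, 12, 15, 16]), (1, 0, 21, [])]),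
  (13, 401, [21, 19, 22, 24, 22, 24, 22, 2, 0, 2, 0, 2, 0, 1, 0, 1, 0, 1, 0, 2, 0, 1, 0, 2, 0, 2, 0, 1, 0, 1], 38, [(0, 7, 48, [114, 12, 13, 15]), (1, 0, 19, [])]),
  (11, 0, [21, 19, 22, 24, 22, 21, 20], 18, [(1, 0, 17, [])]),
  (11, 2, [21, 19, 22, 20], 85, [(1, 0, 11, [])])]
def W8 : List ℕ := [0, 26, 47, 53, 64, 90, 111, 117]
def sw : List ℕ := [320, 7, 6, 8, 7]
def sw' : List ℕ := [1698, 9, 8, 10, 9, 11, 16]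
def cgen : List (List ℕ) := [[1792], [1856], [576, 10, 9, 7, 3, 896, 6, 8, 9, 8, 7], [128, 6, 7, 9, 8, 7, 10, 9, 6], [1920, 7, 9, 8, 7, 10, 9], [448, 6, 7, 6]]
def zw : List ℕ := [3, 7, 9, 10, 3, 4, 8, 9, 8, 7, 14, 15, 3, 9, 10, 7, 8, 15, 9, 10, 7, 4]
def mpA : List ℕ := [389, 1184, 1314, 854, 1800, 1724, 1756, 1446, 256, 350, 792]
def wA : List ℕ := [2, 0, 2, 0, 1, 0, 2, 0, 1, 0, 2, 0, 1, 0, 1, 0, 1, 0, 1, 0, 1]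
def wX : List ℕ := [1, 0, 1, 0, 2, 0, 2, 0, 2, 0, 1, 0, 1, 0, 2, 0, 2, 0, 1, 0, 1, 0, 1, 0, 1]
theorem d1 : ∀ j < 10, der true (dR.getD j []) (J4B.rels.getD j []) = true := by decide +kernel
theorem d2 : der false [(0, 1, 1, [7, 13, 6, 8, 7, 15]), (0, 8, 1, [7, 13, 6, 8, 7, 15]), (1, 0, 14, [])] [3, 0, 3, 0] = true ∧ (∀ a ∈ dG, a.1.all okg = true ∧
    der false a.2 ([3, 18, 3, 17] ++ a.1 ++ ginv [3, 18, 3, 17] ++ ginv a.1) = true) ∧ cg (3 :: sw ++ 3 :: sw ++ 3 :: sw) = 0 ∧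
    nz (18 :: sw ++ 17 :: ginv sw') = true ∧ (∀ c ∈ W8, c ≠ 0 → cg (3 :: (c + 64) :: sw' ++ 3 :: (c + 64) :: sw' ++ 3 :: (c + 64) :: sw') ∈
      [26, 47, 53, 4096, 4122, 4143, 4149]) ∧
    al (fun c => !(Nat.beq (gv [6, 8] c) c && Nat.beq (gv [6, 10] c) c && Nat.beq (gv [11, 13] c) c) || W8.contains c) 2048 = true := by
  decide +kernel
theorem d3 : (∀ a ∈ dC, a.2.2.1.all okg = true ∧ a.2.2.2.1 < 2048 ∧ a.2.2.2.1 ≠ 0 ∧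
    der false a.2.2.2.2 (a.2.2.1 ++ [a.2.1 + 64, a.1] ++ ginv a.2.2.1 ++ [a.2.2.2.1 + 64]) = true) ∧
    (∀ q ∈ [11, 13], al (fun c => !Nat.beq (gv [q] c) c || dC.any fun a => Nat.beq a.1 q &&
      an (fun m => frc (ext (cond (Nat.beq q 11) [1, 128, 256, 512, 1024] [4, 128, 512, 1024]) m) fun v => Nat.beq (Nat.xor (Nat.xor v c) (gv [q] v)) a.2.1) 32) 2048 = true) ∧
    (∀ i < 6, (cgen.getD i []).all (fun x => x != 0 && x != 1 && x != 2 && (Nat.blt x 17 || okv x)) = true ∧ cg (cgen.getD i [] ++ [19 + i]) = 0) ∧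
    cg zw = 4096 ∧ gv [0, 2, 8] 6 = 128 ∧ (∀ i < 11, gv (wA ++ 13 :: ginv wA) (2 ^ i) = ext mpA (2 ^ i)) ∧ nz (wX ++ 11 :: ginv wX ++ [0]) = true ∧
    al (fun i => an (fun a => Nat.beq (ib 1 102 a) 1 && Nat.beq (ib 1 102 (Nat.xor a (Nat.pow 2 i))) 1) 256 ||
      an (fun a => Nat.beq (ib 1 102 (Nat.add a 1024)) 1 && Nat.beq (ib 1 102 (Nat.xor (Nat.add a 1024) (Nat.pow 2 i))) 1) 1024) 11 = true := by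
  decide +kernel

end CfH3.J4
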