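import Cfsg.Agent.H3.Jv9
import Cfsg.Agent.H3.JvT
/-! Checks for the complement to the subgroup of order `2 ^ 11`. -/
set_option autoImplicit false
set_option maxRecDepth 100000
namespace CfH3.J4
open CfH3.He CfH6 CfH4.Gol Cfsg

def Tm : List ℕ := [1573, 1279, 482, 1220, 51, 354, 316, 98, 283, 610, 385]
def Ti : List ℕ := [1156, 1705, 711, 26, 919, 426, 1923, 36, 160, 640, 1384]
def sig : List ℕ := [2, 0, 2, 0, 1, 0, 2, 0, 2, 0, 2, 0, 2, 0, 2, 0, 1, 0, 1, 0, 1]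
def qs : List (List ℕ) := [[5, 11, 4], [11, 7, 8, 11, 8, 7], [5, 11, 4, 5, 7, 8, 11, 8, 7, 4], [5, 11, 4, 4, 6, 11, 6, 5], [4, 11, 5, 6, 11, 6]]
def r1 : List (List (List ℕ)) := [[[6, 6], [6, 4, 6, 4]], [[7, 7], [7, 4, 7, 4]], [[8, 8], [8, 4, 8, 4]], [[9, 9], [9, 4, 9, 4]],
  [[10, 10], [10, 4, 10, 4]], [[11, 11], [11, 4, 11, 4, 11, 4], [11, 4, 11, 5, 11, 4, 11, 5]]]
def r2 : List (List (List ℕ)) := [[], [[6, 7, 6, 7, 6, 7]], [[7, 8, 7, 8, 7, 8], [6, 8, 6, 8]], [[8, 9, 8, 9, 8, 9], [7, 9, 7, 9], [6, 9, 6, 9, 4]],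
  [[9, 10, 9, 10, 9, 10], [8, 10, 8, 10], [7, 10, 7, 10], [6, 10, 6, 10]],
  [[7, 10, 11, 10, 7, 11], [4, 9, 6, 11, 6, 9, 5, 11], [4, 6, 8, 7, 11, 7, 8, 6, 5, 11]]]
def C6 : List (List ℕ) := [[0, 64, 128, 192, 512, 576, 640, 704, 1024, 1088, 1152, 1216, 1536, 1600, 1664, 1728],
  [0, 64, 256, 320, 640, 704, 896, 960, 1024, 1088, 1280, 1344, 1664, 1728, 1920, 1984],
  [0, 64, 128, 192, 512, 576, 640, 704, 1280, 1344, 1408, 1472, 1792, 1856, 1920, 1984],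
  [0, 64, 128, 192, 256, 320, 384, 448, 1024, 1088, 1152, 1216, 1280, 1344, 1408, 1472],
  [0, 64, 128, 192, 256, 320, 384, 448, 512, 576, 640, 704, 768, 832, 896, 960],
  [0, 4, 8, 12, 16, 20, 24, 28, 32, 36, 40, 44, 48, 52, 56, 60, 66, 70, 74, 78, 82, 86, 90, 94, 98, 102, 106, 110, 114, 118, 122, 126]]
noncomputable def dw (d : ℕ → ℕ) (w : List ℕ) : ℕ := List.rec 0 (fun i _ r => frc r fun r => Nat.xor (d i) (ext (gm i) r)) w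
def dl (F : List ℕ) (i : ℕ) : ℕ := cond (Nat.blt i 6) 0 (F.getD (Nat.sub i 6) 0)
noncomputable def lv (F : List ℕ) (j : ℕ) : Bool := (r2.getD j []).all fun w => Nat.beq (dw (dl F) w) 0
def pc (i : ℕ) : ℕ := cond (Nat.beq i 6) 128 (cond (Nat.beq i 11) 82 0)
def K7 : List ℕ := [4, 6, 7, 8, 9, 10, 11]
def o7 (i : ℕ) : ℕ := cond (Nat.beq i 4 || Nat.beq i 11) 0 1
noncomputable def fin (F : List ℕ) : Bool := an (fun m => an (fun a => an (fun b => K7.all fun i => Nat.beq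
  (Nat.xor (Nat.xor (Nat.mul 64 m) (Nat.xor (Nat.mul a (pc i)) (dl F i))) (ext (gm i) (Nat.mul 64 m))) (Nat.mul 64 (Nat.mul b (o7 i)))) 2) 2) 32
def m7 (i : ℕ) : ℕ := [6, 7, 8, 9, 10, 4, 5].getD i 0

theorem k1 : al (fun c => Nat.beq (ext Tm (ext Ti c)) c && Nat.beq (ext Ti (ext Tm c)) c && frc (ext Tm c) fun u =>
    (isD c == (!Nat.beq c 0 && !Nat.beq (ib 1 102 u) 1)) && (!isD c || Nat.ble 3 (ty 1 u))) 2048 = true := by decide +kernel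
theorem k2 : (∀ i < 11, ext (gm 0) (ext Tm (2 ^ i)) = ext Tm (dd (M24I.pX (pt 11)) (M24I.pX (pt i))) ∧
    ext (gm 1) (ext Tm (2 ^ i)) = ext Tm (dd ((M24I.pU * M24I.pV) (pt 11)) ((M24I.pU * M24I.pV) (pt i))) ∧
    gv (6 :: sig) (2 ^ i) = gv (sig ++ [13]) (2 ^ i)) ∧ cv 1 1 [9, 9] = 4096 ∧
    al (fun c => !Nat.beq (Nat.xor (ext (gm 6) c) (Nat.xor 64 c)) 0) 2048 = true := by decide +kernel
theorem k3 : (∀ r ∈ JvT.rels, cg (r.map m7) = 0) ∧ (∀ x < 7, cg [m7 (JvT.il.getD x 0), m7 x] = 0 ∧ okc (m7 x) = true ∧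
    (cwd (m7 x)).all okl = true ∧ (cwd (m7 x)).all (fun x => Nat.beq x 7 || GP.contains x) = true ∧
    ∀ j < 64, ∃ j' < 64, wa (cwd (m7 x)) (64 * j) = 64 * j') ∧ (∀ a < 64, ∀ b < 64, mq (64 * a) (64 * b) = 64 * (a ^^^ b)) ∧
    (∀ j < 5, (∀ i ∈ qs.getD j [], i ∈ 5 :: K7) ∧ cg (qs.getD j [] ++ [12 + j]) = 0) ∧ cg [4, 4, 4] = 0 ∧
    ∀ j < 6, (∀ w ∈ r1.getD j [], cg w = 0 ∧ ∀ i ∈ w, i = 4 ∨ i = 5 ∨ i = 6 + j) ∧ ∀ w ∈ r2.getD j [], cg w = 0 ∧ ∀ i ∈ w, 4 ≤ i ∧ i ≤ 6 + j := by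
  decide +kernel
theorem k4 : al (fun c => (!Nat.beq (dw (fun _ => c) [4, 4, 4]) 0 || Nat.beq (Nat.xor (Nat.xor (ext (gm 4) c) c) (ext (gm 4) (ext (gm 4) c))) 0) &&
    al (fun j => (C6.getD j []).contains c || (r1.getD j []).any fun w => !Nat.beq (dw (fun i => cond (Nat.blt i 6) 0 c) w) 0) 6) 2048 = true := by
  decide +kernel
theorem k5 : ∀ a ∈ C6.getD 0 [], ∀ b ∈ C6.getD 1 [], lv [a, b] 1 = true → ∀ c ∈ C6.getD 2 [], lv [a, b, c] 2 = true → ∀ d ∈ C6.getD 3 [],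
    lv [a, b, c, d] 3 = true → ∀ e ∈ C6.getD 4 [], lv [a, b, c, d, e] 4 = true → ∀ f ∈ C6.getD 5 [], lv [a, b, c, d, e, f] 5 = true →
    fin [a, b, c, d, e, f] = true := by decide +kernel
theorem k6 : ∀ i ∈ K7, ∀ p, (∃ a, ext Tm (dd p a) = ext (gm i) (ext Tm (dd (pt 2) (pt 0)))) →
    (∃ a, ext Tm (dd p a) = ext (gm i) (ext Tm (dd (pt 2) (pt 1)))) → ext Tm (dd (pt 2) p) = pc i := by decide +kernel

end CfH3.J4
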