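import Cfsg.Agent.H3.He0
import Cfsg.Agent.H3.HxMG
import Cfsg.Agent.H6.Iso
import Cfsg.Agent.OD.Helper3xa60e1625b6
/-! The order of the automorphism group of the Golay code, and a presentation. -/
set_option autoImplicit false
set_option maxRecDepth 100000
open Subgroup CfH9 CfH6 Cfsg MulAction
open scoped Pointwise
namespace CfH3.M24
open He

def pt (n : ℕ) : GolayPt := if n < 23 then some (n : ZMod 23) else none
def ix : GolayPt → ℕ
  | none => 23
  | some x => x.val
theorem ix_lt : ∀ p, ix p < 24 := by decide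
theorem pt_ix : ∀ p, pt (ix p) = p := by decide
theorem ix_pt : ∀ n < 24, ix (pt n) = n := by decide
def wv (w : ℕ) : GolayPt → ZMod 2 := fun p => bz (w.testBit (ix p))
theorem wv_xor (a b : ℕ) : wv (a ^^^ b) = wv a + wv b := by
  ext p
  have : ∀ x y, bz (x ^^ y) = bz x + bz y := by decide
  simp only [wv, Nat.testBit_xor, this, Pi.add_apply]
theorem wv_zero : wv 0 = 0 := by ext p; simp [wv, bz]
def gw : List ℕ := [340831, 681662, 1363324, 2726648, 5453296, 2517985, 5035970, 1683333, 3366666, 6733332, 5078057, 1767507, 3535014, 7070028, 5751449, 3114291, 6228582, 4068557, 8137114, 7885621, 7382635, 6376663, 4364719, 16777215]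
def bs : List ℕ := [13062145, 4845570, 13938692, 7221256, 10170384, 11952160, 15515712, 2019456, 4038912, 8077824, 11654144, 14919680]
def be : List (List ℕ) := [[0, 3, 5, 7, 9, 10, 23], [3, 4, 8], [0, 3, 4, 7, 10, 23], [3, 4, 5, 6, 8, 10], [1, 3, 4, 5, 7, 9, 10, 23], [0, 1, 2, 4, 7, 8, 9, 10, 23], [0, 2, 3, 6, 7, 8, 10, 23], [4, 6, 7, 8, 9, 10], [0, 1, 6, 8, 10], [0, 2, 5, 6], [0, 1, 5, 6, 9, 10, 23], [0, 2, 5, 9, 10, 23]]
def oc : List ℕ := [5279, 10558, 15777, 18147, 21116, 31554, 36294, 39257, 42232, 45159, 52005, 57883, 63108, 69395, 72588, 75309, 78514, 84464, 90318, 95313, 99029, 104010, 115766, 118953, 126216, 133817, 138790, 140167, 145176, 150618, 153797, 157028, 168928, 175681, 180636, 185603, 190626, 198058, 201013, 208020, 210955, 213833, 231532, 237906, 252432, 262637, 267634, 272595, 277580, 280334, 283537, 290352, 298027, 301236, 304405, 307594, 314056, 334433, 337856, 346141, 351362, 352547, 361272, 371206, 381252, 396116, 402026, 416040, 418953, 421910, 427666, 430605,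 442481, 459847, 463064, 475812, 493953, 504864, 525274, 530245, 535268, 542009, 545190, 551943, 555160, 560668, 563843, 567074, 580704, 582081, 593097, 596054, 602472, 608810, 615188, 622863, 628112, 632881, 657763, 663645, 668866, 675712, 684577, 689317, 692282, 702724, 705094, 722544, 737427, 742412, 762504, 786999, 792232, 797449, 804052, 806987, 832080, 837906, 843820, 855332, 861210, 864389, 884962, 902657, 919694, 924689, 926128, 951624, 987906, 1009728, 1050548, 1053483, 1060490, 1063445, 1065303, 1070536, 1075305, 1084018, 1090380, 1100945, 1103886, 1110320, 1116327, 1121336, 1122713, 1127686, 1134148, 1148257, 1161408, 1164162, 1182989, 1186194, 1188915, 1192108, 1204944, 1212619, 1217620, 1230376, 1245726, 1250945, 1256224, 1265762, 1302533, 1312345, 1315526, 1327290, 1332261, 1337732, 1351424, 1352353, 1369154, 1378634, 1384564, 1405448, 1410188, 1413139, 1445088, 1454401, 1460739, 1474854, 1484824, 1525008, 1573998, 1577201, 1584464, 1589901, 1594898, 1608104, 1613974, 1618953,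 1647171, 1661185, 1664160, 1675812, 1687640, 1710664, 1722420, 1728778, 1737489, 1769924, 1805314, 1836419, 1839388, 1849378, 1852256, 1869893, 1903248, 1975812, 2019456, 2031657, 2101096, 2106966, 2110153, 2115979, 2120980, 2121909, 2126890, 2130606, 2135601, 2141072, 2147405, 2150610, 2162811, 2168036, 2173253, 2180760, 2183687, 2201890, 2204803, 2207772, 2220640, 2229713, 2232654, 2242672, 2245426, 2255372, 2263063, 2268296, 2269481, 2296514, 2313249, 2322816, 2328324, 2363013, 2365978, 2372388, 2377830, 2384216, 2392899, 2409888, 2422785, 2425238, 2430217, 2435240, 2460752, 2491452, 2494627, 2501890, 2512448, 2531524, 2564625, 2605066, 2624690, 2627629, 2631052, 2634003, 2640465, 2654580, 2664522, 2675464, 2687905, 2702848, 2704706, 2738308, 2754059, 2757268, 2769128, 2810896, 2820376, 2826278, 2854977, 2890176, 2892897, 2908802, 2916505, 2921478, 2949708, 2969648, 3031301, 3050016, 3147996, 3152963, 3154402, 3168928, 3172097, 3179802, 3182981, 3189796, 3216208, 3227948, 3237906,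 3246601, 3277413, 3294342, 3297305, 3322370, 3328320, 3351624, 3375280, 3410225, 3416079, 3421328, 3444840, 3457556, 3474978, 3489985, 3539848, 3610628, 3672838, 3678776, 3698756, 3704512, 3719203, 3736597, 3739786, 3806496, 3811457, 3951624, 4038912, 4063314, 4196943, 4202192, 4203377, 4213932, 4216883, 4220306, 4223245, 4229001, 4231958, 4241960, 4243818, 4253780, 4261212, 4264387, 4271202, 4282144, 4287105, 4294810, 4299781, 4301220, 4325622, 4330601, 4336072, 4343317, 4346506, 4361520, 4367374, 4370577, 4403780, 4409606, 4415544, 4424227, 4441280, 4459426, 4465308, 4470275, 4476225, 4485344, 4490852, 4505735, 4510744, 4523185, 4526126, 4536592, 4538962, 4563017, 4587803, 4593028, 4597797, 4626498, 4645632, 4656648, 4721045, 4726026, 4726955, 4731956, 4744776, 4752467, 4755660, 4768432, 4785798, 4788761, 4800613, 4819776, 4845570, 4850476, 4860434, 4870480, 4900873, 4921504, 4924673, 4982904, 4989254, 5003780, 5017889, 5024896, 5063048, 5112513, 5129250, 5210132, 5249380, 5252293,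 5255258, 5262104, 5268006, 5275709, 5280930, 5286147, 5296705, 5309160, 5325835, 5329044, 5350928, 5375810, 5390753, 5405696, 5409412, 5441617, 5476616, 5508118, 5511305, 5514536, 5538256, 5571333, 5621792, 5640752, 5652556, 5709954, 5770785, 5780352, 5785794, 5817604, 5833010, 5842956, 5899416, 5902343, 5939296, 6053905, 6062602, 6100032, 6292775, 6295992, 6302745, 6305926, 6308804, 6326497, 6337856, 6344194, 6359604, 6365962, 6379592, 6406417, 6429441, 6432416, 6447171, 6455896, 6475812, 6488205, 6493202, 6554826, 6557781, 6570537, 6588684, 6594610, 6644740, 6656640, 6703248, 6750560, 6820450, 6832158, 6837377, 6842656, 6857221, 6889680, 6915112, 6949956, 6979970, 7079696, 7145475, 7221256, 7340691, 7345676, 7357552, 7397512, 7409024, 7417889, 7438406, 7473194, 7479572, 7612992, 7622914, 7767041, 7864649, 7903248, 8077824, 8126628, 8391797, 8394986, 8398155, 8401364, 8407702, 8412681, 8414120, 8421811, 8426796, 8431757, 8436754, 8439632, 8455014, 8464984, 8471941, 8474906, 8484900,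 8490656, 8499969, 8505411, 8521420, 8524371, 8536111, 8541360, 8546577, 8555274, 8561204, 8581192, 8592704, 8593633, 8611330, 8619033, 8622214, 8654232, 8657159, 8660134, 8663097, 8675909, 8683614, 8688833, 8694112, 8704546, 8716939, 8721940, 8733800, 8773776, 8783649, 8796800, 8798658, 8834052, 8849458, 8855820, 8919856, 8922769, 8925710, 8931660, 8937586, 8946281, 8963210, 8966165, 8978620, 8983587, 8989058, 8999616, 9020484, 9045270, 9048457, 9055272, 9078992, 9112069, 9158944, 9178690, 9193633, 9204992, 9208708, 9240913, 9279496, 9310308, 9323032, 9347075, 9440193, 9451104, 9456930, 9462812, 9465987, 9471495, 9474712, 9486564, 9503954, 9506893, 9519665, 9537812, 9543722, 9568632, 9578566, 9589508, 9607201, 9610624, 9652360, 9701932, 9708306, 9721936, 9748745, 9769376, 9776129, 9830549, 9835530, 9929280, 9963547, 9968772, 9969957, 9998658, 10021376, 10028808, 10093218, 10110017, 10170384, 10232008, 10257456, 10305542, 10486557, 10491778, 10496547, 10506593, 10513600, 10525252, 10537016,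 10543366, 10554382, 10557585, 10560816, 10584520, 10619300, 10625178, 10630149, 10650722, 10666625, 10687016, 10698836, 10748656, 10765331, 10768524, 10790408, 10825794, 10832640, 10846245, 10881097, 10916112, 11010247, 11015256, 11028004, 11046145, 11055264, 11100169, 11108882, 11150144, 11163650, 11272490, 11282452, 11469952, 11535529, 11538486, 11548936, 11551306, 11575377, 11608708, 11654144, 11669008, 11731203, 11797828, 11831426, 11952160, 12075408, 12126304, 12222476, 12325377, 12584506, 12587685, 12594948, 12599513, 12604486, 12624578, 12638592, 12641313, 12650793, 12656663, 12661896, 12685424, 12698124, 12717187, 12720156, 12726562, 12733024, 12747077, 12780432, 12849992, 12861748, 12871690, 12880401, 12912836, 12944642, 12985424, 13009064, 13062145, 13108704, 13121601, 13124355, 13142054, 13148440, 13192208, 13262980, 13276672, 13303882, 13370381, 13373586, 13443616, 13631886, 13636881, 13641904, 13667400, 13703682, 13721920, 13771273, 13811730, 13829156, 13893731, 13911680,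 13938692, 14156372, 14176296, 14254209, 14551296, 14682450, 14688364, 14709264, 14714004, 14716939, 14747201, 14762146, 14828808, 14919680, 14949408, 14950785, 15073798, 15207048, 15274244, 15335473, 15515712, 15747077, 15762208, 15864000, 16056344, 16262146]
noncomputable def cmb (L : List ℕ) (n : ℕ) : ℕ :=
  List.rec (fun _ => 0) (fun b _ ih n => frc (ih (n / 2)) fun r => cond (Nat.beq (n % 2) 1) (Nat.xor b r) r) L n
noncomputable def pc (w : ℕ) : ℕ := ct (fun i => cond (w.testBit i) 1 0) 24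
noncomputable def isC (w : ℕ) : Bool := Nat.beq (cmb bs (w % 4096)) w

theorem cmb_cons (b : ℕ) (L : List ℕ) (n : ℕ) : cmb (b :: L) n = cond (Nat.beq (n % 2) 1) (b ^^^ cmb L (n / 2)) (cmb L (n / 2)) :=
  frc_eq (cmb L (n / 2)) fun r => cond (Nat.beq (n % 2) 1) (Nat.xor b r) r

theorem cmb_xor (L : List ℕ) : ∀ m n, cmb L (m ^^^ n) = cmb L m ^^^ cmb L n := by
  induction L with
  | nil => intro m n; exact (Nat.xor_self 0).symm
  | cons b L ih =>
    intro m n
    rw [cmb_cons, cmb_cons, cmb_cons, Nat.xor_div_two, ih, Nat.xor_mod_two_eq]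
    rcases Nat.mod_two_eq_zero_or_one m with h | h <;> rcases Nat.mod_two_eq_zero_or_one n with h' | h' <;>
      simp [h, h', show Nat.beq 0 1 = false from rfl, Nat.add_mod, Nat.xor_assoc, Nat.xor_comm, Nat.xor_left_comm]

theorem gw_mem : ∀ i < 24, wv (gw.getD i 0) ∈ golayCode := by
  have h1 : ∀ i < 23, wv (gw.getD i 0) = qrWord (i : ZMod 23) := by decide +kernel
  intro i hi
  by_cases h : i < 23
  · exact h1 i h ▸ Submodule.subset_span (Or.inl ⟨_, rfl⟩)
  · obtain rfl : i = 23 := by omega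
    exact (show (1 : GolayPt → ZMod 2) = wv (gw.getD 23 0) by decide +kernel) ▸ Submodule.subset_span (Or.inr rfl)

theorem cmb_mem {L : List ℕ} (h : ∀ b ∈ L, wv b ∈ golayCode) (n : ℕ) : wv (cmb L n) ∈ golayCode := by
  induction L generalizing n with
  | nil => exact (show wv 0 ∈ _ from wv_zero ▸ golayCode.zero_mem)
  | cons b L ih =>
    have := ih (fun b hb => h b (List.mem_cons_of_mem _ hb)) (n / 2)
    rw [cmb_cons]
    cases Nat.beq (n % 2) 1
    · exact this
    · exact wv_xor _ _ ▸ golayCode.add_mem (h b List.mem_cons_self) this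

theorem isC_mem {w : ℕ} (h : isC w = true) : wv w ∈ golayCode := by
  rw [← Nat.eq_of_beq_eq_true h]
  refine cmb_mem (fun b hb => ?_) _
  have : ∀ b ∈ bs, ∃ n ∈ be.map mk, cmb gw n = b := by decide +kernel
  obtain ⟨n, -, rfl⟩ := this b hb
  refine cmb_mem (fun b hb => ?_) n
  have : ∀ b ∈ gw, ∃ i < 24, gw.getD i 0 = b := by decide +kernel
  obtain ⟨i, hi, rfl⟩ := this b hb
  exact gw_mem i hi

theorem mem_ind {P : (GolayPt → ZMod 2) → Prop} (h0 : P 0) (h1 : ∀ w ∈ gw, P (wv w)) (h2 : ∀ a b, P a → P b → P (a + b))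
    {x : GolayPt → ZMod 2} (hx : x ∈ golayCode) : P x := by
  induction hx using Submodule.span_induction with
  | mem x hx =>
    rcases hx with ⟨t, rfl⟩ | rfl
    · have : ∀ t, ∃ w ∈ gw, qrWord t = wv w := by decide +kernel
      obtain ⟨w, hw, e⟩ := this t
      exact e ▸ h1 w hw
    · exact (show wv 16777215 = 1 by decide +kernel) ▸ h1 _ (by decide)
  | zero => exact h0
  | add a b _ _ ha hb => exact h2 a b ha hb
  | smul c a _ ha =>
    have : ∀ c : ZMod 2, c = 0 ∨ c = 1 := by decide
    rcases this c with rfl | rfl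
    · rwa [zero_smul]
    · rwa [one_smul]

theorem mem_cmb {x : GolayPt → ZMod 2} (hx : x ∈ golayCode) : ∃ n < 2 ^ 12, x = wv (cmb bs n) := by
  refine mem_ind (P := fun x => ∃ n < 2 ^ 12, x = wv (cmb bs n)) ⟨0, by norm_num, by decide +kernel⟩ (fun w hw => ?_) ?_ hx
  · have : ∀ w ∈ gw, isC w = true := by decide +kernel
    exact ⟨w % 4096, Nat.mod_lt _ (by norm_num), by rw [Nat.eq_of_beq_eq_true (this w hw)]⟩
  · rintro _ _ ⟨m, hm, rfl⟩ ⟨n, hn, rfl⟩
    exact ⟨_, Nat.xor_lt_two_pow hm hn, by rw [cmb_xor, wv_xor]⟩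

theorem smul_supp (g : Equiv.Perm GolayPt) (x : GolayPt → ZMod 2) :
    g • support₂ x = support₂ (x ∘ g.symm) := by
  ext p
  rw [← Finset.inv_smul_mem_iff]
  simp [support₂, Equiv.Perm.inv_def]

theorem mem_M24 {g : Equiv.Perm GolayPt} (h1 : g * g = 1) (h2 : ∀ w ∈ gw, ∃ w', isC w' = true ∧ wv w ∘ g = wv w') : g ∈ M24 := by
  have hs : g.symm = g := inv_eq_of_mul_eq_one_left h1
  have h3 : ∀ x ∈ golayCode, x ∘ g ∈ golayCode := fun x hx => mem_ind (P := fun x => x ∘ g ∈ golayCode) golayCode.zero_mem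
    (fun w hw => by obtain ⟨w', h, e⟩ := h2 w hw; exact e ▸ isC_mem h) (fun a b => golayCode.add_mem) hx
  rw [mem_stabilizer_iff]
  ext s
  constructor
  · rintro ⟨_, ⟨x, hx, rfl⟩, rfl⟩
    exact ⟨_, h3 x hx, by simp only [smul_supp, hs]⟩
  · rintro ⟨x, hx, rfl⟩
    refine ⟨_, ⟨_, h3 x hx, rfl⟩, ?_⟩
    simp only [smul_supp]
    congr 1; ext p; simp

theorem card_supp (w : ℕ) : (support₂ (wv w)).card = pc w := by
  rw [pc, ct_eq, ← Finset.card_image_of_injective _ (Function.LeftInverse.injective pt_ix)]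
  have : ∀ i, cond (w.testBit i) 1 0 = if w.testBit i = true then 1 else 0 := fun i => by cases w.testBit i <;> rfl
  simp only [this, ← Finset.card_filter]
  congr 1
  ext i
  have hb : ∀ b, bz b ≠ 0 ↔ b = true := by decide
  simp only [support₂, wv, hb, Finset.mem_image, Finset.mem_filter, Finset.mem_univ, true_and, Finset.mem_range]
  exact ⟨by rintro ⟨p, h, rfl⟩; exact ⟨ix_lt p, h⟩, fun ⟨h1, h2⟩ => ⟨pt i, by rwa [ix_pt i h1], ix_pt i h1⟩⟩

theorem oc_aux : al (fun n => frc (cmb bs n) fun w => !(Nat.beq (pc w) 8) || oc.elem w) (2 ^ 12) = true := by decide +kernel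

def Fx (m : ℕ) (g : Equiv.Perm GolayPt) : Prop := ∀ p, m.testBit (ix p) = true → g p = p
noncomputable def ok (m w : ℕ) : Bool := isC w && Nat.beq (pc w) 8 &&
  frc (Nat.land m w) fun x => oc.all fun o => !(Nat.beq (Nat.land x o) x) || Nat.beq o w

theorem oct {g : Equiv.Perm GolayPt} (hg : g ∈ M24) {m w : ℕ} (hm : Fx m g) (h : ok m w = true) (p : GolayPt) :
    w.testBit (ix (g p)) = w.testBit (ix p) := by
  simp only [ok, frc_eq, Bool.and_eq_true, Nat.beq_eq, List.all_eq_true] at h
  have h1 : support₂ (wv w) ∈ supports (golayCode : Set (GolayPt → ZMod 2)) := ⟨_, isC_mem h.1.1, rfl⟩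
  have h2 := Set.smul_mem_smul_set (a := g) h1
  rw [mem_stabilizer_iff.1 hg] at h2
  obtain ⟨x, hx, e⟩ := h2
  obtain ⟨n, hn, rfl⟩ := mem_cmb hx
  have h3 := al_iff.1 oc_aux n hn
  have hb : ∀ b, bz b ≠ 0 ↔ b = true := by decide
  have h4 : ∀ p, (cmb bs n).testBit (ix (g p)) = w.testBit (ix p) := fun p => by
    have := Finset.ext_iff.1 e (g p)
    rw [smul_supp] at this
    simp only [support₂, wv, hb, Finset.mem_filter, Finset.mem_univ, true_and, Function.comp, Equiv.symm_apply_apply] at this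
    exact Bool.eq_iff_iff.2 this
  rw [frc_eq, ← card_supp, e, Finset.card_smul_finset, card_supp, h.1.2] at h3
  have h5 := h.2 _ (List.mem_of_elem_eq_true h3)
  have h6 : ∀ o ∈ oc, o < 2 ^ 24 := by decide +kernel
  have h7 : (m &&& w) &&& cmb bs n = m &&& w := Nat.eq_of_testBit_eq fun i => by
    simp only [Nat.testBit_and]
    by_cases hi : i < 24
    · cases e : m.testBit i
      · simp
      · have := h4 (pt i)
        rw [hm _ (by rwa [ix_pt i hi]), ix_pt i hi] at this
        simp [this]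
    · have : w < 2 ^ 24 := by
        have h8 := al_iff.1 oc_aux (w % 4096) (Nat.mod_lt _ (by norm_num))
        rw [frc_eq, Nat.eq_of_beq_eq_true h.1.1, h.1.2] at h8
        exact h6 _ (List.mem_of_elem_eq_true h8)
      simp [Nat.testBit_lt_two_pow (lt_of_lt_of_le this (Nat.pow_le_pow_right (by norm_num) (not_lt.1 hi)))]
  rw [show Nat.land (Nat.land m w) (cmb bs n) = Nat.land m w from h7, Nat.beq_refl, Bool.not_true, Bool.false_or,
    Nat.beq_eq] at h5
  exact h5 ▸ h4 p

noncomputable def stp (L : List (ℕ × ℕ × ℕ)) : ℕ → Bool :=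
  List.rec (fun m => Nat.beq m 16777215) (fun x _ ih m => ok m x.2.1 && ok m x.2.2 &&
    al (fun i => (!(Nat.beq i x.1) || (x.2.1.testBit i && x.2.2.testBit i)) &&
      (!(x.2.1.testBit i && x.2.2.testBit i) || m.testBit i || Nat.beq i x.1)) 24 && frc (Nat.lor m (2 ^ x.1)) ih) L

theorem stp_ok {g : Equiv.Perm GolayPt} (hg : g ∈ M24) (L : List (ℕ × ℕ × ℕ)) : ∀ m, Fx m g → stp L m = true → g = 1 := by
  induction L with
  | nil =>
    intro m hm h
    obtain rfl := Nat.eq_of_beq_eq_true h
    exact Equiv.ext fun p => hm p (by revert p; decide)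
  | cons x L ih =>
    intro m hm h
    have e : stp (x :: L) m = (ok m x.2.1 && ok m x.2.2 && al (fun i => (!(Nat.beq i x.1) || (x.2.1.testBit i && x.2.2.testBit i)) &&
      (!(x.2.1.testBit i && x.2.2.testBit i) || m.testBit i || Nat.beq i x.1)) 24 && frc (m ||| (2 ^ x.1)) (stp L)) := rfl
    rw [e, frc_eq] at h
    simp only [Bool.and_eq_true, al_iff] at h
    refine ih _ (fun p hp => ?_) h.2
    rw [Nat.testBit_or, Nat.testBit_two_pow, Bool.or_eq_true, decide_eq_true_eq] at hp
    refine hp.elim (hm p) fun hp => ?_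
    have h1 := (h.1.2 _ (ix_lt p)).1
    have h2 := (h.1.2 _ (ix_lt (g p))).2
    rw [hp, Nat.beq_refl, Bool.not_true, Bool.false_or] at h1
    rw [oct hg hm h.1.1.1, oct hg hm h.1.1.2, h1, Bool.not_true, Bool.false_or, Bool.or_eq_true, Nat.beq_eq, hp] at h2
    exact h2.elim (fun h => g.injective (hm _ h)) fun h => by rw [← pt_ix (g p), h, pt_ix]

def fx (m : ℕ) : Subgroup (Equiv.Perm GolayPt) where
  carrier := {g | g ∈ M24 ∧ Fx m g}
  mul_mem' ha hb := ⟨mul_mem ha.1 hb.1, fun p hp => by rw [Equiv.Perm.mul_apply, hb.2 p hp, ha.2 p hp]⟩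
  one_mem' := ⟨one_mem _, fun _ _ => rfl⟩
  inv_mem' ha := ⟨inv_mem ha.1, fun p hp => by rw [Equiv.Perm.inv_eq_iff_eq, ha.2 p hp]⟩

theorem step (m i w : ℕ) (hi : i < 24) (h : ∀ g ∈ fx m, w.testBit (ix (g (pt i))) = true) (h0 : m.testBit i = false) :
    Nat.card (fx m) ≤ Nat.card (fx (m ||| 2 ^ i)) * pc (w &&& (16777215 ^^^ m)) := by
  have h1 : (fx (m ||| 2 ^ i)).subgroupOf (fx m) = stabilizer (fx m) (pt i) := by
    ext ⟨g, hg⟩
    simp only [mem_subgroupOf, mem_stabilizer_iff]
    refine ⟨fun h => h.2 _ (by simp [ix_pt i hi]), fun h => ⟨hg.1, fun p hp => ?_⟩⟩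
    rw [Nat.testBit_or, Nat.testBit_two_pow, Bool.or_eq_true, decide_eq_true_eq] at hp
    exact hp.elim (hg.2 p) fun hp => by rw [hp, pt_ix] at h; exact h
  rw [← card_mul_relIndex (A := fx (m ||| 2 ^ i)) (H := fx m) fun g hg => ⟨hg.1, fun p hp => hg.2 p (by simp [hp])⟩,
    relIndex, h1, index_stabilizer, ← card_supp, ← Set.ncard_coe_finset]
  refine Nat.mul_le_mul_left _ (Set.ncard_le_ncard ?_)
  rintro _ ⟨g, rfl⟩
  have hb : ∀ b, bz b ≠ 0 ↔ b = true := by decide
  have h2 : ∀ p, Nat.testBit 16777215 (ix p) = true := by decide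
  simp only [support₂, wv, hb, Finset.coe_filter, Finset.mem_univ, true_and, Set.mem_setOf_eq, Nat.testBit_and, Nat.testBit_xor, h2]
  show (w.testBit (ix (g.1 (pt i))) && (true ^^ m.testBit (ix (g.1 (pt i))))) = true
  rw [h g g.2, show m.testBit (ix (g.1 (pt i))) = false from Bool.eq_false_iff.2 fun h => ?_]
  · rfl
  · rw [g.1.injective (g.2.2 _ h), ix_pt i hi, h0] at h
    exact absurd h (by decide)

theorem card_le : Nat.card M24 ≤ 244823040 := by
  have h2 : ∀ p, Nat.testBit 16777215 (ix p) = true := by decide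
  have e0 : fx 0 = M24 := by ext g; exact ⟨fun h => h.1, fun h => ⟨h, fun p hp => by simp at hp⟩⟩
  have s0 := step 0 0 16777215 (by omega) (fun _ _ => h2 _) (by decide)
  rw [show 0 ||| 2 ^ 0 = 1 by decide, show pc (16777215 &&& (16777215 ^^^ 0)) = 24 by decide +kernel] at s0
  have s1 := step 1 1 16777215 (by omega) (fun _ _ => h2 _) (by decide)
  rw [show 1 ||| 2 ^ 1 = 3 by decide, show pc (16777215 &&& (16777215 ^^^ 1)) = 23 by decide +kernel] at s1
  have s2 := step 3 2 16777215 (by omega) (fun _ _ => h2 _) (by decide)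
  rw [show 3 ||| 2 ^ 2 = 7 by decide, show pc (16777215 &&& (16777215 ^^^ 3)) = 22 by decide +kernel] at s2
  have s3 := step 7 3 16777215 (by omega) (fun _ _ => h2 _) (by decide)
  rw [show 7 ||| 2 ^ 3 = 15 by decide, show pc (16777215 &&& (16777215 ^^^ 7)) = 21 by decide +kernel] at s3
  have s4 := step 15 4 16777215 (by omega) (fun _ _ => h2 _) (by decide)
  rw [show 15 ||| 2 ^ 4 = 31 by decide, show pc (16777215 &&& (16777215 ^^^ 15)) = 20 by decide +kernel] at s4
  have s5 := step 31 7 5279 (by omega) (fun g hg => (oct hg.1 hg.2 (by decide +kernel) _).trans (by decide)) (by decide)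
  rw [show 31 ||| 2 ^ 7 = 159 by decide, show pc (5279 &&& (16777215 ^^^ 31)) = 3 by decide +kernel] at s5
  have s6 := step 159 5 16771936 (by omega) (fun g hg => by
    rw [show 16771936 = 16777215 ^^^ 5279 by decide, Nat.testBit_xor, h2, oct hg.1 hg.2 (by decide +kernel)]; decide) (by decide)
  rw [show 159 ||| 2 ^ 5 = 191 by decide, show pc (16771936 &&& (16777215 ^^^ 159)) = 16 by decide +kernel] at s6
  have s7 : fx 191 = ⊥ := (eq_bot_iff_forall _).2 fun g hg => stp_ok hg.1 [(11, 10558, 133817), (10, 5279, 298027), (12, 5279, 5279), (8, 10558, 36294), (13, 10558, 10558), (6, 18147, 36294), (9, 18147, 69395), (14, 18147, 18147), (15, 36294, 36294), (16, 69395, 69395), (17, 133817, 133817), (18, 262637, 262637), (19, 525274, 525274), (20, 1050548, 1050548), (21, 2101096, 2101096), (22, 4196943, 4196943), (23, 8391797, 8391797)] _ hg.2 (by decide +kernel)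
  rw [s7, card_bot] at s6
  rw [← e0]
  omega

def pl : List (List ℕ) := [[0, 8, 3, 2, 13, 11, 6, 22, 1, 18, 14, 5, 12, 4, 10, 15, 16, 17, 9, 19, 23, 21, 7, 20], [0, 1, 18, 5, 21, 3, 6, 7, 8, 20, 17, 23, 12, 19, 15, 14, 16, 10, 2, 13, 9, 4, 22, 11], [0, 4, 11, 5, 1, 3, 6, 14, 13, 23, 22, 2, 12, 8, 7, 15, 16, 17, 20, 19, 18, 21, 10, 9], [19, 4, 5, 11, 1, 2, 6, 7, 13, 18, 10, 3, 21, 8, 14, 15, 16, 17, 9, 0, 23, 12, 22, 20], [0, 1, 20, 23, 14, 11, 6, 7, 8, 18, 13, 5, 12, 10, 4, 21, 16, 19, 9, 17, 2, 15, 22, 3], [16, 7, 2, 3, 14, 5, 12, 1, 22, 9, 13, 11, 6, 10, 4, 21, 0, 19, 18, 17, 20, 15, 8, 23], [0, 12, 20, 11, 21, 23, 7, 6, 8, 18, 10, 3, 1, 13, 15, 14, 16, 17, 9, 19, 2, 4, 22, 5], [3, 20, 21, 0, 23, 12, 6, 7, 9, 8, 10, 19, 5, 18, 14, 15, 16, 17, 13, 11, 1, 2, 22, 4]]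
def pf (i : ℕ) (p : GolayPt) : GolayPt := pt ((pl.getD i []).getD (ix p) (ix p))
theorem pf_inv (i : ℕ) : Function.Involutive (pf i) := by
  by_cases h : i < 8
  · revert i; unfold Function.Involutive; decide +kernel
  · intro p
    have : pl.getD i [] = [] := List.getD_eq_default _ _ (not_lt.1 h)
    simp only [pf, this, List.getD_nil, pt_ix]
def pe (i : ℕ) : Equiv.Perm GolayPt := (pf_inv i).toPerm
theorem pe_sq (i : ℕ) : pe i * pe i = 1 := Equiv.ext (pf_inv i)
noncomputable def img (i w : ℕ) : ℕ := ct (fun k => cond (w.testBit ((pl.getD i []).getD k k)) (2 ^ k) 0) 24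
theorem pe_mem : ∀ i < 8, pe i ∈ M24 := fun i hi => mem_M24 (pe_sq i) fun w hw => ⟨img i w, by
  have : ∀ i < 8, ∀ w ∈ gw, isC (img i w) = true ∧ ∀ p, w.testBit (ix (pf i p)) = (img i w).testBit (ix p) := by decide +kernel
  exact ⟨(this i hi w hw).1, funext fun p => congrArg bz ((this i hi w hw).2 p)⟩⟩

theorem evw_pe (w : List ℕ) (p : GolayPt) : evw pe w p = w.foldr pf p := by
  induction w with
  | nil => rfl
  | cons i w ih => rw [evw_cons, Equiv.Perm.mul_apply, ih]; rfl

theorem iso : Nonempty (HxMB.G ≃* M24) := by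
  have := HxMG.simple
  obtain ⟨ρ, hρ⟩ := HxMB.hhom pe (fun x hx => by
    rw [show HxMB.il.getD x 0 = x by revert x; decide]; exact eq_inv_of_mul_eq_one_left (pe_sq x)) fun r hr =>
    Equiv.ext fun p => (evw_pe r p).trans (by revert r p; decide +kernel)
  have h1 : ∀ g, ρ g ∈ M24 := fun g => (range_hom hρ HxMB.htop).le.trans (gensub_le pe_mem) ⟨g, rfl⟩
  have h2 : Function.Injective ρ := inj_of_simple ρ (g := HxMB.el 0) fun hc => by
    rw [hρ 0 (by decide)] at hc
    exact absurd (Equiv.ext_iff.1 hc) (by decide +kernel)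
  exact ⟨MulEquiv.ofBijective (ρ.codRestrict _ h1) (bij_of_inj _ (fun a b h => h2 (congrArg Subtype.val h))
    ⟨inferInstance, HxMG.card ▸ card_le⟩)⟩

end CfH3.M24
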