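import Cfsg.Agent.H3.F4

/-! Matching two groups through their actions on a common finite set of points. -/

set_option autoImplicit false

namespace CfH3

open Matrix

/-- `P g i j` says that `g` moves the point `i` to the point `j`. -/
structure Moves {A I : Type*} [Group A] (P : A → I → I → Prop) : Prop where
  mul : ∀ {a a' i j k}, P a i j → P a' j k → P (a' * a) i k
  inv : ∀ {a i j}, P a i j → P a⁻¹ j i
  one : ∀ {i j}, P 1 i j ↔ i = j

theorem Moves.unique {A I : Type*} [Group A] {P : A → I → I → Prop} (h : Moves P) {a : A}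
    {i j k : I} (h1 : P a i j) (h2 : P a i k) : j = k :=
  h.one.1 (by simpa using h.mul (h.inv h1) h2)

theorem moves_smul (A I : Type*) [Group A] [MulAction A I] : Moves fun (a : A) (i j : I) => a • i = j :=
  ⟨by rintro a a' i _ _ rfl rfl; exact mul_smul _ _ _, by rintro a i _ rfl; exact inv_smul_smul _ _,
    by simp⟩

theorem moves_mulVec {A I ι F : Type*} [Group A] [Fintype ι] [DecidableEq ι] [Field F]
    (m : A →* Matrix ι ι F) (u : I → ι → F) (hu : ∀ i j, ∀ c : F, u i = c • u j → i = j) :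
    Moves fun a i j => ∃ c : F, c ≠ 0 ∧ m a *ᵥ u i = c • u j := by
  refine ⟨?_, ?_, ?_⟩
  · rintro a a' i j k ⟨c, hc, h⟩ ⟨d, hd, h'⟩
    exact ⟨c * d, mul_ne_zero hc hd, by rw [map_mul, ← mulVec_mulVec, h, mulVec_smul, h', smul_smul]⟩
  · rintro a i j ⟨c, hc, h⟩
    refine ⟨c⁻¹, inv_ne_zero hc, ?_⟩
    have h1 := congrArg (m a⁻¹ *ᵥ ·) h
    simp only [mulVec_mulVec, ← map_mul, inv_mul_cancel, map_one, one_mulVec, mulVec_smul] at h1
    rw [h1, smul_smul, inv_mul_cancel₀ hc, one_smul]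
  · intro i j
    refine ⟨fun ⟨c, _, h⟩ => hu i j c (by simpa using h), ?_⟩
    rintro rfl
    exact ⟨1, one_ne_zero, by simp⟩

/-- The elements of `B` matched by an element of `A`. -/
def matched {A B I : Type*} [Group A] [Group B] [Finite I] {P : A → I → I → Prop}
    {P' : B → I → I → Prop} (h : Moves P) (h' : Moves P') : Subgroup B where
  carrier := {b | ∃ a, ∀ i, ∃ j, P a i j ∧ P' b i j}
  mul_mem' := by
    rintro b b' ⟨a, ha⟩ ⟨a', ha'⟩
    refine ⟨a * a', fun i => ?_⟩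
    obtain ⟨j, h1, h2⟩ := ha' i
    obtain ⟨k, h3, h4⟩ := ha j
    exact ⟨k, h.mul h1 h3, h'.mul h2 h4⟩
  one_mem' := ⟨1, fun i => ⟨i, h.one.2 rfl, h'.one.2 rfl⟩⟩
  inv_mem' := by
    rintro b ⟨a, ha⟩
    choose f h1 h2 using ha
    have hf : Function.Injective f := fun i j hij =>
      h.unique (h.inv (h1 i)) (hij ▸ h.inv (h1 j))
    refine ⟨a⁻¹, fun j => ?_⟩
    obtain ⟨i, rfl⟩ := Finite.injective_iff_surjective.1 hf j
    exact ⟨i, h.inv (h1 i), h'.inv (h2 i)⟩

theorem exists_hom_of_matched {A B I : Type*} [Group A] [Group B] [Finite I]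
    {P : A → I → I → Prop} {P' : B → I → I → Prop} (h : Moves P) (h' : Moves P')
    (hm : matched h h' = ⊤) (K : Subgroup A) [K.Normal] (hK : ∀ a, a ∈ K ↔ ∀ i, P a i i) :
    ∃ ψ : B →* A ⧸ K, ∀ b, ψ b = 1 ↔ ∀ i, P' b i i := by
  choose f hf using fun b => show b ∈ matched h h' from hm ▸ Subgroup.mem_top b
  have key : ∀ a b, (∀ i, ∃ j, P a i j ∧ P' b i j) → (a : A ⧸ K) = f b := by
    intro a b hab
    rw [QuotientGroup.eq, hK]
    intro i
    obtain ⟨j, h1, h2⟩ := hab i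
    obtain ⟨k, h3, h4⟩ := hf b i
    obtain rfl := h'.unique h2 h4
    exact h.mul h3 (h.inv h1)
  refine ⟨MonoidHom.mk' (fun b => (f b : A ⧸ K)) fun b b' => (key _ _ fun i => ?_).symm, fun b => ?_⟩
  · obtain ⟨j, h1, h2⟩ := hf b' i
    obtain ⟨k, h3, h4⟩ := hf b j
    exact ⟨k, h.mul h1 h3, h'.mul h2 h4⟩
  · refine ⟨fun h1 i => ?_, fun h1 => (key 1 b fun i => ⟨i, h.one.2 rfl, h1 i⟩).symm⟩
    obtain ⟨j, h2, h3⟩ := hf b i
    rwa [← h.unique ((hK _).1 ((QuotientGroup.eq_one_iff _).1 h1) i) h2] at h3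

theorem scalar_of_frame {ι F : Type*} [Fintype ι] [DecidableEq ι] [Field F] (g P P' : Matrix ι ι F)
    (hP : P' * P = 1) (h : ∀ j, ∃ c : F, g *ᵥ Pᵀ j = c • Pᵀ j)
    (hs : ∃ c : F, g *ᵥ (P *ᵥ 1) = c • P *ᵥ 1) : ∃ c : F, g = c • 1 := by
  choose d hd using h
  obtain ⟨c, hc⟩ := hs
  have h1 : g * P = P * diagonal d := by
    ext i j
    rw [mul_diagonal, mul_comm]
    exact congrFun (hd j) i
  have h2 : diagonal d = c • (1 : Matrix ι ι F) := by
    have h3 := congrArg (P' *ᵥ ·) hc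
    simp only [mulVec_mulVec, h1, ← Matrix.mul_assoc, hP, Matrix.one_mul, mulVec_smul] at h3
    ext i j
    have h4 := congrFun h3 i
    by_cases h5 : i = j <;> simp_all [mulVec_diagonal]
  refine ⟨c, ?_⟩
  rw [← Matrix.mul_one g, ← mul_eq_one_comm.1 hP, ← Matrix.mul_assoc, h1, h2]
  simp

/-- An element commuting with a rank one perturbation of a scalar fixes its centre. -/
theorem fix_of_commute {ι F : Type*} [Fintype ι] [DecidableEq ι] [Field F] {g r : Matrix ι ι F}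
    {v w : ι → F} {a : F} (hr : r = a • 1 + vecMulVec v w) (hw : w ≠ 0) (h : g * r = r * g) :
    ∃ c : F, g *ᵥ v = c • v := by
  obtain ⟨j, hj⟩ := Function.ne_iff.1 hw
  rw [hr, Matrix.mul_add, Matrix.add_mul, Matrix.mul_smul, Matrix.smul_mul, Matrix.mul_one,
    Matrix.one_mul, add_right_inj, mul_vecMulVec, vecMulVec_mul] at h
  refine ⟨(w ᵥ* g) j / w j, ?_⟩
  ext i
  have h1 := congrFun (congrFun h i) j
  simp only [vecMulVec_apply] at h1
  have h2 : w j ≠ 0 := hj
  rw [Pi.smul_apply, smul_eq_mul]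
  field_simp
  linear_combination h1

end CfH3
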