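import Cfsg.Agent.H3.Ta4
import Cfsg.Agent.H3.Hf4
import Cfsg.Agent.OD.Helper3x3c688ffb0c
/-! The involution centraliser `2^{1+8}.A₉`: normalisation of the generators, fusion of involutions. -/
set_option autoImplicit false
set_option maxRecDepth 100000
open Subgroup CfH4 CfH9 CfH6 Equiv.Perm
namespace CfH3.Th
open CfH3.He
open CfH3.Hf (al2)

def OM : ℕ := 0x20040206008140a01008040c050402002010081408010081812010201002010180c02010081002060200406010300c0a09008040201020040801020040801008040201008040201008180e01020040206020140201008040808020040208050040206008040805008040e05020040c01008100208008040201020140c0500810020400810020a028200a060401808030080c06010180402030180c02010080406030180402030180402030080406030080406030200406010080c02030080402010181006030080c02030080c02030180c06030180c0690008100e010300402030481002010080408030200402040480402030080406040080406030400406010081002030080402010181012030080c02050081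00203020180805048180801020040206008140a01008040c050402002010081408010081812010201002010180c02010081002060200406010300c0a0a008040201020040801020040801008040201008040201008180e01020040206020140201008040808020040208048040206008040805008040e05020040c01008100208008040201020140c05008100204008100209028200a060401808030080c06010180402030180c02010080406030180402030180402030080406030080406030200406010080c02030080402010181006030080c02030080c02030180c06030180c0601008100e010300402030481002010080408030200402040480402030080406040080406030400406010081002030080402010181012030080c0205008100203020180805048180801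
def ON : ℕ := 0x20040206008140801008040c050401802010081408010081808010201802010202002010081002040200406010301c0a040080402010180406010200408010080402010080402010082006010200402030181c0201008040a030180402070180402030080406090080406030180406010082402030080402010180c06030080c02040080c02030180c06030180c0603008100801030040204030100201008040a05040040204028040206008040803008040a04020040e01008100204008040201018100a05008200204008140204020200806020180890008240801028040203018100201008040a03020040204028040203008040604008040a03030040a010082402030080402010181010030081c0206008100203028200a06040183001020040206008140801008040c050401c02010081408010081808010201802010202002010081002040200406010301c0a040080402010200406010200408010080402010080402010082406010280402030182402010080408030180402070280402030080406030080412030180406010082402030080402010180c06030080c02040080c02030180c06030180c06030081008010300402060201c0201008040a08040040204028040206008040809008040805030040c01008240208008040201030100805008100204008140204020200806020180801008200a010280402030181c0201008040a03018040207028040203008040609008040a03030040601008240203008040201018100e030080c0206008140203028200a06040180201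
def W5 : List ℕ := [3, 4, 7, 9, 3, 5, 4, 6, 7]
def S2 : List (ℕ × ℕ × ℕ × ℕ) := [(1, 0, 2, 6), (7, 19, 2, 6), (9, 2, 2, 6), (15, 17, 2, 6), (49, 3, 2, 262), (55, 16, 2, 262), (57, 1, 2, 262), (63, 18, 2, 262), (65, 130, 2, 6), (71, 145, 2, 6), (73, 128, 2, 6), (79, 147, 2, 6), (113, 129, 2, 262), (119, 146, 2, 262), (121, 131, 2, 262), (127, 144, 2, 262)]
def W3 : List (List ℕ) := [[3, 4, 3, 9, 3, 9], [3, 4, 8, 5, 9, 3, 5, 9, 5], [3, 5, 5, 5, 9, 3, 9, 6, 8], [3, 7, 6, 9, 3, 5, 9, 6, 4], [4, 3, 7, 6, 9, 3, 5, 9, 6], [3, 6, 6, 4, 3, 9, 3, 9, 6, 6], [3, 7, 5, 4, 3, 9, 3, 9, 5, 8], [3, 4, 5, 9, 6, 4, 3, 5, 7, 9, 6], [3, 7, 6, 9, 3, 4, 5, 4, 5, 9, 5], [3, 9, 6, 4, 8, 5, 9, 3, 9, 5, 5]]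
def N2 : List (ℕ × ℕ × ℕ × ℕ × ℕ × ℕ) := [(0, 0, 48, 137, 73, 9), (1, 5, 32, 186, 122, 58), (6, 0, 48, 137, 73, 9), (7, 5, 32, 186, 122, 58), (8, 6, 40, 179, 115, 51), (9, 0, 48, 51, 9, 9), (14, 6, 40, 179, 115, 51), (15, 0, 48, 51, 9, 9), (50, 0, 48, 137, 73, 9), (51, 5, 32, 186, 122, 58), (52, 0, 48, 137, 73, 9), (53, 5, 32, 186, 122, 58), (58, 6, 40, 179, 115, 51), (59, 0, 48, 51, 9, 9), (60, 6, 40, 179, 115, 51), (61, 0, 48, 51, 9, 9), (64, 7, 32, 178, 73, 73), (65, 1, 25, 137, 58, 122), (70, 7, 32, 178, 73, 73), (71, 1, 25, 137, 58, 122), (72, 9, 17, 137, 51, 115), (73, 2, 2, 51, 9, 178), (78, 9, 17, 137, 51, 115), (79, 2, 2, 51, 9, 178), (114, 7, 32, 178, 73, 73), (115, 1, 25, 137, 58, 122), (116, 7, 32, 178, 73, 73), (117, 1, 25, 137, 58, 122), (122, 9, 17, 137, 51, 115), (123, 2, 2, 51, 9, 178), (124, 9, 17, 137, 51, 115), (125, 2, 2, 51, 9, 178), (128, 8, 48, 115, 9, 114), (129, 4, 15, 73, 58,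 114), (134, 8, 48, 115, 9, 114), (135, 4, 15, 73, 58, 114), (136, 3, 15, 73, 51, 114), (137, 1, 25, 51, 9, 200), (142, 3, 15, 73, 51, 114), (143, 1, 25, 51, 9, 200), (178, 8, 48, 115, 9, 114), (179, 4, 15, 73, 58, 114), (180, 8, 48, 115, 9, 114), (181, 4, 15, 73, 58, 114), (186, 3, 15, 73, 51, 114), (187, 1, 25, 51, 9, 200), (188, 3, 15, 73, 51, 114), (189, 1, 25, 51, 9, 200), (192, 5, 32, 115, 9, 193), (193, 0, 48, 73, 58, 193), (198, 5, 32, 115, 9, 193), (199, 0, 48, 73, 58, 193), (200, 0, 48, 73, 51, 200), (201, 2, 2, 51, 9, 114), (206, 0, 48, 73, 51, 200), (207, 2, 2, 51, 9, 114), (242, 5, 32, 115, 9, 193), (243, 0, 48, 73, 58, 193), (244, 5, 32, 115, 9, 193), (245, 0, 48, 73, 58, 193), (250, 0, 48, 73, 51, 200), (251, 2, 2, 51, 9, 114), (252, 0, 48, 73, 51, 200), (253, 2, 2, 51, 9, 114)]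
def q (k : ℕ) : ℕ := k + 16
noncomputable def same (T : ℕ) (v w : List ℕ) : Bool := B8.all fun b => Nat.beq (wa (ap T) v b) (wa (ap T) w b)
noncomputable def fx (f : ℕ → ℕ) (n : ℕ) : Bool := B8.all fun b => Nat.beq (Nat.rec b (fun _ r => frc r f) n) b
noncomputable def red (T O c : ℕ) (n : ℕ) : ℕ := Nat.rec c (fun _ r => frc r fun r => ap T (lk O r) r) n
noncomputable def ck5 (T : ℕ) (w : List ℕ) (y : ℕ) : Bool :=
  fx (wa (ap T) w) 5 && Nat.blt y 512 && Nat.beq (mq y y) 0 && Nat.beq (nm (wa (ap T) w) y 5) 0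
theorem orbM : al (fun c => !(sgl c) || Nat.beq c 0 || Nat.beq c 256 || Nat.beq (red TM OM c 8) 64) 512 = true := by decide +kernel
theorem orbN : al (fun c => !(sgl c) || Nat.beq c 0 || Nat.beq c 256 || frc (red TN ON c 8) fun r => Nat.beq r 1 || Nat.beq r 64) 512 = true := by
  decide +kernel
theorem n1_aux : ∀ r ∈ [1, 64], ∃ h ∈ [([3, 5, 4, 9, 3, 5, 4, 5, 8, q 11], 321), ([3, 6, 9, 3, 9, q 4], 3)], ck5 TN h.1 h.2 = true ∧
    wa (ap TN) h.1 r = r ∧ bb h.2 r = 0 ∧ mq (mq h.2 (wa (ap TN) h.1 h.2)) (mq h.2 (wa (ap TN) h.1 h.2)) = 256 := by decide +kernel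
theorem s2_aux : al (fun k => !(same TM [9, q k, 9, q k] []) || S2.any fun h => Nat.beq (lo k) h.1 && (ck5 TM (W5 ++ [q h.2.1]) h.2.2.2 &&
    same TM ((W5 ++ [q h.2.1]) ++ [9, q k]) ([9, q k] ++ (W5 ++ [q h.2.1])) && Nat.blt h.2.2.1 512 && !(Nat.beq h.2.2.2 0) &&
    Nat.beq (wa (ap TM) [9, q k] h.2.2.1) (mq h.2.2.2 h.2.2.1) && Nat.beq (wa (ap TM) [9, q k] h.2.2.2) h.2.2.2)) 512 = true := by
  decide +kernel
noncomputable def q8 (k i : ℕ) : Bool := Nat.blt i 512 && Nat.beq (mq i i) 256 && Nat.beq (wa (ap TN) [9, q k] i) i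
noncomputable def ck3 (k : ℕ) (w : List ℕ) (g : ℕ) : Bool := fx (wa (ap TN) w) 3 && same TN (w ++ [9, q k]) ([9, q k] ++ w) &&
  !(Nat.beq (pw w) I9) && Nat.beq (wa (ap TN) w g) g && q8 k g
theorem n2_aux : al (fun k => !(same TN [9, q k, 9, q k] []) || N2.any fun h => Nat.beq (lo k) h.1 &&
    (ck3 k (W3.getD h.2.1 [] ++ [q h.2.2.1]) h.2.2.2.2.2 && q8 k h.2.2.2.1 && q8 k h.2.2.2.2.1 &&
    Nat.beq (mq (mq h.2.2.2.1 h.2.2.2.2.1) (mq h.2.2.2.1 h.2.2.2.2.1)) 256)) 512 = true := by decide +kernel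
theorem e_aux : ∀ T ∈ [TM, TN], al (fun k => !(Nat.beq (mq (tb T 4 k) k) 0) ||
    an (fun j => Nat.beq (mq k j) (tb T 4 j)) 256) 512 = true := by decide +kernel

variable {G : Type*} [Group G] {z d e s t u : G} {ψ : ℕ → G} {π : G → P9} {T : ℕ}

theorem lts : lt z ψ d e s t u 0 = z ∧ lt z ψ d e s t u 2 = ψ 64 ∧ lt z ψ d e s t u 3 = d ∧ lt z ψ d e s t u 4 = e ∧
    lt z ψ d e s t u 5 = s ∧ lt z ψ d e s t u 6 = s⁻¹ ∧ lt z ψ d e s t u 7 = t ∧ lt z ψ d e s t u 8 = t⁻¹ ∧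
    lt z ψ d e s t u 9 = u ∧ lt z ψ d e s t u 10 = u⁻¹ := ⟨rfl, rfl, rfl, rfl, rfl, rfl, rfl, rfl, rfl, rfl⟩
theorem lq {k : ℕ} (hk : k < 512) : lt z ψ d e s t u (q k) = ψ k := by
  rw [lt, show Nat.blt (q k) 16 = false from Bool.eq_false_iff.2 fun e => by have := Nat.blt_eq.mp e; rw [q] at this; omega, cond_false]
  congr 1
  exact (Nat.and_two_pow_sub_one_eq_mod (k + 16 - 16) 9).trans (by omega)

theorem odd_lift {x y : G} (hz : z * z = 1) (h1 : z ≠ 1) (h : x = y ∨ x = y * z) (c : y * z = z * y) {n : ℕ} (hx : x ^ n = 1) (hy : y ^ n = 1)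
    (hn : Odd n := by decide) : x = y := h.resolve_right fun e => h1 (by
  obtain ⟨m, rfl⟩ := hn
  rwa [e, Commute.mul_pow c, hy, one_mul, pow_succ, pow_mul, pow_two, hz, one_pow, one_mul] at hx)

theorem fx_iter (f : ℕ → ℕ) (b n : ℕ) : (Nat.rec b (fun _ r => frc r f) n : ℕ) = f^[n] b := by
  induction n with
  | zero => rfl
  | succ n ih => rw [Function.iterate_succ_apply', ← ih]; exact frc_eq _ _

namespace Base
variable (B : Base z ψ π)
include B

theorem eqz {g h : G} {f f' : ℕ → ℕ} (hg : g ∈ Cx(z)) (hh : h ∈ Cx(z)) (a : Act ψ g f) (a' : Act ψ h f') (k : ∀ b ∈ B8, f b = f' b) :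
    g = h ∨ g = h * z := by
  have A := B.q.act_ext (mem_Cx.1 (mul_mem (inv_mem hh) hg)) (l := B8) (List.forall₂_same.2 fun b hb => by
    have b5 : b < 512 := (by decide : ∀ c ∈ B8, c < 512) b hb
    exact (a' b b5).inv.mul (k b hb ▸ a b b5))
  exact (B.cen _ fun c hc => mul_inv_eq_iff_eq_mul.1 ((A c hc).2.2.trans (by rw [ext_id c hc]))).imp
    (fun e => (inv_mul_eq_one.1 e).symm) inv_mul_eq_iff_eq_mul.1

theorem gd_z {g g' : G} {f : ℕ → ℕ} {c : ℕ} (h : B.Gd g f c) (e : g' = g ∨ g' = g * z) : B.Gd g' f c := by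
  rcases e with rfl | rfl
  · exact h
  have m : z ∈ Cx(z) := mem_Cx.2 rfl
  exact ⟨mul_mem h.1 m, fun k hk => (h.2.1 k hk).mul ⟨hk, hk, mul_inv_eq_of_eq_mul (B.q.com hk).symm⟩, by rw [B.mul h.1 m, B.pz, mul_one, h.2.2]⟩

theorem comm_odd {f v : G} (hf : f ∈ Cx(z)) (h : f * v = v * f ∨ f * v = v * f * z) {n : ℕ} (h1 : f ^ n = 1) (hn : Odd n := by decide) :
    f * v = v * f := by
  have := odd_lift (x := v⁻¹ * f * v) B.q.zz B.q.ne (h.imp (fun e => by rw [mul_assoc, e]; group) fun e => by rw [mul_assoc, e]; group)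
    (mem_Cx.1 hf) (by rw [← inv_inv v, inv_inv v⁻¹, conj_pow, h1]; group) h1 hn
  rw [← this]; nth_rewrite 1 [this]; group

theorem exists_odd {g : G} {f : ℕ → ℕ} {c n : ℕ} (h : B.Gd g f c) (k : fx f n = true) (hn : Odd n := by decide) :
    ∃ g', (g' = g ∨ g' = g * z) ∧ g' ^ n = 1 := by
  simp only [fx, List.all_eq_true, Nat.beq_eq, fx_iter] at k
  rcases B.eqz (pow_mem h.1 n) (one_mem _) (h.2.1.pow n) Act.one k with e | e
  · exact ⟨g, Or.inl rfl, e⟩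
  · obtain ⟨m, rfl⟩ := hn
    exact ⟨_, Or.inr rfl, by rw [Commute.mul_pow (mem_Cx.1 h.1), e, one_mul, ← pow_succ', show 2 * m + 1 + 1 = 2 * (m + 1) by ring,
      pow_mul, pow_two, B.q.zz, one_pow]⟩

theorem cmem {g r y : G} (h : g * r * g⁻¹ = z) (hy : y * r = r * y) : g * y * g⁻¹ ∈ Cx(z) := mem_Cx.2 (by rw [← h, conj_mul, conj_mul, hy])
theorem cmul {g r x y : G} (h : g * r * g⁻¹ = z) (hx : x * r = r * x) (hy : y * r = r * y) :
    π (g * x * g⁻¹) * π (g * y * g⁻¹) = π (g * (x * y) * g⁻¹) := by rw [← B.mul (B.cmem h hx) (B.cmem h hy), conj_mul]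
theorem cpow {g r x : G} (h : g * r * g⁻¹ = z) (hx : x * r = r * x) (n : ℕ) : π (g * x * g⁻¹) ^ n = π (g * x ^ n * g⁻¹) := by
  rw [← B.pow (B.cmem h hx), conj_pow]
theorem cone (g : G) : π (g * 1 * g⁻¹) = 1 := by rw [mul_one, mul_inv_cancel, B.one]
theorem codd {g r x : G} (h : g * r * g⁻¹ = z) (hx : x * r = r * x) (h1 : π (g * x * g⁻¹) = 1) (h3 : x ^ 3 = 1) : x = 1 := by
  have := B.pow4 (B.cmem h hx) h1
  rwa [conj_pow, conj_eq_one_iff, pow_succ, h3, one_mul] at this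

theorem n5 {g r f : G} {F : ℕ → ℕ} {y : ℕ} (h : g * r * g⁻¹ = z) (a : Act ψ f F) (hy : y < 512) (h1 : ψ y * r = r * ψ y) (h2 : f * r = r * f)
    (f5 : f ^ 5 = 1) (y2 : mq y y = 0) (y5 : nm F y 5 = 0) : ∃ k < 512, ψ k = g * ψ y * g⁻¹ := by
  have m1 := B.cmem h h1
  have m2 := B.cmem h h2
  refine B.ker m1 (five (f := π (g * f * g⁻¹)) ?_ ?_ ?_ ?_)
  · rw [B.cmul h h1 h1, ← B.q.mul hy hy, y2, B.q.one, B.cone]
  · rw [B.cpow h h2, f5, B.cone]
  · rw [← B.mul m1 m2, ← B.pow (mul_mem m1 m2), conj_mul, conj_pow, (B.q.pow_mul a hy 5).2, y5, f5, B.q.one, mul_one, B.cone]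
  · have m3 := mul_mem (mul_mem m2 m1) (inv_mem m2)
    rw [← B.cj m2 m1, ← B.mul m1 m3, ← B.pow (mul_mem m1 m3), conj_mul, conj_inv, conj_mul, conj_mul, conj_pow, (a y hy).2.2,
      ← B.q.mul hy (a y hy).2.1, B.q.pow4 (mq_lt hy (a y hy).2.1), B.cone]

theorem cls {v : G} (hv : v ∈ Cx(z)) (h2 : v * v = 1) : (∃ k < 512, ψ k = v) ∨ ∃ h ∈ Cx(z), π (h * v * h⁻¹) = pE ∨ π (h * v * h⁻¹) = pU := by
  by_cases h1 : π v = 1
  · exact Or.inl (B.ker hv h1)
  obtain ⟨σ, h3, h4⟩ := invol (by rw [← B.mul hv hv, h2, B.one]) h1 (B.sg hv)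
  obtain ⟨h, hh, rfl⟩ := B.sur σ h3
  exact Or.inr ⟨h, hh, by rwa [B.cj hh hv]⟩
end Base

/-- the central involution is fused into the extraspecial group -/
def FQ (z : G) (ψ : ℕ → G) : Prop := ∃ k < 512, ψ k ≠ z ∧ IsConj z (ψ k)

theorem Base.third (B : Base z ψ π) (hn : ¬ FQ z ψ) {v : G} (hv : v ∈ Cx(z)) (h1 : π v ≠ 1) (h : IsConj z v) :
    ∃ g, g * v * g⁻¹ = z ∧ (π (g * z * g⁻¹) = pE ∨ π (g * z * g⁻¹) = pU) := by
  obtain ⟨g, hg⟩ := isConj_iff.1 h.symm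
  rcases B.cls (B.cmem hg (mem_Cx.1 hv).symm) (by rw [conj_mul, B.q.zz]; group) with ⟨k, hk, e⟩ | ⟨h, hh, e⟩
  · refine absurd ⟨k, hk, fun e1 => h1 ?_, isConj_iff.2 ⟨g, e.symm⟩⟩ hn
    rw [conj_injective (hg.trans (e1.symm.trans e)), B.pz]
  · exact ⟨h * g, by rw [← mul_inv_eq_of_eq_mul (mem_Cx.1 hh), ← hg]; group, by
      rwa [show h * g * z * (h * g)⁻¹ = h * (g * z * g⁻¹) * h⁻¹ by group]⟩

theorem Base.fq (B : Base z ψ π) {g v y : G} {k : ℕ} (h : g * v * g⁻¹ = z) (hk : k < 512) (e : ψ k = g * y * g⁻¹) (h1 : y ≠ 1)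
    (h2 : IsConj v (v * y)) : FQ z ψ :=
  ⟨_, mq_lt (show 256 < 512 by omega) hk, fun e1 => h1 (by
      rwa [B.q.mul (by omega) hk, B.q.hz, mul_eq_left, e, conj_eq_one_iff] at e1), by
    rw [B.q.mul (by omega) hk, B.q.hz, e, ← h, conj_mul]
    exact (isConj_iff.2 ⟨g, rfl⟩).symm.trans (h2.trans (isConj_iff.2 ⟨g, rfl⟩))⟩

namespace Dat
variable (D : Dat z ψ π d e s t u T)
include D
local notation "ev" => evw (lt z ψ d e s t u)

theorem w (w : List ℕ) : D.b.Gd (ev w) (wa (ap T) w) (pw w) := D.b.word fun i _ => D.gd i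
theorem mem (w : List ℕ) : ev w ∈ Cx(z) := (D.w w).1
theorem eqz (v w : List ℕ) (h : same T v w = true) : ev v = ev w ∨ ev v = ev w * z := by
  simp only [same, List.all_eq_true, Nat.beq_eq] at h
  exact D.b.eqz (D.mem v) (D.mem w) (D.w v).2.1 (D.w w).2.1 h
theorem eqz2 (v w : List ℕ) (h : ∀ T ∈ [TM, TN], same T v w = true := by decide +kernel) : ev v = ev w ∨ ev v = ev w * z :=
  D.eqz v w (h T D.hT)
theorem same_of {v w : List ℕ} (h : ev v = ev w) : same T v w = true := by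
  simp only [same, List.all_eq_true, Nat.beq_eq]
  exact fun b hb => D.b.q.act_uniq (D.w v).2.1 (h ▸ (D.w w).2.1) ((by decide : ∀ c ∈ B8, c < 512) b hb)
theorem pw_of {v w : List ℕ} (h : ev v = ev w) : pw v = pw w := by rw [← (D.w v).2.2, h, (D.w w).2.2]
theorem cq (w : List ℕ) {a b : ℕ} (h : a < 512 ∧ wa (ap T) w a = b) : ev w * ψ a * (ev w)⁻¹ = ψ b := h.2 ▸ ((D.w w).2.1 a h.1).2.2
theorem cm (w : List ℕ) {a b : ℕ} (h : a < 512 ∧ wa (ap T) w a = b) : ev w * ψ a = ψ b * ev w := mul_inv_eq_iff_eq_mul.1 (D.cq w h)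
theorem cm1 (i : ℕ) {a b : ℕ} (h : ∀ T ∈ [TM, TN], a < 512 ∧ ap T i a = b := by decide +kernel) :
    lt z ψ d e s t u i * ψ a = ψ b * lt z ψ d e s t u i := mul_inv_eq_iff_eq_mul.1 ((h T D.hT).2 ▸ ((D.gd i).2.1 a (h T D.hT).1).2.2)
theorem hd : d ∈ Cx(z) := (D.gd 3).1
theorem he : e ∈ Cx(z) := (D.gd 4).1
theorem hs : s ∈ Cx(z) := (D.gd 5).1
theorem ht : t ∈ Cx(z) := (D.gd 7).1
theorem hu : u ∈ Cx(z) := (D.gd 9).1
theorem pd : π d = pD := cd_inj ((D.gd 3).2.2.trans (pls.2.2.2.1.trans cds.1.symm))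
theorem pe : π e = pE := cd_inj ((D.gd 4).2.2.trans (pls.2.2.2.2.1.trans cds.2.1.symm))
theorem ps : π s = pS := cd_inj ((D.gd 5).2.2.trans (pls.2.2.2.2.2.1.trans cds.2.2.1.symm))
theorem pt : π t = pT := cd_inj ((D.gd 7).2.2.trans (pls.2.2.2.2.2.2.2.1.trans cds.2.2.2.2.1.symm))
theorem pu : π u = pU := cd_inj ((D.gd 9).2.2.trans (pls.2.2.2.2.2.2.2.2.2.1.trans cds.2.2.2.2.2.2.1.symm))

theorem flip {d' e' u' : G} (h1 : d' = d ∨ d' = d * z) (h2 : e' = e ∨ e' = e * z) (h3 : u' = u ∨ u' = u * z) : Dat z ψ π d' e' s t u' T :=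
  ⟨D.b, D.hT, fun i => D.b.gd_all D.hT i fun j hj _ => by
    simp only [List.mem_cons, List.not_mem_nil, or_false] at hj
    rcases hj with rfl | rfl | rfl | rfl | rfl
    exacts [D.b.gd_z (D.gd 3) h1, D.b.gd_z (D.gd 4) h2, D.gd 5, D.gd 7, D.b.gd_z (D.gd 9) h3], D.s7, D.t3, D.st⟩

theorem red_cq (O c : ℕ) (hc : c < 512) (n : ℕ) : ∃ w, Cq ψ (ev w) c (red T O c n) := by
  induction n with
  | zero => exact ⟨[], Act.one c hc⟩
  | succ n ih =>
    obtain ⟨w, h⟩ := ih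
    refine ⟨lk O (red T O c n) :: w, ?_⟩
    rw [evw_cons, show red T O c (n + 1) = ap T (lk O (red T O c n)) (red T O c n) from frc_eq (red T O c n) fun r => ap T (lk O r) r]
    exact ((D.gd _).2.1 _ h.2.1).mul h

theorem te : t * e = e * t := D.b.comm_odd D.ht (by simpa [lts] using D.eqz2 [7, 4] [4, 7]) D.t3
theorem td : t * d = d * t := D.b.comm_odd D.ht (by simpa [lts] using D.eqz2 [7, 3] [3, 7]) D.t3
theorem ds : d * s = s⁻¹ * d := mul_inv_eq_iff_eq_mul.1 (odd_lift D.b.q.zz D.b.q.ne (by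
    have := D.eqz2 [3, 5] [6, 3]
    simp only [lts, evw_cons, evw_nil, mul_one] at this
    exact this.imp (fun e => by rw [e]; group) fun e => by rw [e, mul_assoc _ d, mem_Cx.1 D.hd]; group)
  (mem_Cx.1 (inv_mem D.hs)) (n := 7) (by rw [conj_pow, D.s7]; group) (by rw [inv_pow, D.s7, inv_one]))
end Dat

theorem e_sq (z2 : z * z = 1) (z1 : z ≠ 1) (ez : e * z = z * e) (sz : s * z = z * s) (s7 : s ^ 7 = 1) (h : e * e = 1 ∨ e * e = z)
    (wb : e * (s⁻¹ * (e * (s⁻¹ * (s⁻¹ * (e * (s * (s * s))))))) = 1) : e * e = 1 := h.resolve_right fun h => z1 (by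
  let f := fun n : ℕ => (s ^ n)⁻¹ * e * s ^ n
  have sn : ∀ n : ℕ, s ^ n * z = z * s ^ n := fun n => (Commute.pow_left sz n).eq
  have f2 : ∀ n, f n * f n = z := fun n => by
    rw [show f n * f n = (s ^ n)⁻¹ * (e * e) * s ^ n by simp only [f]; group, h, mul_assoc, ← sn]; group
  have fz : ∀ n, f n * z = z * f n := fun n => ((Commute.mul_left (Commute.pow_left sz n).inv_left ez).mul_left (Commute.pow_left sz n)).eq
  have r : ∀ n, f n * f (n + 1) * f (n + 3) = 1 := fun n => by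
    rw [show f n * f (n + 1) * f (n + 3) = (s ^ n)⁻¹ * (e * (s⁻¹ * (e * (s⁻¹ * (s⁻¹ * (e * (s * (s * s)))))))) * s ^ n by
      simp only [f, pow_add]; group, wb]; group
  have anti : ∀ {a b c : ℕ}, f a * f b * f c = 1 → f a * f b = z * (f b * f a) := fun {a b c} h => by
    have h1 : f a * f b * (f a * f b) * z = 1 := by rw [eq_inv_of_mul_eq_one_left h, ← f2 c]; group
    calc f a * f b = f a * (f a * f b * (f a * f b) * z) * f b := by rw [h1, mul_one]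
      _ = f a * f a * (f b * f a) * (f b * z * f b) := by simp only [mul_assoc]
      _ = _ := by rw [f2, fz, mul_assoc z (f b), f2, z2, mul_one]
  have rot : ∀ {a b c : G}, a * b * c = 1 → b * c * a = 1 := fun h => by rw [mul_assoc] at h; exact mul_eq_one_comm.1 h
  have f7 : f 7 = f 0 := by simp only [f, s7, pow_zero]
  have f8 : f 9 = f 2 := by simp only [f]; rw [show 9 = 7 + 2 from rfl, pow_add, s7, one_mul]
  clear_value f
  have a2 : f 7 * f 9 = z * (f 9 * f 7) := anti (rot (r 6))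
  have a3 : f 3 * f 0 = z * (f 0 * f 3) := anti (rot (rot (r 0)))
  have a5 : f 5 * f 7 = z * (f 7 * f 5) := anti (rot (r 4))
  rw [f7, f8] at a2
  rw [f7] at a5
  have h1 : f 0 * (f 2 * f 3 * f 5) = f 0 := by rw [r 2, mul_one]
  have h2 : f 2 * f 3 * f 5 * f 0 = f 0 := by rw [r 2, one_mul]
  rw [mul_assoc, a5, mul_assoc, ← mul_assoc (f 3), fz, mul_assoc z, ← mul_assoc (f 3), a3, mul_assoc z, ← mul_assoc z, z2, one_mul] at h2
  rw [← mul_assoc, ← mul_assoc, a2, mul_assoc, mul_assoc, mul_assoc, ← mul_assoc (f 0), h2] at h1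
  simpa using h1)

structure Nor (z : G) (ψ : ℕ → G) (π : G → P9) (d e s t u : G) (T : ℕ) : Prop extends Dat z ψ π d e s t u T where
  e2 : e * e = 1
  d2 : d * d = 1
  de : d * (e * (d * (e * (d * e)))) = 1
  wb : e * (s⁻¹ * (e * (s⁻¹ * (s⁻¹ * (e * (s * (s * s))))))) = 1

theorem flip3 {a b c x : G} (z2 : z * z = 1) (ha : a * z = z * a) (hb : b * z = z * b) (hc : c * z = z * c) (hx : x * z = z * x)
    (h : x * (a * (x * (b * (x * c)))) = z) : x * z * (a * (x * z * (b * (x * z * c)))) = 1 := by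
  simp only [hx, mul_assoc, ← mul_assoc a z, ← mul_assoc b z, ← mul_assoc x z, ha, hb]
  rw [h, ← mul_assoc z z (z * z), z2, mul_one]

theorem Dat.nor (D : Dat z ψ π d e s t u T) : ∃ d e, Nor z ψ π d e s t u T := by
  have z2 := D.b.q.zz
  have hs := mem_Cx.1 D.hs
  have hS := mem_Cx.1 (inv_mem D.hs)
  obtain ⟨e, D, wb⟩ : ∃ e, Dat z ψ π d e s t u T ∧ e * (s⁻¹ * (e * (s⁻¹ * (s⁻¹ * (e * (s * (s * s))))))) = 1 := by
    have := D.eqz2 wB []
    simp only [wB, lts, evw_cons, evw_nil, mul_one, one_mul] at this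
    rcases this with h | h
    · exact ⟨e, D, h⟩
    · refine ⟨e * z, D.flip (Or.inl rfl) (Or.inr rfl) (Or.inl rfl), ?_⟩
      rw [← mul_assoc s⁻¹ s⁻¹] at h ⊢
      exact flip3 z2 hS (mem_Cx.1 (mul_mem (inv_mem D.hs) (inv_mem D.hs))) (mem_Cx.1 (mul_mem D.hs (mul_mem D.hs D.hs))) (mem_Cx.1 D.he) h
  have e2 := e_sq z2 D.b.q.ne (mem_Cx.1 D.he) hs D.s7 (by simpa [lts] using D.eqz2 [4, 4] []) wb
  obtain ⟨d, D, de⟩ : ∃ d, Dat z ψ π d e s t u T ∧ d * (e * (d * (e * (d * e)))) = 1 := by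
    have := D.eqz2 [3, 4, 3, 4, 3, 4] []
    simp only [lts, evw_cons, evw_nil, mul_one, one_mul] at this
    rcases this with h | h
    · exact ⟨d, D, h⟩
    · exact ⟨d * z, D.flip (Or.inr rfl) (Or.inl rfl) (Or.inl rfl), flip3 z2 (mem_Cx.1 D.he) (mem_Cx.1 D.he) (mem_Cx.1 D.he) (mem_Cx.1 D.hd) h⟩
  refine ⟨d, e, D, e2, ?_, de, wb⟩
  refine (show d * d = 1 ∨ d * d = z by simpa [lts] using D.eqz2 [3, 3] []).resolve_right fun h => D.b.q.ne ?_
  have h1 : e * d * e = d⁻¹ * e⁻¹ * d⁻¹ := (show _ = d⁻¹ * (d * (e * (d * (e * (d * e))))) * e⁻¹ * d⁻¹ by group).trans (by rw [de, mul_one])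
  have h2 : e * d * e * (e * d * e) = z := by
    rw [show e * d * e * (e * d * e) = e * (d * (e * e) * d) * e by group, e2, mul_one, h, mem_Cx.1 D.he, mul_assoc, e2, mul_one]
  rw [← h2, h1, show d⁻¹ * e⁻¹ * d⁻¹ * (d⁻¹ * e⁻¹ * d⁻¹) = (d * (e * (d * d) * e) * d)⁻¹ by group, h, mem_Cx.1 D.he, mul_assoc z, e2,
    mul_one, mem_Cx.1 D.hd, mul_assoc, h, z2, inv_one]

namespace Nor
variable (N : Nor z ψ π d e s t u T)
include N

theorem conj_e {k : ℕ} (hk : k < 512) (h : e * ψ k * (e * ψ k) = 1) : ∃ j < 512, ψ j * e * (ψ j)⁻¹ = e * ψ k := by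
  have D := N.b.q
  have a := (N.gd 4).2.1
  have ei : e⁻¹ = e := inv_eq_of_mul_eq_one_left N.e2
  have h1 := (a k hk).2.2
  have := al_iff.1 (e_aux T N.hT) k hk
  simp only [Bool.or_eq_true, Bool.not_eq_true', Bool.eq_false_iff, Ne, Nat.beq_eq, an_iff] at this
  obtain ⟨j, hj, h2⟩ := this.resolve_left fun n => n (D.ker (mq_lt (lk_lt _ _) hk) (by
    rw [D.mul (a := tb T 4 k) (lk_lt _ _) hk, ← h]; exact (congrArg (· * ψ k) h1).symm.trans (by rw [show lt z ψ d e s t u 4 = e from rfl, ei]; group)))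
  replace hj : j < 512 := by omega
  have h3 : e * ψ j * e⁻¹ = ψ k * ψ j := (a j hj).2.2.trans (by rw [← D.mul hk hj, h2]; rfl)
  refine ⟨j, hj, ?_⟩
  rw [eq_inv_of_mul_eq_one_left h, ← mul_inv_cancel_right (ψ k) (ψ j), ← h3, ei]
  simp only [mul_inv_rev, inv_inv, ei, mul_assoc, N.e2, mul_one]
end Nor

theorem Dat.orb1 (D : Dat z ψ π d e s t u TM) {k : ℕ} (hk : k < 512) (h : ψ k * ψ k = 1) (h0 : ψ k ≠ 1) (h1 : ψ k ≠ z) :
    ∃ w, evw (lt z ψ d e s t u) w * ψ k * (evw (lt z ψ d e s t u) w)⁻¹ = ψ 64 := by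
  obtain ⟨w, hw⟩ := D.red_cq OM k hk 8
  have := al_iff.1 orbM k hk
  simp only [sgl, Bool.or_eq_true, Bool.not_eq_true', Bool.eq_false_iff, Ne, Nat.beq_eq] at this
  rcases this with ((n | rfl) | rfl) | n
  exacts [absurd (D.b.q.ker (mq_lt hk hk) (by rw [D.b.q.mul hk hk, h])) n, absurd D.b.q.one h0, absurd D.b.q.hz h1, ⟨w, n ▸ hw.2.2⟩]

theorem Dat.five (D : Dat z ψ π d e s t u T) {w : List ℕ} {y : ℕ} (h : ck5 T w y = true) {g r : G} (hg : g * r * g⁻¹ = z)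
    (h1 : ψ y * r = r * ψ y) (h2 : evw (lt z ψ d e s t u) w * r = r * evw (lt z ψ d e s t u) w ∨
      evw (lt z ψ d e s t u) w * r = r * evw (lt z ψ d e s t u) w * z) (hr : r * z = z * r) :
    y < 512 ∧ (∃ k < 512, ψ k = g * ψ y * g⁻¹) ∧ ∃ f, f * r = r * f ∧ Act ψ f (wa (ap T) w) := by
  simp only [ck5, Bool.and_eq_true, Nat.beq_eq, Nat.blt_eq] at h
  obtain ⟨f, e, f5⟩ := D.b.exists_odd (D.w w) h.1.1.1
  have gf := D.b.gd_z (D.w w) e
  have c : f * r = r * f := D.b.comm_odd gf.1 (by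
    rcases e with rfl | rfl
    · exact h2
    · rw [mul_assoc, ← hr, ← mul_assoc, ← mul_assoc]
      exact h2.imp (fun e => by rw [e]) fun e => by rw [e]) f5
  exact ⟨h.1.1.2, D.b.n5 hg gf.2.1 h.1.1.2 h1 c f5 h.1.2 h.2, f, c, gf.2.1⟩

theorem Dat.n1 (D : Dat z ψ π d e s t u TN) : ¬ FQ z ψ := fun ⟨k, hk, h1, h2⟩ => by
  have Q := D.b.q
  obtain ⟨w, hw⟩ := D.red_cq ON k hk 8
  have := al_iff.1 orbN k hk
  simp only [sgl, Bool.or_eq_true, Bool.not_eq_true', Bool.eq_false_iff, Ne, Nat.beq_eq, frc_eq] at this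
  obtain ⟨g, hg⟩ := isConj_iff.1 h2
  have hr : red TN ON k 8 ∈ [1, 64] := by
    rcases this with ((n | rfl) | rfl) | n
    · exact absurd (Q.ker (mq_lt hk hk) (by rw [Q.mul hk hk, ← hg, conj_mul, Q.zz]; group)) n
    · exact absurd (conj_eq_one_iff.1 (hg.trans Q.one)) Q.ne
    · exact absurd Q.hz h1
    · simpa using n
  obtain ⟨g, hg⟩ := isConj_iff.1 (h2.trans (isConj_iff.2 ⟨_, hw.2.2⟩)).symm
  generalize red TN ON k 8 = r at hw hr hg
  obtain ⟨⟨w, y⟩, -, c1, c2, c3, c4⟩ := n1_aux r hr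
  have r5 := hw.2.1
  have y5 : y < 512 := by simp only [ck5, Bool.and_eq_true, Nat.blt_eq] at c1; exact c1.1.1.2
  obtain ⟨-, ⟨k1, h3, e1⟩, f, c, a⟩ := D.five c1 hg ((Q.bb_iff y5 r5).1 c3) (Or.inl (D.cm w ⟨r5, c2⟩)) (Q.com r5)
  obtain ⟨k2, c5⟩ := D.b.nrm (D.b.cmem hg c) h3
  have e2 : g * z * g⁻¹ = ψ (mq k1 k2) * ψ (mq k1 k2) := by
    have m := mq_lt y5 (a y y5).2.1
    rw [Q.mul h3 c5.2.1, ← c5.2.2, e1, conj_mul, conj_inv, conj_mul, conj_mul, conj_mul, (a y y5).2.2, ← Q.mul y5 (a y y5).2.1,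
      ← Q.mul m m, c4, Q.hz]
  rcases Q.sq (mq_lt h3 c5.2.1) with h | h
  · exact Q.ne (conj_eq_one_iff.1 (e2.trans h))
  · have := Q.inj (show 256 < 512 by omega) r5 (Q.hz.trans (conj_injective (e2.trans (h.trans hg.symm))))
    rw [← this] at hr
    simp at hr

theorem Dat.s2 (D : Dat z ψ π d e s t u TM) {k : ℕ} (hk : k < 512) (h : IsConj z (u * ψ k)) : FQ z ψ := by
  have Q := D.b.q
  obtain ⟨g, hg⟩ := isConj_iff.1 h.symm
  have v2 : u * ψ k * (u * ψ k) = 1 := by rw [← conj_eq_one_iff (a := g), ← conj_mul, hg, Q.zz]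
  have := al_iff.1 s2_aux k hk
  rw [D.same_of (by simpa [lts, lq hk, mul_assoc] using v2)] at this
  simp only [Bool.not_true, Bool.false_or, List.any_eq_true, Bool.and_eq_true, Nat.beq_eq, Nat.blt_eq, Bool.not_eq_true',
    Bool.eq_false_iff, Ne] at this
  obtain ⟨⟨_, m, j, b⟩, -, -, ⟨⟨⟨⟨c1, c2⟩, c3⟩, c4⟩, c5⟩, c6⟩ := this
  dsimp only at c1 c2 c3 c4 c5 c6
  have b5 : b < 512 := by simp only [ck5, Bool.and_eq_true, Nat.blt_eq] at c1; exact c1.1.1.2
  have b2 : ψ b * ψ b = 1 := by simp only [ck5, Bool.and_eq_true, Nat.beq_eq] at c1; rw [← Q.mul b5 b5, c1.1.2, Q.one]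
  have ev : evw (lt z ψ d e s t u) [9, q k] = u * ψ k := by simp [lts, lq hk]
  have c7 := D.cm [9, q k] ⟨b5, c6⟩
  have c8 := D.cq [9, q k] ⟨c3, c5⟩
  have c9 := D.eqz _ _ c2
  rw [evw_append, evw_append _ [9, q k]] at c9
  rw [ev] at c7 c8 c9
  obtain ⟨-, ⟨k1, h3, e1⟩, -⟩ := D.five c1 hg c7.symm c9 (mem_Cx.1 (mul_mem D.hu (D.b.mem hk)))
  refine D.b.fq hg h3 e1 (fun e => c4 (Q.ker b5 e)) (isConj_iff.2 ⟨ψ j, ?_⟩)
  rw [c7, ← inv_eq_of_mul_eq_one_left b2, eq_inv_mul_iff_mul_eq, ← mul_assoc, ← mul_assoc, ← Q.mul b5 c3, ← c8]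
  group

theorem Dat.n2 (D : Dat z ψ π d e s t u TN) {k : ℕ} (hk : k < 512) : ¬ IsConj z (u * ψ k) := fun h => by
  have Q := D.b.q
  have hv := mul_mem D.hu (D.b.mem hk)
  obtain ⟨g, hg, hp⟩ := D.b.third D.n1 hv (by rw [D.b.mul D.hu (D.b.mem hk), D.pu, D.b.kq hk]; decide) h
  have v2 : u * ψ k * (u * ψ k) = 1 := by rw [← conj_eq_one_iff (a := g), ← conj_mul, hg, Q.zz]
  have := al_iff.1 n2_aux k hk
  rw [D.same_of (by simpa [lts, lq hk, mul_assoc] using v2)] at this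
  simp only [Bool.not_true, Bool.false_or, List.any_eq_true, Bool.and_eq_true, Nat.beq_eq, ck3, Bool.not_eq_true',
    Bool.eq_false_iff, Ne] at this
  obtain ⟨⟨_, wi, m, i, j, γ⟩, -, -, ⟨⟨⟨⟨⟨⟨c1, c2⟩, c3⟩, c4⟩, c5⟩, c6⟩, c7⟩, c8⟩ := this
  dsimp only at c1 c2 c3 c4 c5 c6 c7 c8
  have ev : evw (lt z ψ d e s t u) [9, q k] = u * ψ k := by simp [lts, lq hk]
  have k8 : ∀ {i}, q8 k i = true → i < 512 ∧ ψ i * (u * ψ k) = u * ψ k * ψ i ∧ π (g * ψ i * g⁻¹) * π (g * ψ i * g⁻¹) = π (g * z * g⁻¹) :=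
    fun {i} h => by
      simp only [q8, Bool.and_eq_true, Nat.beq_eq, Nat.blt_eq] at h
      have := ev ▸ (D.cm [9, q k] ⟨h.1.1, h.2⟩).symm
      exact ⟨h.1.1, this, by rw [D.b.cmul hg this this, ← Q.mul h.1.1 h.1.1, h.1.2, Q.hz]⟩
  rcases hp with hp | hp
  · obtain ⟨f, e, f3⟩ := D.b.exists_odd (D.w _) c1
    have gf := D.b.gd_z (D.w _) e
    have c9 := D.eqz _ _ c2
    rw [evw_append, evw_append _ [9, q k], ev] at c9
    have c : f * (u * ψ k) = u * ψ k * f := D.b.comm_odd gf.1 (by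
      rcases e with rfl | rfl
      · exact c9
      · rw [mul_assoc, ← mem_Cx.1 hv, ← mul_assoc, ← mul_assoc _ _ z]
        exact c9.imp (fun e => by rw [e]) fun e => by rw [e]) f3
    obtain ⟨g5, g1, g2⟩ := k8 c5
    rw [hp] at g2
    have := (cE_all (by rw [← g2]; exact (mul_assoc _ _ _).symm) fun e => by rw [e] at g2; exact absurd g2 (by decide)).2.2 g2 (π (g * f * g⁻¹)) (by
      rw [D.b.cmul hg c g1, D.b.cmul hg g1 c, mul_inv_eq_iff_eq_mul.1 (gf.2.1 γ g5).2.2, c4]) (by rw [D.b.cpow hg c, f3, D.b.cone])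
    exact c3 (by rw [← gf.2.2, D.b.codd hg c this f3, D.b.one, cd_one])
  · obtain ⟨i5, i1, i2⟩ := k8 c6
    obtain ⟨j5, j1, j2⟩ := k8 c7
    have m := mq_lt i5 j5
    have ij : ψ i * ψ j * (u * ψ k) = u * ψ k * (ψ i * ψ j) := by rw [mul_assoc, j1, ← mul_assoc, i1, mul_assoc]
    exact no_q8 (i2.trans hp) (j2.trans hp) (by rw [D.b.cmul hg i1 j1, D.b.cpow hg ij, pow_two, ← Q.mul i5 j5, ← Q.mul m m, c8, Q.hz, hp])

theorem Nor.b2 (N : Nor z ψ π d e s t u T) (hn : ¬ FQ z ψ) (hA : ∀ k < 512, ¬ IsConj z (u * ψ k)) : ¬ IsConj z e := fun h => by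
  have Q := N.b.q
  have B := N.b
  obtain ⟨g, hg, hp | hp⟩ := B.third hn N.he (by rw [N.pe]; decide) h
  · have c1 : e * ψ 64 = ψ 64 * e := N.cm1 4
    have c2 : e * ψ 320 = ψ 320 * e := N.cm1 4
    have c3 : t * ψ 64 = ψ 64 * t := N.cm1 7
    have ze := (mem_Cx.1 N.he).symm
    have key : ∀ k, k < 512 → k ≠ 0 → mq k k = 0 → e * ψ k = ψ k * e → π (g * ψ k * g⁻¹) ≠ 1 := fun k hk k0 k2 c h1 => by
      obtain ⟨k1, h3, e1⟩ := B.ker (B.cmem hg c.symm) h1
      obtain ⟨j, -, hj⟩ := N.conj_e hk (by rw [mul_assoc, ← mul_assoc (ψ k), ← c, mul_assoc, ← Q.mul hk hk, k2, Q.one, mul_one, N.e2])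
      exact hn (B.fq hg h3 e1 (fun e => k0 (Q.ker hk e)) (isConj_iff.2 ⟨_, hj⟩))
    have t1 : π (g * t * g⁻¹) ≠ 1 := fun e => by
      have := N.pt
      rw [B.codd hg N.te e N.t3, B.one] at this
      exact absurd this (by decide)
    rcases (cE_all (by rw [← hp, B.cmul hg N.te ze, B.cmul hg ze N.te, mem_Cx.1 N.ht]) t1).2.1 (by rw [B.cpow hg N.te, N.t3, B.cone])
      (π (g * ψ 64 * g⁻¹)) (by rw [B.cmul hg c1.symm c1.symm, Q.eq (c := 0), Q.one, B.cone]) (B.sg (B.cmem hg c1.symm))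
      (by rw [← hp, B.cmul hg c1.symm ze, B.cmul hg ze c1.symm, Q.com (by omega)])
      (by rw [B.cmul hg c1.symm N.te, B.cmul hg N.te c1.symm, c3]) with h1 | h1
    · exact key 320 (by omega) (by omega) (by decide) c2 (by
        rw [← Q.eq (a := 64) (b := 256), Q.hz, ← B.cmul hg c1.symm ze, h1, hp]; decide)
    · exact key 64 (by omega) (by omega) (by decide) c1 h1
  · obtain ⟨k, hk, e1⟩ := B.modr (B.cmem hg (mem_Cx.1 N.he).symm) N.hu (hp.trans N.pu.symm)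
    exact hA k hk (isConj_iff.2 ⟨g, e1⟩)

theorem Dat.cls (D : Dat z ψ π d e s t u T) {v : G} (hv : v ∈ Cx(z)) (h2 : v * v = 1) :
    (∃ k < 512, ψ k = v) ∨ ∃ h ∈ Cx(z), ∃ k < 512, h * v * h⁻¹ = e * ψ k ∨ h * v * h⁻¹ = u * ψ k :=
  (D.b.cls hv h2).imp_right fun ⟨h, hh, e⟩ => ⟨h, hh, by
    have m := mul_mem (mul_mem hh hv) (inv_mem hh)
    rcases e with e | e
    · exact (D.b.modr m D.he (e.trans D.pe.symm)).imp fun k e => ⟨e.1, Or.inl e.2⟩
    · exact (D.b.modr m D.hu (e.trans D.pu.symm)).imp fun k e => ⟨e.1, Or.inr e.2⟩⟩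

theorem Nor.fused [Finite G] [IsSimpleGroup G] (N : Nor z ψ π d e s t u T) : T = TM ∧ IsConj z (ψ 64) := by
  have Q := N.b.q
  have hT : T = TM ∨ T = TN := by simpa using N.hT
  have F : FQ z ψ := by
    by_contra hn
    have hA : ∀ k < 512, ¬ IsConj z (u * ψ k) := fun k hk h => by
      rcases hT with rfl | rfl
      exacts [hn (N.s2 hk h), N.n2 hk h]
    obtain ⟨v, h1, h2, h3⟩ := CfH3.Hf.not_isolated (orderOf_eq_prime (by rw [pow_two, Q.zz]) Q.ne) (fun e => by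
      have := card_subgroup_dvd_card Cx(z)
      rw [N.b.card, e] at this
      omega)
    have v2 : v * v = 1 := by obtain ⟨g, rfl⟩ := isConj_iff.1 h1; rw [conj_mul, Q.zz]; group
    rcases N.cls (mem_Cx.2 h2) v2 with ⟨k, hk, rfl⟩ | ⟨h, -, k, hk, e1 | e1⟩
    · exact hn ⟨k, hk, h3, h1⟩
    · obtain ⟨j, -, hj⟩ := N.conj_e hk (by rw [← e1, conj_mul, v2]; group)
      exact N.b2 hn hA ((h1.trans (isConj_iff.2 ⟨h, e1⟩)).trans (isConj_iff.2 ⟨_, hj⟩).symm)
    · exact hA k hk (h1.trans (isConj_iff.2 ⟨h, e1⟩))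
  rcases hT with rfl | rfl
  · obtain ⟨k, hk, h1, h2⟩ := F
    obtain ⟨g, hg⟩ := isConj_iff.1 h2
    obtain ⟨w, hw⟩ := N.orb1 hk (by rw [← hg, conj_mul, Q.zz]; group) (fun e => Q.ne (conj_eq_one_iff.1 (hg.trans e))) h1
    exact ⟨rfl, h2.trans (isConj_iff.2 ⟨_, hw⟩)⟩
  · exact absurd F N.n1

end CfH3.Th
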