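import Cfsg.Agent.H3.Ta7
import Cfsg.Agent.H6.ThB
import Cfsg.Agent.OD.Helper3xf54dcb5c68
/-! Groups of Thompson type: the presentation, generation of the involution centraliser. -/
set_option autoImplicit false
set_option maxRecDepth 100000
open Subgroup CfH4 CfH9 CfH6 Equiv.Perm
namespace CfH3.Th
open CfH3.He
open CfH3.Hf (al2)

def sb : List (List ℕ) := [[0], [0, 1, 3, 1, 3, 1, 3, 1, 3, 0], [2], [3], [4], [5], [6], [7], [8], [9], [10]]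
def Z1 : List (List ℕ) := [[0, 1, 0, 1, 0, 1], [1, 2, 1, 2, 1, 2], [1, 3, 1, 3], [1, 4, 1, 4],
  [1, 2, 3, 4, 1, 2, 3, 4, 1, 2, 3, 4, 1, 2, 3, 4, 1, 2, 3, 4, 1, 2, 3, 4, 1, 2, 3, 4, 1, 2, 3, 4]]
def Z2 : List (List ℕ) := [[6, 1, 5, 1], [8, 1, 7, 1], [10, 1, 2, 0, 1, 9, 1, 0, 2, 1, 4],
  [3, 10, 3, 1, 2, 0, 1, 3, 9, 3, 1, 0, 2, 1, 2, 4, 3, 10, 3, 1, 2, 0, 1, 4, 10]]
def X2 : List (List ℕ × ℕ) := [([5, 5, 5, 5, 5, 5, 5], 0), ([5, 3, 5, 3], 0), (wB, 0), ([7, 7, 7], 0), ([8, 3, 7, 3], 0), ([8, 4, 7, 4], 0),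
  ([8, 5, 7, 6, 6], 0), ([10, 7, 9, 7], 0), ([6, 10, 6, 10, 6, 10], 320), ([4, 6, 6, 10, 5, 5, 4, 6, 6, 9, 5, 5], 0),
  ([6, 10, 5, 9, 6, 10, 5, 9, 6, 10, 5, 9, 6, 10, 5, 9], 320), (wL, 205)]
def L36 : List (List ℕ) := [[], [3, 4, 3, 9, 3, 9], [3, 4, 9, 3, 4, 9], [3, 6, 4, 3, 9, 3, 9, 6], [3, 6, 4, 9, 3, 4, 9, 6],
  [3, 8, 5, 9, 3, 9, 3, 5, 9], [3, 5, 4, 3, 9, 3, 9, 5], [3, 5, 4, 9, 3, 4, 9, 5], [3, 9, 3, 5, 9, 3, 9, 6, 7], [3, 4, 3, 5, 5, 9, 3, 5, 4, 7],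
  [3, 5, 5, 4, 3, 9, 3, 9, 5, 5], [3, 5, 5, 4, 9, 3, 4, 9, 5, 5], [3, 8, 9, 3, 5, 9, 3, 9, 6, 8], [3, 9, 3, 9, 3, 5, 7, 9, 6],
  [3, 5, 9, 3, 5, 7, 9, 3, 9, 6], [3, 6, 6, 4, 3, 9, 3, 9, 6, 6], [3, 6, 6, 4, 9, 3, 4, 9, 6, 6], [3, 7, 5, 9, 3, 9, 3, 5, 8, 9],
  [3, 5, 8, 9, 3, 9, 3, 5, 9, 6], [3, 5, 7, 9, 3, 5, 9, 3, 9], [3, 9, 3, 5, 7, 9, 3, 5, 9], [3, 7, 6, 4, 3, 9, 3, 9, 6, 8],
  [3, 7, 6, 4, 9, 3, 4, 9, 6, 8], [3, 5, 9, 3, 9, 3, 5, 7, 9], [3, 5, 9, 3, 5, 7, 9, 3, 5, 9, 5], [3, 4, 3, 7, 9, 3, 4, 6, 8, 9, 5],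
  [3, 5, 5, 9, 3, 5, 7, 9, 3, 9], [3, 5, 5, 7, 9, 3, 9, 3, 5, 9, 6, 7], [3, 7, 5, 4, 3, 9, 3, 9, 5, 8], [3, 7, 5, 4, 9, 3, 4, 9, 5, 8],
  [3, 7, 9, 3, 5, 9, 3, 9, 6], [3, 4, 6, 7, 9, 3, 6, 6, 9, 3, 4], [3, 5, 5, 9, 3, 9, 3, 5, 7, 9, 5], [3, 5, 4, 3, 7, 9, 3, 4, 6, 9, 5, 7],
  [3, 8, 9, 3, 9, 3, 5, 9, 6, 6], [3, 4, 3, 5, 7, 9, 3, 5, 4]]
theorem l36_aux : ∀ a b : Fin 9, a ≠ b → ∃ l ∈ L36, pw l = cd (Equiv.swap a b * Equiv.swap 0 1) := by decide +kernel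
theorem b8_aux : ∀ b ∈ B8, ∃ l ∈ [[4, 3, 9, 3], [5, 4, 3, 9, 3], [5, 5, 4, 3, 9, 3], [4, 3, 9, 4, 3], [6, 4, 3, 9, 4, 3],
  [6, 6, 4, 3, 9, 4, 3], [], [3]], (∀ i ∈ l, i < 11) ∧ wa (ap TM) l 64 = b := by decide +kernel
theorem u_aux : ∀ k < 512, mq (mq (ap TM 9 k) 320) k ≠ 0 := by decide +kernel

variable {G : Type*} [Group G] {z d e s t u w : G} {ψ : ℕ → G} {π : G → P9}

/-- conjugacy by an element of `H` -/
def Cj (H : Subgroup G) (x y : G) : Prop := ∃ h ∈ H, h * x * h⁻¹ = y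
theorem Cj.trans {H : Subgroup G} {x y v : G} (h1 : Cj H x y) (h2 : Cj H y v) : Cj H x v := by
  obtain ⟨a, ha, rfl⟩ := h1
  obtain ⟨b, hb, rfl⟩ := h2
  exact ⟨b * a, mul_mem hb ha, by group⟩
theorem Cj.symm {H : Subgroup G} {x y : G} (h1 : Cj H x y) : Cj H y x := by
  obtain ⟨a, ha, rfl⟩ := h1
  exact ⟨a⁻¹, inv_mem ha, by group⟩

theorem Dat.gen (D : Dat z ψ π d e s t u TM) {H : Subgroup G} (h : ∀ i < 11, lt z ψ d e s t u i ∈ H) : Cx(z) ≤ H := by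
  have B := D.b
  have ev : ∀ {l : List ℕ}, (∀ i ∈ l, lt z ψ d e s t u i ∈ H) → evw (lt z ψ d e s t u) l ∈ H := fun hl =>
    list_prod_mem (List.forall_mem_map.2 hl)
  have ex : ∀ l : List ℕ, (∀ a ∈ l, a < 512 ∧ ψ a ∈ H) → ∀ c r, r < 512 ∧ ψ r ∈ H → ψ (exA l c r) ∈ H := fun l => by
    induction l with
    | nil => exact fun _ _ _ h => h.2
    | cons a l ih =>
      intro hl c r hr
      have ha := hl a List.mem_cons_self
      simp only [exA, frc_eq] at ih ⊢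
      refine ih (fun b hb => hl b (List.mem_cons_of_mem _ hb)) _ _ ?_
      cases Nat.beq (Nat.land c 1) 1
      exacts [hr, ⟨mq_lt hr.1 ha.1, by rw [cond_true, B.q.mul hr.1 ha.1]; exact mul_mem hr.2 ha.2⟩]
  have hq : ∀ c < 512, ψ c ∈ H := fun c hc => ext_id c hc ▸ ex _ (forall_app (fun b hb => by
    obtain ⟨l, -, h1, h2⟩ := b8_aux b hb
    have m := ev fun i hi => h i (h1 i hi)
    exact ⟨(by decide : ∀ c ∈ B8, c < 512) b hb, D.cq l ⟨by omega, h2⟩ ▸ mul_mem (mul_mem m (h 2 (by omega))) (inv_mem m)⟩)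
      (forall_cons ⟨by omega, B.q.hz ▸ h 0 (by omega)⟩ forall_nil)) c 0 ⟨by omega, B.q.one ▸ one_mem H⟩
  have hl : ∀ i, lt z ψ d e s t u i ∈ H := fun i => by
    by_cases h1 : i < 16
    · by_cases h2 : i < 11
      · exact h i h2
      · interval_cases i <;> exact one_mem H
    · rw [lt, show Nat.blt i 16 = false from Bool.eq_false_iff.2 fun e => h1 (Nat.blt_eq.mp e)]
      exact hq _ (Nat.lt_succ_of_le Nat.and_le_right)
  let K : Subgroup P9 := ⟨⟨⟨{σ | ∃ g ∈ H ⊓ Cx(z), π g = σ}, by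
    rintro _ _ ⟨a, ha, rfl⟩ ⟨b, hb, rfl⟩
    exact ⟨_, mul_mem ha hb, B.mul ha.2 hb.2⟩⟩, 1, one_mem _, B.one⟩, by
    rintro _ ⟨a, ha, rfl⟩
    exact ⟨_, inv_mem ha, B.inv ha.2⟩⟩
  have k : ∀ a b : Fin 9, a ≠ b → Equiv.swap a b * Equiv.swap 0 1 ∈ K := fun a b hab => by
    obtain ⟨l, -, e⟩ := l36_aux a b hab
    exact ⟨_, ⟨ev fun i _ => hl i, D.mem l⟩, cd_inj ((D.w l).2.2.trans e)⟩
  have all : ∀ σ : P9, (sign σ = 1 → σ ∈ K) ∧ (sign σ = -1 → Equiv.swap 0 1 * σ ∈ K) := fun σ => by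
    induction σ using swap_induction_on with
    | one => exact ⟨fun _ => one_mem K, fun h => absurd h (by decide)⟩
    | swap_mul σ a b hab ih =>
      rw [map_mul, sign_swap hab]
      refine ⟨fun h => ?_, fun h => ?_⟩
      · have := mul_mem (k a b hab) (ih.2 (by rw [← neg_eq_iff_eq_neg, ← h]; simp))
        rwa [mul_assoc, Equiv.swap_mul_self_mul] at this
      · have := mul_mem (inv_mem (k a b hab)) (ih.1 (by simpa using h))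
        rwa [mul_inv_rev, Equiv.swap_inv, Equiv.swap_inv, mul_assoc] at this
  intro g hg
  obtain ⟨a, ha, e⟩ := (all _).1 (B.sg hg)
  obtain ⟨k, hk, rfl⟩ := B.modr hg ha.2 e.symm
  exact mul_mem ha.1 (hq k hk)

namespace Spn
variable (S : Spn z ψ π d e s t u) (W : Wd z ψ e s t w) (w2 : w * w = 1)
include S W w2
local notation "ev" => evw (lt z ψ d e s t u)

theorem x2 : ∀ p ∈ X2, p.2 < 512 ∧ ev p.1 = ψ p.2 := by
  have Q := S.b.q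
  obtain ⟨h1, h2, -⟩ := S.uw W w2
  have q3 : (ψ 320)⁻¹ = ψ 320 := inv_eq_of_mul_eq_one_left S.qi
  have k1 := S.sqt [6, 10, 5, 9, 6, 10, 5, 9] [5, 8, 5] 9 0 320 320 h1
  have k2 := S.sqt [3, 6, 6, 9, 5, 5, 3, 6, 6, 9, 5, 5] [4, 3, 6, 6] 9 190 320 205 h1
  have k3 := S.sqt [4, 6, 6, 9, 5, 5] [3, 5, 7, 5, 9, 3, 6] 4 26 0 320 (S.e2.trans Q.one.symm)
  have k4 := (S.col_sound [4, 6, 6, 9, q 320, 5, 5, 4, 6, 6, 9, 5, 5]).2
  rw [show col [4, 6, 6, 9, q 320, 5, 5, 4, 6, 6, 9, 5, 5] = (320, [4, 6, 6, 9, 5, 5] ++ [4, 6, 6, 9, 5, 5]) by decide +kernel, k3,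
    S.qi] at k4
  simp only [X2, List.forall_mem_cons, List.not_mem_nil, false_imp_iff, implies_true, and_true]
  refine ⟨⟨by omega, ?_⟩, ⟨by omega, ?_⟩, ⟨by omega, ?_⟩, ⟨by omega, ?_⟩, ⟨by omega, ?_⟩, ⟨by omega, ?_⟩, ⟨by omega, ?_⟩,
    ⟨by omega, ?_⟩, ⟨by omega, ?_⟩, ⟨by omega, ?_⟩, ⟨by omega, k1⟩, by omega, k2⟩ <;>
    simp (disch := omega) only [wB, evw_cons, evw_nil, lts, lq, mul_one, Q.one] at k4 ⊢
  · rw [← S.s7]; simp only [pow_succ, pow_zero, one_mul, mul_assoc]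
  · rw [← mul_assoc d, S.ds, mul_assoc, S.d2, mul_one, mul_inv_cancel]
  · exact S.wb
  · rw [← S.t3, pow_three]
  · rw [S.td, ← mul_assoc d, S.d2, one_mul, inv_mul_cancel]
  · rw [S.te, ← mul_assoc e, S.e2, one_mul, inv_mul_cancel]
  · rw [← mul_assoc, ← mul_assoc, S.st]; group
  · rw [← mul_assoc, ← mul_assoc, S.ut, inv_mul_cancel]
  · rw [← q3, ← S.us]; group
  · rw [← k4, ← q3, ← h1]; simp only [mul_inv_rev, mul_assoc, mul_inv_cancel_left]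

theorem rels [Finite G] : w = z * (w * d) ^ 4 * z * (ψ 64 * (z * (z * (w * d) ^ 4 * z))) ∧
    (∀ x < 11, lw z ψ d e s t u (z * (w * d) ^ 4 * z) (ThB.il.getD x 0) = (lw z ψ d e s t u (z * (w * d) ^ 4 * z) x)⁻¹) ∧
    ∀ r ∈ ThB.rels, evw (lw z ψ d e s t u (z * (w * d) ^ 4 * z)) r = 1 := by
  have Q := S.b.q
  have iv : ∀ {b}, b * b = 1 → ∀ x < 11, lw z ψ d e s t u b (ThB.il.getD x 0) = (lw z ψ d e s t u b x)⁻¹ := fun b2 x hx => by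
    have k : ∀ {a b : G}, a * b = 1 → b = a⁻¹ := eq_inv_of_mul_eq_one_right
    interval_cases x
    exacts [k Q.zz, k b2, k (S.qi (k := 64)), k S.d2, k S.e2, rfl, (inv_inv s).symm, rfl, (inv_inv t).symm, rfl, (inv_inv u).symm]
  have sub : ∀ r : List ℕ, (∀ i ∈ r, i < 11) → evw (lw z ψ d e s t u (z * (w * d) ^ 4 * z)) r = evw (lw z ψ d e s t u w) (subst sb r) :=
    fun r hr => by
      rw [evw_subst]
      refine congrArg List.prod (List.map_congr_left fun i hi => ?_)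
      have := hr i hi
      interval_cases i
      case «1» => simp [byW, sb, lws, pow_succ, mul_assoc]
      all_goals exact (mul_one _).symm
  have f := follows_sound _ (iv w2) (n := 2) (ws := Z1.map (subst sb) ++ [subst sb [1, 2, 0, 1] ++ [1], subst sb [1, 0, 2, 1] ++ [1]])
    (S.tca W w2) (by decide +kernel)
  have cs : s * (z * (w * d) ^ 4 * z) = z * (w * d) ^ 4 * z * s := by
    have h1 : s⁻¹ * (w * d) = w * d * s := by rw [← mul_assoc, (Commute.inv_left W.ws.symm).eq, mul_assoc, ← S.ds, mul_assoc]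
    have h2 : Commute s (w * d * (w * d)) := by
      generalize w * d = y at h1
      exact (show s * (y * y) = s * (y * s) * (s⁻¹ * y) by group).trans (by rw [mul_assoc y, ← h1, mul_inv_cancel_left])
    rw [show (w * d) ^ 4 = w * d * (w * d) * (w * d * (w * d)) by simp only [pow_succ, pow_zero, one_mul, mul_assoc]]
    exact ((Commute.mul_right (mem_Cx.1 S.hs) (h2.mul_right h2)).mul_right (mem_Cx.1 S.hs)).eq
  have ct : t * (z * (w * d) ^ 4 * z) = z * (w * d) ^ 4 * z * t :=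
    ((Commute.mul_right (mem_Cx.1 S.ht) ((Commute.mul_right W.wt.symm S.td).pow_right 4)).mul_right (mem_Cx.1 S.ht)).eq
  have b2 : z * (w * d) ^ 4 * z * (z * (w * d) ^ 4 * z) = 1 := by
    rw [show z * (w * d) ^ 4 * z * (z * (w * d) ^ 4 * z) = z * ((w * d) ^ 4 * (z * z) * (w * d) ^ 4) * z by simp only [mul_assoc], Q.zz, mul_one,
      ← pow_add, S.wd8 W w2, mul_one, Q.zz]
  have g1 := f _ (List.mem_append_right _ List.mem_cons_self)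
  have g2 := f _ (List.mem_append_right _ (List.mem_cons_of_mem _ List.mem_cons_self))
  rw [evw_append, ← sub _ (by decide)] at g1 g2
  have z1 : ∀ r ∈ Z1, evw (lw z ψ d e s t u (z * (w * d) ^ 4 * z)) r = 1 := fun r hr =>
    (sub r (by revert r; decide)).trans (f _ (List.mem_append_left _ (List.mem_map_of_mem hr)))
  generalize z * (w * d) ^ 4 * z = b at *
  simp only [evw_cons, evw_nil, lws, mul_one] at g1 g2
  replace g1 : b * (ψ 64 * (z * b)) = w := mul_right_cancel (g1.trans w2.symm)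
  replace g2 : b * (z * (ψ 64 * b)) = w := mul_right_cancel (g2.trans w2.symm)
  have g3 : ∀ x, b * (ψ 64 * (z * (b * x))) = w * x := fun x => by rw [← g1]; simp only [mul_assoc]
  have g4 : ∀ x, b * (z * (ψ 64 * (b * x))) = w * x := fun x => by rw [← g2]; simp only [mul_assoc]
  refine ⟨g1.symm, iv b2, fun r hr => S.okr_sound (forall_app (S.x1 W w2) (S.x2 W w2)) (forall_app z1 (b := Z2) ?_)
    (List.all_eq_true.1 (by decide +kernel) r hr)⟩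
  have h1 := (S.uw W w2).2.2
  have h2 := S.krel W w2
  rw [inv_eq_of_mul_eq_one_left w2] at h1
  simp only [W9, WK, Z2, List.forall_mem_cons, List.not_mem_nil, false_imp_iff, implies_true, and_true, evw_cons, evw_nil, lws, lts, g3, g4,
    mul_one] at h2 ⊢
  have h3 : ∀ x, w * (u * (w * x)) = u * (e * x) := fun x => by rw [← mul_assoc, ← mul_assoc, h1, mul_assoc]
  have h4 : ∀ x, d * (u⁻¹ * (d * (w * (d * (u * (d * (w * x))))))) = w * (u * (d * (u * (d * (e * (ψ 64 * x)))))) := fun x => by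
    have := congrArg (w * · * x) h2
    simpa only [← mul_assoc w w, w2, one_mul, mul_assoc] using this
  have c2 : ∀ {a : G}, a * a = 1 → ∀ x, a * (a * x) = x := fun h x => by rw [← mul_assoc, h, one_mul]
  refine ⟨?_, ?_, ?_, ?_⟩
  · rw [cs, ← mul_assoc b, b2, one_mul, inv_mul_cancel]
  · rw [ct, ← mul_assoc b, b2, one_mul, inv_mul_cancel]
  · rw [h3, S.e2, mul_one, inv_mul_cancel]
  · rw [h4, c2 S.qi, c2 S.e2, c2 S.d2, mul_inv_cancel_left, c2 S.d2, h3, c2 S.e2, mul_inv_cancel]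

theorem cj {H : Subgroup G} (h1 : Cx(z) ≤ H) (h2 : w ∈ H) {v : G} (hv : v ∈ Cx(z)) (v2 : v * v = 1) (v1 : v ≠ 1) : Cj H v z := by
  have Q := S.b.q
  have kq : ∀ {k}, k < 512 → ψ k * ψ k = 1 → ψ k ≠ 1 → Cj H (ψ k) z := fun {k} hk k2 k1 => by
    by_cases k3 : ψ k = z
    · exact ⟨1, one_mem H, by simp [k3]⟩
    obtain ⟨l, hl⟩ := S.orb1 hk k2 k1 k3
    exact Cj.trans ⟨_, h1 (S.mem l), hl⟩ ⟨w, h2, W.sw.2⟩
  rcases S.cls hv v2 with ⟨k, hk, rfl⟩ | ⟨h, hh, k, hk, e1 | e1⟩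
  · exact kq hk v2 v1
  · obtain ⟨j, hj, e2⟩ := S.conj_e hk (by rw [← e1, conj_mul, v2]; group)
    refine Cj.trans ⟨h, h1 hh, e1⟩ (Cj.trans (Cj.symm ⟨_, h1 (S.b.mem hj), e2⟩) (Cj.trans ⟨ψ 128, h1 (S.b.mem (by omega)), rfl⟩ ?_))
    rw [S.pi, mul_assoc]
    exact Cj.trans (Cj.symm ⟨w, h2, W.wy⟩) (kq (by omega) S.qi fun e => absurd (Q.ker (by omega) e) (by omega))
  · have a := (S.gd 9).2.1 k hk
    refine absurd (Q.ker (mq_lt (mq_lt a.2.1 (by omega)) hk) ?_) (u_aux k hk)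
    rw [Q.mul (mq_lt a.2.1 (by omega)) hk, Q.mul a.2.1 (by omega), ← a.2.2, ← (S.uw W w2).1, ← show u * ψ k * (u * ψ k) = 1 by
      rw [← e1, conj_mul, v2]; group]
    show u * ψ k * u⁻¹ * (u * u) * ψ k = _
    group
end Spn

end CfH3.Th
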