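import Cfsg.Agent.OD.Pre
import Cfsg.Agent.H6.TCTop
import Cfsg.Agent.H6.TCPart
/-! coset enumeration certificate; generators a c d e w x ; index 1 -/
set_option autoImplicit false
set_option maxRecDepth 100000
set_option Elab.async false
set_option linter.all false
namespace CfH3.ThTcB
open CfH6
noncomputable def tab0 : Tr := (Tr.l (nat_lit 0xbffe5fff2fff9e568bffe5fff2fff97ffcbffe63502fff97ffceea25fff2fff97ffc8faa43d8316597ffcbffe5fff21a797ffc468a5fff2fff9890cbffe5fff21630cb08438210c0))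
noncomputable def tab1 : Tr := (Tr.l (nat_lit 0xbffe5fff142d97ffd32b25fff1c6f9d144bffe5fff2fffa1d48bffe434d2fff8df58bffe42cb2fff97ffc67a85fff19a817ffd0892734431a397ffc468a5fff20e10c90c438210c0))
noncomputable def tab2 : Tr := (Tr.l (nat_lit 0x67b633d6246f9157867a846d5123097ffc66a05fff2fff891804eb8245d3ae618f48bffe23d92fff8cb2865922653192288d38469a43c8192197ffc459642c411638c504438410c0))
noncomputable def tab3 : Tr := (Tr.l (nat_lit 0xeac26860126b10f50c9ba4353122910d40c8b25fff21a70d57c869a345e19ee0d36c859633da2fff8cf5c67aa23c919a888d146898424331a397ffc679441c219640c910438210c0))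
noncomputable def tab4 : Tr := (Tr.l (nat_lit 0x7ffe3fff11ea8fffc89ba3fff11a88fffc7ffe3fff1fff88d3428be3fff1fff88b2c27b63fff1fff8fffc27ac22c809a9089104486134c1fff8fffc438412ca09648491441801141))
noncomputable def tab5 : Tr := (Tr.l (nat_lit 0x9ffe4fff27ff9e5709ffe59de27ff93ffc9ffe4fff4c2d13ffc9ffe4fff416593ffc9ffe4fff27ff8d134a99c254a29a9957309ffe744431a393ffc458a54c827ff8c908438210c0))
noncomputable def tab6 : Tr := (Tr.l (nat_lit 0x3ffe1fff0fff9695696921fff0fffceb46578a48d40fff87ffc3fff1acd0fff87ffc3fff0b4b1b6687ffc3ffe1fff0fffbf315d88a1fff0fff88f0dba84cdc20fffaf9055d801fff))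
noncomputable def tab7 : Tr := (Tr.l (nat_lit 0x2243234320343154310224244320431240))
noncomputable def tab8 : Tr := (Tr.l (nat_lit 0))
noncomputable def tab9 : Tr := (Tr.l (nat_lit 0))
noncomputable def tab10 : Tr := (Tr.l (nat_lit 0))
noncomputable def tab11 : Tr := (Tr.l (nat_lit 0))
noncomputable def tab12 : Tr := (Tr.l (nat_lit 0))
noncomputable def tab13 : Tr := (Tr.l (nat_lit 0))
noncomputable def tab14 : Tr := (Tr.l (nat_lit 0x540af01402bc1da0eec7761ba2598e205104))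
noncomputable def ty0 : TT := (TT.n (TT.n (TT.n (TT.l (Ty.ssub [] []))
 (TT.l (Ty.skip)))
 (TT.n (TT.l (Ty.relL (nat_lit 5) [nat_lit 2, nat_lit 5, nat_lit 2, nat_lit 5, nat_lit 2, nat_lit 5, nat_lit 2]))
 (TT.l (Ty.srel [nat_lit 3, nat_lit 0, nat_lit 3]))))
 (TT.n (TT.n (TT.l (Ty.rel3 (nat_lit 4) (nat_lit 1) (nat_lit 4)))
 (TT.l (Ty.dfn)))
 (TT.l (Ty.rel1 (nat_lit 0)))))
noncomputable def ty1 : TT := (TT.n (TT.n (TT.n (TT.n (TT.l (Ty.ssub [] []))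
 (TT.l (Ty.srel [nat_lit 2, nat_lit 1, nat_lit 2, nat_lit 1, nat_lit 2, nat_lit 1, nat_lit 0, nat_lit 2])))
 (TT.l (Ty.skip)))
 (TT.n (TT.l (Ty.rel1 (nat_lit 1)))
 (TT.l (Ty.rel3 (nat_lit 3) (nat_lit 1) (nat_lit 3)))))
 (TT.n (TT.n (TT.l (Ty.rel3 (nat_lit 4) (nat_lit 0) (nat_lit 4)))
 (TT.l (Ty.relL (nat_lit 2) [nat_lit 1, nat_lit 2, nat_lit 1, nat_lit 0, nat_lit 2, nat_lit 1, nat_lit 2])))
 (TT.n (TT.l (Ty.dfn))
 (TT.l (Ty.srel [nat_lit 4, nat_lit 0, nat_lit 4])))))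
noncomputable def ty2 : TT := (TT.n (TT.n (TT.n (TT.l (Ty.ssub [] []))
 (TT.l (Ty.skip)))
 (TT.n (TT.l (Ty.dfn))
 (TT.l (Ty.relL (nat_lit 5) [nat_lit 2, nat_lit 5, nat_lit 2, nat_lit 0, nat_lit 5, nat_lit 2, nat_lit 5]))))
 (TT.n (TT.n (TT.l (Ty.rel1 (nat_lit 2)))
 (TT.l (Ty.relL (nat_lit 4) [nat_lit 2, nat_lit 4, nat_lit 2, nat_lit 4, nat_lit 2, nat_lit 4, nat_lit 2, nat_lit 4, nat_lit 2, nat_lit 4])))
 (TT.l (Ty.rel5 (nat_lit 3) (nat_lit 2) (nat_lit 3) (nat_lit 2) (nat_lit 3)))))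
noncomputable def ty3 : TT := (TT.n (TT.n (TT.n (TT.l (Ty.ssub [] []))
 (TT.l (Ty.skip)))
 (TT.n (TT.l (Ty.rel1 (nat_lit 3)))
 (TT.l (Ty.rel5 (nat_lit 2) (nat_lit 3) (nat_lit 2) (nat_lit 3) (nat_lit 2)))))
 (TT.n (TT.n (TT.l (Ty.rel3 (nat_lit 4) (nat_lit 3) (nat_lit 4)))
 (TT.l (Ty.relL (nat_lit 2) [nat_lit 1, nat_lit 2, nat_lit 4, nat_lit 2, nat_lit 5, nat_lit 2, nat_lit 4, nat_lit 2, nat_lit 1, nat_lit 2])))
 (TT.l (Ty.dfn))))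
noncomputable def ty4 : TT := (TT.n (TT.n (TT.l (Ty.rel1 (nat_lit 4)))
 (TT.l (Ty.skip)))
 (TT.n (TT.l (Ty.dfn))
 (TT.l (Ty.relL (nat_lit 2) [nat_lit 1, nat_lit 2, nat_lit 4, nat_lit 2, nat_lit 1, nat_lit 2, nat_lit 4, nat_lit 2, nat_lit 1, nat_lit 2]))))
noncomputable def ty5 : TT := (TT.n (TT.n (TT.n (TT.n (TT.l (Ty.ssub [] []))
 (TT.l (Ty.rel5 (nat_lit 1) (nat_lit 0) (nat_lit 3) (nat_lit 5) (nat_lit 3))))
 (TT.l (Ty.rel1 (nat_lit 5))))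
 (TT.n (TT.l (Ty.relL (nat_lit 2) [nat_lit 4, nat_lit 2, nat_lit 1, nat_lit 2, nat_lit 3, nat_lit 2, nat_lit 1, nat_lit 2, nat_lit 4, nat_lit 2]))
 (TT.l (Ty.srel [nat_lit 3, nat_lit 5, nat_lit 1, nat_lit 0, nat_lit 3]))))
 (TT.n (TT.n (TT.l (Ty.rel3 (nat_lit 4) (nat_lit 5) (nat_lit 4)))
 (TT.l (Ty.relL (nat_lit 2) [nat_lit 1, nat_lit 2, nat_lit 5, nat_lit 2, nat_lit 1, nat_lit 2])))
 (TT.n (TT.l (Ty.skip))
 (TT.l (Ty.dfn)))))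
noncomputable def ty6 : TT := (TT.n (TT.n (TT.n (TT.l (Ty.skip))
 (TT.l (Ty.relL (nat_lit 4) [nat_lit 2, nat_lit 1, nat_lit 2, nat_lit 3, nat_lit 2, nat_lit 1, nat_lit 2, nat_lit 4, nat_lit 2, nat_lit 5, nat_lit 2])))
 (TT.l (Ty.relL (nat_lit 5) [nat_lit 2, nat_lit 5, nat_lit 2, nat_lit 5, nat_lit 2, nat_lit 5, nat_lit 2, nat_lit 0])))
 (TT.n (TT.l (Ty.relL (nat_lit 1) [nat_lit 2, nat_lit 1, nat_lit 2, nat_lit 1, nat_lit 2, nat_lit 1, nat_lit 2, nat_lit 0]))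
 (TT.l (Ty.relL (nat_lit 1) [nat_lit 5, nat_lit 3, nat_lit 5, nat_lit 3, nat_lit 0]))))
noncomputable def C : Cert where
  tabs := [tab0, tab1, tab2, tab3, tab4, tab5, tab6, tab7, tab8, tab9, tab10, tab11, tab12, tab13, tab14]
  tts := [ty0, ty1, ty2, ty3, ty4, ty5, ty6]
  k := nat_lit 6
  base := nat_lit 9
  mJ := nat_lit 64
  mR := nat_lit 63
  W := nat_lit 17
  mA := nat_lit 4095
  mI := nat_lit 127
  S := nat_lit 12
  mC := nat_lit 31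
  nc := nat_lit 6
  lo := nat_lit 64
  live := nat_lit 65
  hi1 := nat_lit 97
  AW := nat_lit 13
  mAW := nat_lit 8191
def il : List ℕ := [0, 1, 2, 3, 4, 5]
def rels : List (List ℕ) := [[0, 3, 0, 3],
  [0, 2, 1, 2, 1, 2, 1, 2, 1],
  [1, 3, 1, 3],
  [2, 3, 2, 3, 2, 3],
  [0, 5, 0, 5],
  [1, 5, 1, 5],
  [2, 1, 2, 5, 2, 1, 2, 5],
  [5, 2, 5, 2, 5, 2, 5, 2, 0],
  [3, 5, 3, 5, 1, 0],
  [4, 0, 4, 1],
  [4, 3, 4, 3],
  [4, 5, 4, 5],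
  [4, 2, 1, 2, 4, 2, 1, 2, 4, 2, 1, 2],
  [4, 2, 5, 2, 4, 2, 1, 2, 3, 2, 1, 2],
  [4, 2, 4, 2, 4, 2, 4, 2, 4, 2, 4, 2]]
def subs : List (List ℕ) := [[0],
  [1],
  [2],
  [3],
  [5]]
theorem valid : C.valid il rels subs = true := by decide +kernel
theorem p0 : C.OkR 64 98 := C.okR_of 64 0 34 98 (by decide) (by decide +kernel)
def ws : List (List ℕ) := [[4]]
theorem words {G : Type*} [Group G] (ev : ℕ → G) (H : Subgroup G)
    (hinv : ∀ x < 6, ev (il.getD x 0) = (ev x)⁻¹) (hr : ∀ r ∈ rels, evw ev r = 1)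
    (hs : ∀ s ∈ subs, evw ev s ∈ H) : ∀ w ∈ ws, evw ev w ∈ H :=
  C.words' il rels subs 6 ws valid (p0) (by decide) (by decide +kernel) ev H hinv hr hs
end CfH3.ThTcB
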