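import Cfsg.Agent.OD.Pre
import Cfsg.Agent.H6.TCTop
import Cfsg.Agent.H6.TCPart
/-! coset enumeration certificate; generators a c d e w x u ; index 1 -/
set_option autoImplicit false
set_option maxRecDepth 100000
set_option Elab.async false
set_option linter.all false
namespace CfH3.ThTcV1
open CfH6
noncomputable def tab0 : Tr := (Tr.l (nat_lit 0x5fff17ffc5fff17ffc5fff17ffd6d6d17ffc5fff17ffc5fff17ffc5fff17ffc5fff17ffc5fff17ffd0adb51f6888d817ffc5fff17ffce85f17ffc5fff48b385fff17ffc5fff17ffc5fff17ffd044f17ffce35717ffc5fff17ffcc34517ffc5fff17ffc834617ffca3442110c62c217ffc20c0))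
noncomputable def tab1 : Tr := (Tr.l (nat_lit 0xbfff2fffcbfff2fffcbfff731b0bfff72fadab662fffcbfff6119c6bea5318964592fffc6ce520d5148da4a76c83532fffcbfff1a97c69602fffc82ce2fffcbfff2fffc63e118f78bfff2fffcbfff40f3c63582fffcbfff2fffc44ca38d10c4c82fffcbfff10d1463c92070862431070420c0))
noncomputable def tab2 : Tr := (Tr.l (nat_lit 0x63e918fa0bfff2fffcbfff18f9463e318f8863df111c8447118d6c635a111b4bfff2fffc446b2fffcbfff111a8bfff18b4462cf10f9c43e631948bfff2fffc62cd18b3062cb18b2846d910d74bfff10d70624510d58435510d50bfff20f2462432fffcbfff10b3882c410b2061411070820c0))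
noncomputable def tab3 : Tr := (Tr.l (nat_lit 0x70f04bbbcf0722fffc83e62fffcbfff2fffcbfff2fffcbfff2fffc646e2fffcbfff2fffcbfff2fffcbfff2fffcbfff2fffcbfff2fffcbfff2fffcbfff2fffcbfff2fffcbfff2fffc43ca1113cbfff19344bfff40d1ce34610d14bfff2090cc34818f34bfff2fffc81c218b2462441070420c0))
noncomputable def tab4 : Tr := (Tr.l (nat_lit 0x104ec1fffc7fff10f98ef711fffc25721fffc7fff1fffc7fff1fffc246f1fffc7fff1fffc7fff1fffc7fff1fffc7fff1fffc7fff1fffc7fff1fffc7fff1fffc7fff1fffc7fff1fffc42c910918c3cd28f307fff091407fff10910424308d4883481fffc22d11070822cb08b282245103002141))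
noncomputable def tab5 : Tr := (Tr.l (nat_lit 0xdfff37ffcdfff37ffcdfff37ffcdfff37ffcdfff37ffcdfff37ffcdfff5217d0358523692adb21978dfff2a394a6e137ffcdfff2ad88dfff40b38a3e437ffcdfff37ffc65532975045cb37ffcdfff37ffca35937ffcdfff29948dfff39310dfff37ffcdfff10b14a54920b0c62421070420c0))
noncomputable def tab6 : Tr := (Tr.l (nat_lit 0xffff3fffcffff51bb4ffff4b7bcffff3fffcffff28d74ffff3fffc647028d64ffff28d506be43fffca35341f60ffff3fffc63e828b38685e3fffcffff3fffcffff1995863e218f7cffff3fffca24521528635a2891083c93fffcffff3fffcc34828708834318b3c62cc1951c62461070420c0))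
noncomputable def tab7 : Tr := (Tr.l (nat_lit 0x10fee27ffc43e60b9b49fff27ffc9fff27ffc9fff27ffc435c27ffc9fff27ffceb6227ffc435427ffc9fff10d4cc7da08fa49fff1a57842ce08f94285f27ffca5d527ffc23e308f809fff27ffc9fff10914235b27ffc424427ffc25cf27ffc23c81930c41c208b4022cd08f182247089042140))
noncomputable def tab8 : Tr := (Tr.l (nat_lit 0x3fff0fffc3fff0fffc3fff1c5b03fff0fffc3fff0fffc3fff0fffc3fffac78c3fff0fffc3fff0fffc3fffa49683fff0fffc3fff0fffc3fff0fffc3fff11d4c3fff0fffc3fff9cb383fff0fffc3fff0fffc3fff0fffc3fff0fffe53450fffe34410fffc3fff0fffc3fff84f083fff7d3003fff))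
noncomputable def tab9 : Tr := (Tr.l (nat_lit 0x227432222672265671671226751022224467267443267431240))
noncomputable def tab10 : Tr := (Tr.l (nat_lit 0))
noncomputable def tab11 : Tr := (Tr.l (nat_lit 0))
noncomputable def tab12 : Tr := (Tr.l (nat_lit 0))
noncomputable def tab13 : Tr := (Tr.l (nat_lit 0))
noncomputable def tab14 : Tr := (Tr.l (nat_lit 0))
noncomputable def tab15 : Tr := (Tr.l (nat_lit 0))
noncomputable def tab16 : Tr := (Tr.l (nat_lit 0))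
noncomputable def tab17 : Tr := (Tr.l (nat_lit 0))
noncomputable def tab18 : Tr := (Tr.l (nat_lit 0x6d0b28b7c7a61430a509204))
noncomputable def ty0 : TT := (TT.n (TT.n (TT.n (TT.n (TT.l (Ty.ssub [] []))
 (TT.l (Ty.dfn)))
 (TT.l (Ty.rel3 (nat_lit 3) (nat_lit 0) (nat_lit 3))))
 (TT.n (TT.n (TT.l (Ty.relL (nat_lit 5) [nat_lit 2, nat_lit 5, nat_lit 2, nat_lit 5, nat_lit 2, nat_lit 5, nat_lit 2]))
 (TT.l (Ty.relL (nat_lit 2) [nat_lit 1, nat_lit 2, nat_lit 1, nat_lit 2, nat_lit 1, nat_lit 2, nat_lit 1])))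
 (TT.l (Ty.rel1 (nat_lit 0)))))
 (TT.n (TT.n (TT.n (TT.l (Ty.skip))
 (TT.l (Ty.srel [nat_lit 7, nat_lit 0, nat_lit 6])))
 (TT.l (Ty.rel3 (nat_lit 4) (nat_lit 1) (nat_lit 4))))
 (TT.n (TT.l (Ty.rel3 (nat_lit 7) (nat_lit 0) (nat_lit 6)))
 (TT.l (Ty.rel3 (nat_lit 1) (nat_lit 7) (nat_lit 7))))))
noncomputable def ty1 : TT := (TT.n (TT.n (TT.n (TT.n (TT.l (Ty.ssub [] []))
 (TT.l (Ty.rel3 (nat_lit 7) (nat_lit 7) (nat_lit 0))))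
 (TT.n (TT.l (Ty.skip))
 (TT.l (Ty.relL (nat_lit 2) [nat_lit 1, nat_lit 0, nat_lit 2, nat_lit 1, nat_lit 2, nat_lit 1, nat_lit 2]))))
 (TT.n (TT.n (TT.l (Ty.rel1 (nat_lit 1)))
 (TT.l (Ty.rel3 (nat_lit 5) (nat_lit 1) (nat_lit 5))))
 (TT.l (Ty.rel3 (nat_lit 3) (nat_lit 1) (nat_lit 3)))))
 (TT.n (TT.n (TT.n (TT.l (Ty.rel3 (nat_lit 4) (nat_lit 0) (nat_lit 4)))
 (TT.l (Ty.rel3 (nat_lit 6) (nat_lit 1) (nat_lit 7))))
 (TT.n (TT.l (Ty.relL (nat_lit 2) [nat_lit 1, nat_lit 2, nat_lit 1, nat_lit 2, nat_lit 1, nat_lit 0, nat_lit 2]))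
 (TT.l (Ty.relL (nat_lit 2) [nat_lit 5, nat_lit 2, nat_lit 1, nat_lit 2, nat_lit 5, nat_lit 2]))))
 (TT.n (TT.n (TT.l (Ty.dfn))
 (TT.l (Ty.relL (nat_lit 2) [nat_lit 6, nat_lit 2, nat_lit 5, nat_lit 1, nat_lit 2, nat_lit 7, nat_lit 2])))
 (TT.l (Ty.rel3 (nat_lit 7) (nat_lit 1) (nat_lit 6))))))
noncomputable def ty2 : TT := (TT.n (TT.n (TT.n (TT.l (Ty.ssub [] []))
 (TT.l (Ty.skip)))
 (TT.l (Ty.dfn)))
 (TT.n (TT.n (TT.l (Ty.rel1 (nat_lit 2)))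
 (TT.l (Ty.relL (nat_lit 5) [nat_lit 2, nat_lit 5, nat_lit 2, nat_lit 0, nat_lit 5, nat_lit 2, nat_lit 5])))
 (TT.l (Ty.rel5 (nat_lit 3) (nat_lit 2) (nat_lit 3) (nat_lit 2) (nat_lit 3)))))
noncomputable def ty3 : TT := (TT.n (TT.n (TT.n (TT.n (TT.l (Ty.ssub [] []))
 (TT.l (Ty.relL (nat_lit 7) [nat_lit 2, nat_lit 6, nat_lit 2, nat_lit 3, nat_lit 7, nat_lit 2, nat_lit 6, nat_lit 2])))
 (TT.l (Ty.skip)))
 (TT.n (TT.l (Ty.rel1 (nat_lit 3)))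
 (TT.l (Ty.rel3 (nat_lit 7) (nat_lit 3) (nat_lit 6)))))
 (TT.n (TT.n (TT.l (Ty.rel3 (nat_lit 4) (nat_lit 3) (nat_lit 4)))
 (TT.l (Ty.relL (nat_lit 2) [nat_lit 1, nat_lit 2, nat_lit 4, nat_lit 2, nat_lit 5, nat_lit 2, nat_lit 4, nat_lit 2, nat_lit 1, nat_lit 2])))
 (TT.n (TT.l (Ty.dfn))
 (TT.l (Ty.rel3 (nat_lit 6) (nat_lit 3) (nat_lit 7))))))
noncomputable def ty4 : TT := (TT.n (TT.n (TT.n (TT.l (Ty.rel1 (nat_lit 4)))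
 (TT.l (Ty.relL (nat_lit 3) [nat_lit 7, nat_lit 4, nat_lit 6])))
 (TT.n (TT.l (Ty.skip))
 (TT.l (Ty.rel3 (nat_lit 3) (nat_lit 4) (nat_lit 3)))))
 (TT.n (TT.n (TT.l (Ty.dfn))
 (TT.l (Ty.relL (nat_lit 6) [nat_lit 4, nat_lit 3, nat_lit 7])))
 (TT.n (TT.l (Ty.relL (nat_lit 2) [nat_lit 1, nat_lit 2, nat_lit 4, nat_lit 2, nat_lit 1, nat_lit 2, nat_lit 4, nat_lit 2, nat_lit 1, nat_lit 2]))
 (TT.l (Ty.relL (nat_lit 2) [nat_lit 6, nat_lit 2, nat_lit 4, nat_lit 0, nat_lit 1, nat_lit 3, nat_lit 2, nat_lit 7, nat_lit 2, nat_lit 7, nat_lit 4, nat_lit 2, nat_lit 7, nat_lit 2])))))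
noncomputable def ty5 : TT := (TT.n (TT.n (TT.n (TT.n (TT.l (Ty.ssub [] []))
 (TT.l (Ty.relL (nat_lit 1) [nat_lit 7, nat_lit 5, nat_lit 6])))
 (TT.l (Ty.rel1 (nat_lit 5))))
 (TT.n (TT.l (Ty.relL (nat_lit 2) [nat_lit 4, nat_lit 2, nat_lit 1, nat_lit 2, nat_lit 3, nat_lit 2, nat_lit 1, nat_lit 2, nat_lit 4, nat_lit 2]))
 (TT.l (Ty.rel5 (nat_lit 3) (nat_lit 5) (nat_lit 1) (nat_lit 0) (nat_lit 3)))))
 (TT.n (TT.n (TT.n (TT.l (Ty.rel3 (nat_lit 4) (nat_lit 5) (nat_lit 4)))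
 (TT.l (Ty.relL (nat_lit 6) [nat_lit 5, nat_lit 1, nat_lit 7])))
 (TT.l (Ty.skip)))
 (TT.n (TT.l (Ty.rel3 (nat_lit 1) (nat_lit 5) (nat_lit 1)))
 (TT.l (Ty.dfn)))))
noncomputable def ty6 : TT := (TT.n (TT.n (TT.n (TT.n (TT.l (Ty.ssub [] []))
 (TT.l (Ty.rel3 (nat_lit 6) (nat_lit 1) (nat_lit 0))))
 (TT.l (Ty.dfn)))
 (TT.n (TT.l (Ty.rel1 (nat_lit 7)))
 (TT.l (Ty.skip))))
 (TT.n (TT.n (TT.n (TT.l (Ty.relL (nat_lit 4) [nat_lit 3, nat_lit 7, nat_lit 4]))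
 (TT.l (Ty.relL (nat_lit 2) [nat_lit 6, nat_lit 2, nat_lit 3, nat_lit 1, nat_lit 0, nat_lit 4, nat_lit 2, nat_lit 7, nat_lit 2, nat_lit 4, nat_lit 2, nat_lit 6, nat_lit 2, nat_lit 4])))
 (TT.l (Ty.relL (nat_lit 2) [nat_lit 5, nat_lit 1, nat_lit 2, nat_lit 7, nat_lit 2, nat_lit 1, nat_lit 2])))
 (TT.n (TT.l (Ty.rel3 (nat_lit 1) (nat_lit 0) (nat_lit 6)))
 (TT.l (Ty.srel [nat_lit 1, nat_lit 0, nat_lit 6])))))
noncomputable def ty7 : TT := (TT.n (TT.n (TT.n (TT.l (Ty.rel1 (nat_lit 6)))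
 (TT.l (Ty.relL (nat_lit 2) [nat_lit 6, nat_lit 3, nat_lit 2, nat_lit 7, nat_lit 2, nat_lit 6, nat_lit 3, nat_lit 2])))
 (TT.n (TT.l (Ty.rel3 (nat_lit 0) (nat_lit 1) (nat_lit 7)))
 (TT.l (Ty.relL (nat_lit 5) [nat_lit 6, nat_lit 1, nat_lit 5]))))
 (TT.n (TT.n (TT.l (Ty.dfn))
 (TT.l (Ty.srel [nat_lit 7, nat_lit 0, nat_lit 1])))
 (TT.n (TT.l (Ty.skip))
 (TT.l (Ty.relL (nat_lit 4) [nat_lit 2, nat_lit 7, nat_lit 2, nat_lit 4, nat_lit 2, nat_lit 6, nat_lit 2, nat_lit 4, nat_lit 0, nat_lit 1, nat_lit 3, nat_lit 2, nat_lit 7, nat_lit 2])))))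
noncomputable def ty8 : TT := (TT.n (TT.n (TT.l (Ty.skip))
 (TT.l (Ty.rel5 (nat_lit 4) (nat_lit 3) (nat_lit 7) (nat_lit 4) (nat_lit 6))))
 (TT.l (Ty.relL (nat_lit 5) [nat_lit 2, nat_lit 5, nat_lit 2, nat_lit 5, nat_lit 2, nat_lit 5, nat_lit 2, nat_lit 0])))
noncomputable def C : Cert where
  tabs := [tab0, tab1, tab2, tab3, tab4, tab5, tab6, tab7, tab8, tab9, tab10, tab11, tab12, tab13, tab14, tab15, tab16, tab17, tab18]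
  tts := [ty0, ty1, ty2, ty3, ty4, ty5, ty6, ty7, ty8]
  k := nat_lit 6
  base := nat_lit 14
  mJ := nat_lit 64
  mR := nat_lit 63
  W := nat_lit 18
  mA := nat_lit 8191
  mI := nat_lit 127
  S := nat_lit 13
  mC := nat_lit 31
  nc := nat_lit 8
  lo := nat_lit 64
  live := nat_lit 65
  hi1 := nat_lit 114
  AW := nat_lit 13
  mAW := nat_lit 8191
def il : List ℕ := [0, 1, 2, 3, 4, 5, 7, 6]
def rels : List (List ℕ) := [[0, 3, 0, 3],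
  [0, 2, 1, 2, 1, 2, 1, 2, 1],
  [1, 3, 1, 3],
  [2, 3, 2, 3, 2, 3],
  [0, 5, 0, 5],
  [1, 5, 1, 5],
  [2, 1, 2, 5, 2, 1, 2, 5],
  [5, 2, 5, 2, 5, 2, 5, 2, 0],
  [3, 5, 3, 5, 1, 0],
  [4, 0, 4, 1],
  [4, 3, 4, 3],
  [4, 5, 4, 5],
  [4, 2, 1, 2, 4, 2, 1, 2, 4, 2, 1, 2],
  [4, 2, 5, 2, 4, 2, 1, 2, 3, 2, 1, 2],
  [4, 2, 4, 2, 4, 2, 4, 2, 4, 2, 4, 2, 4, 2, 4, 2],
  [6, 6, 1, 0],
  [7, 0, 6, 0],
  [7, 1, 6, 1],
  [7, 3, 6, 3],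
  [2, 3, 7, 2, 6, 2, 3, 7, 2, 6],
  [7, 4, 6, 4, 3],
  [7, 5, 6, 5, 1],
  [7, 2, 5, 2, 6, 2, 5, 2, 0],
  [7, 2, 1, 2, 6, 2, 5, 1, 2],
  [4, 2, 7, 2, 4, 2, 6, 2, 4, 0, 1, 3, 2, 7, 2, 7]]
def subs : List (List ℕ) := [[0],
  [1],
  [2],
  [3],
  [5],
  [6]]
theorem valid : C.valid il rels subs = true := by decide +kernel
theorem p0 : C.OkR 64 115 := C.okR_of 64 0 51 115 (by decide) (by decide +kernel)
def ws : List (List ℕ) := [[4]]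
theorem words {G : Type*} [Group G] (ev : ℕ → G) (H : Subgroup G)
    (hinv : ∀ x < 8, ev (il.getD x 0) = (ev x)⁻¹) (hr : ∀ r ∈ rels, evw ev r = 1)
    (hs : ∀ s ∈ subs, evw ev s ∈ H) : ∀ w ∈ ws, evw ev w ∈ H :=
  C.words' il rels subs 8 ws valid (p0) (by decide) (by decide +kernel) ev H hinv hr hs
end CfH3.ThTcV1
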