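import Cfsg.Agent.OD.Pre
import Cfsg.Agent.H6.TCTop
import Cfsg.Agent.H6.TCPart
/-! coset enumeration certificate; generators a c d e w x u ; index 1 -/
set_option autoImplicit false
set_option maxRecDepth 100000
set_option Elab.async false
set_option linter.all false
namespace CfH3.ThTcV2
open CfH6
noncomputable def tab0 : Tr := (Tr.l (nat_lit 0x17ffc5fff337994d6717ffc5fff17ffc5fff17ffc5fff17ffc5fff17ffc5fff17ffd2ad541f5088d217ffc5fff17ffcc85917ffc5fff38b2c5fff17ffc5fff17ffc5fff30d445fff28d145fff17ffc834617ffc5fff2110c62c217ffc20c0))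
noncomputable def tab1 : Tr := (Tr.l (nat_lit 0x2fffcbfff6b1986ce76af958b602fffcbfff591846be44b17144532fffc6cdf20d4128d442754834f2fffcbfff1a964695a2fffc82cb2fffc63db18f60bfff2fffcbfff18d48bfff11324e3443131cbfff10d14bfff2070862431070420c0))
noncomputable def tab2 : Tr := (Tr.l (nat_lit 0x18f88bfff18f7c63dd18f7063d92fffc446918d5463541119cbfff2fffc44652fffcbfff11190bfff18b3462cc10f8443e031938bfff2fffc62ca18b2446d310d5c43561891443502fffc83c81890cbfff10b2c82c410b1c61411070820c0))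
noncomputable def tab3 : Tr := (Tr.l (nat_lit 0x393a0bfff2fffcbfff2fffcbfff2fffcbfff2fffcbfff2fffcbfff2fffcbfff2fffcbfff2fffcbfff2fffcbfff2fffcbfff2fffcbfff2fffcbfff2fffcbfff2fffcbfff2fffc43452fffc824330d1cbfff2fffc81c218b2062441070420c0))
noncomputable def tab4 : Tr := (Tr.l (nat_lit 0x1fffc43e01fffc7fff1fffc7fff1fffc7fff1fffc24681fffc7fff1fffc7fff1fffc7fff1fffc7fff1fffc7fff1fffc7fff1fffc7fff1fffc7fff1fffc42c81fffc7fff1fffc42441090c234e20d1c7fff1070822ca08b242245103002141))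
noncomputable def tab5 : Tr := (Tr.l (nat_lit 0x27ffc9fff27ffc9fff27ffc9fff27ffc9fff27ffc9fff52164e352523512ad5419609fff2a37ca6db27ffc9fff2ad709fff38b2ca3de27ffc654f2974045ca27ffc9fff28d4ca64e27ffcc4c427ffc9fff10b14a54827ffc62421070420c0))
noncomputable def tab6 : Tr := (Tr.l (nat_lit 0x27ffd24e627ffd0e6827ffc9fff27ffc9fff27ffc9fff30d4c9fff30d406bde27ffcc34f39f489fff18f8c63e230b2c685827ffc9fff27ffc63dc18f649fff30914a54918d509fff27ffc9fff27ffca34318b309fff27ffc62461070420c0))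
noncomputable def tab7 : Tr := (Tr.l (nat_lit 0x17ffc2ee617ffc5fff17ffc5fff18d5c635617ffc5fff17ffccb5c17ffc635017ffc5fff18d3ca7d417ffc5fff2256062cb08f7c285917ffc23dd08f685fff17ffc624508d545fff17ffc5fff17ffc61c208b345fff08f185fff089042140))
noncomputable def tab8 : Tr := (Tr.l (nat_lit 0xfffc3fff0fffc3fff0fffc3fff1bd883fff0fffc3fff0fffc3fff0fffc3fff0fffc3fff0fffc3fff9bf583fff0fffc3fff0fffc3fff11d3c3fff0fffc3fff941303fff0fffc3fff8c3143fff847043fff0fffc3fff7c5083fff749003fff))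
noncomputable def tab9 : Tr := (Tr.l (nat_lit 0x242222772265671671226751022467244327431240))
noncomputable def tab10 : Tr := (Tr.l (nat_lit 0))
noncomputable def tab11 : Tr := (Tr.l (nat_lit 0))
noncomputable def tab12 : Tr := (Tr.l (nat_lit 0))
noncomputable def tab13 : Tr := (Tr.l (nat_lit 0))
noncomputable def tab14 : Tr := (Tr.l (nat_lit 0))
noncomputable def tab15 : Tr := (Tr.l (nat_lit 0))
noncomputable def tab16 : Tr := (Tr.l (nat_lit 0))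
noncomputable def tab17 : Tr := (Tr.l (nat_lit 0))
noncomputable def tab18 : Tr := (Tr.l (nat_lit 0x318f5c29b3430a4891c4))
noncomputable def ty0 : TT := (TT.n (TT.n (TT.n (TT.n (TT.l (Ty.ssub [] []))
 (TT.l (Ty.rel3 (nat_lit 1) (nat_lit 7) (nat_lit 7))))
 (TT.l (Ty.rel3 (nat_lit 4) (nat_lit 1) (nat_lit 4))))
 (TT.n (TT.l (Ty.relL (nat_lit 5) [nat_lit 2, nat_lit 5, nat_lit 2, nat_lit 5, nat_lit 2, nat_lit 5, nat_lit 2]))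
 (TT.l (Ty.dfn))))
 (TT.n (TT.n (TT.n (TT.l (Ty.skip))
 (TT.l (Ty.relL (nat_lit 2) [nat_lit 1, nat_lit 2, nat_lit 1, nat_lit 2, nat_lit 1, nat_lit 2, nat_lit 1])))
 (TT.l (Ty.rel1 (nat_lit 0))))
 (TT.n (TT.l (Ty.rel3 (nat_lit 7) (nat_lit 0) (nat_lit 6)))
 (TT.l (Ty.srel [nat_lit 7, nat_lit 0, nat_lit 6])))))
noncomputable def ty1 : TT := (TT.n (TT.n (TT.n (TT.n (TT.l (Ty.ssub [] []))
 (TT.l (Ty.rel3 (nat_lit 6) (nat_lit 1) (nat_lit 7))))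
 (TT.n (TT.l (Ty.skip))
 (TT.l (Ty.relL (nat_lit 2) [nat_lit 5, nat_lit 2, nat_lit 1, nat_lit 2, nat_lit 5, nat_lit 2]))))
 (TT.n (TT.n (TT.l (Ty.rel1 (nat_lit 1)))
 (TT.l (Ty.relL (nat_lit 2) [nat_lit 6, nat_lit 2, nat_lit 5, nat_lit 1, nat_lit 2, nat_lit 7, nat_lit 2])))
 (TT.l (Ty.rel3 (nat_lit 3) (nat_lit 1) (nat_lit 3)))))
 (TT.n (TT.n (TT.n (TT.l (Ty.rel3 (nat_lit 4) (nat_lit 0) (nat_lit 4)))
 (TT.l (Ty.rel3 (nat_lit 5) (nat_lit 1) (nat_lit 5))))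
 (TT.l (Ty.relL (nat_lit 2) [nat_lit 1, nat_lit 2, nat_lit 1, nat_lit 2, nat_lit 1, nat_lit 0, nat_lit 2])))
 (TT.n (TT.n (TT.l (Ty.dfn))
 (TT.l (Ty.relL (nat_lit 2) [nat_lit 1, nat_lit 0, nat_lit 2, nat_lit 1, nat_lit 2, nat_lit 1, nat_lit 2])))
 (TT.l (Ty.rel3 (nat_lit 7) (nat_lit 7) (nat_lit 0))))))
noncomputable def ty2 : TT := (TT.n (TT.n (TT.n (TT.l (Ty.ssub [] []))
 (TT.l (Ty.skip)))
 (TT.l (Ty.dfn)))
 (TT.n (TT.n (TT.l (Ty.rel1 (nat_lit 2)))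
 (TT.l (Ty.relL (nat_lit 5) [nat_lit 2, nat_lit 5, nat_lit 2, nat_lit 0, nat_lit 5, nat_lit 2, nat_lit 5])))
 (TT.l (Ty.rel5 (nat_lit 3) (nat_lit 2) (nat_lit 3) (nat_lit 2) (nat_lit 3)))))
noncomputable def ty3 : TT := (TT.n (TT.n (TT.n (TT.l (Ty.ssub [] []))
 (TT.l (Ty.skip)))
 (TT.n (TT.l (Ty.rel1 (nat_lit 3)))
 (TT.l (Ty.relL (nat_lit 4) [nat_lit 2, nat_lit 7, nat_lit 2, nat_lit 4, nat_lit 2, nat_lit 6, nat_lit 2, nat_lit 4, nat_lit 6, nat_lit 2, nat_lit 6, nat_lit 2]))))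
 (TT.n (TT.n (TT.l (Ty.rel3 (nat_lit 4) (nat_lit 3) (nat_lit 4)))
 (TT.l (Ty.relL (nat_lit 2) [nat_lit 1, nat_lit 2, nat_lit 4, nat_lit 2, nat_lit 5, nat_lit 2, nat_lit 4, nat_lit 2, nat_lit 1, nat_lit 2])))
 (TT.l (Ty.dfn))))
noncomputable def ty4 : TT := (TT.n (TT.n (TT.l (Ty.rel1 (nat_lit 4)))
 (TT.l (Ty.skip)))
 (TT.n (TT.l (Ty.dfn))
 (TT.l (Ty.relL (nat_lit 2) [nat_lit 1, nat_lit 2, nat_lit 4, nat_lit 2, nat_lit 1, nat_lit 2, nat_lit 4, nat_lit 2, nat_lit 1, nat_lit 2]))))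
noncomputable def ty5 : TT := (TT.n (TT.n (TT.n (TT.n (TT.l (Ty.ssub [] []))
 (TT.l (Ty.relL (nat_lit 1) [nat_lit 7, nat_lit 5, nat_lit 6])))
 (TT.l (Ty.rel1 (nat_lit 5))))
 (TT.n (TT.l (Ty.relL (nat_lit 2) [nat_lit 4, nat_lit 2, nat_lit 1, nat_lit 2, nat_lit 3, nat_lit 2, nat_lit 1, nat_lit 2, nat_lit 4, nat_lit 2]))
 (TT.l (Ty.dfn))))
 (TT.n (TT.n (TT.n (TT.l (Ty.rel3 (nat_lit 4) (nat_lit 5) (nat_lit 4)))
 (TT.l (Ty.relL (nat_lit 6) [nat_lit 5, nat_lit 1, nat_lit 7])))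
 (TT.l (Ty.rel5 (nat_lit 3) (nat_lit 5) (nat_lit 1) (nat_lit 0) (nat_lit 3))))
 (TT.n (TT.l (Ty.skip))
 (TT.l (Ty.rel3 (nat_lit 1) (nat_lit 5) (nat_lit 1))))))
noncomputable def ty6 : TT := (TT.n (TT.n (TT.n (TT.n (TT.l (Ty.ssub [] []))
 (TT.l (Ty.relL (nat_lit 2) [nat_lit 6, nat_lit 2, nat_lit 3, nat_lit 4, nat_lit 2, nat_lit 7, nat_lit 2, nat_lit 4, nat_lit 2, nat_lit 6, nat_lit 2, nat_lit 4])))
 (TT.l (Ty.rel3 (nat_lit 1) (nat_lit 0) (nat_lit 6))))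
 (TT.n (TT.l (Ty.rel1 (nat_lit 7)))
 (TT.l (Ty.srel [nat_lit 1, nat_lit 0, nat_lit 6]))))
 (TT.n (TT.n (TT.l (Ty.relL (nat_lit 4) [nat_lit 3, nat_lit 7, nat_lit 4]))
 (TT.l (Ty.dfn)))
 (TT.n (TT.l (Ty.skip))
 (TT.l (Ty.rel3 (nat_lit 6) (nat_lit 1) (nat_lit 0))))))
noncomputable def ty7 : TT := (TT.n (TT.n (TT.n (TT.l (Ty.rel1 (nat_lit 6)))
 (TT.l (Ty.srel [nat_lit 7, nat_lit 0, nat_lit 1])))
 (TT.l (Ty.dfn)))
 (TT.n (TT.n (TT.l (Ty.skip))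
 (TT.l (Ty.relL (nat_lit 5) [nat_lit 6, nat_lit 1, nat_lit 5])))
 (TT.l (Ty.rel3 (nat_lit 0) (nat_lit 1) (nat_lit 7)))))
noncomputable def ty8 : TT := (TT.n (TT.n (TT.l (Ty.skip))
 (TT.l (Ty.relL (nat_lit 2) [nat_lit 3, nat_lit 7, nat_lit 2, nat_lit 6, nat_lit 2, nat_lit 3, nat_lit 7, nat_lit 2, nat_lit 6])))
 (TT.l (Ty.relL (nat_lit 5) [nat_lit 2, nat_lit 5, nat_lit 2, nat_lit 5, nat_lit 2, nat_lit 5, nat_lit 2, nat_lit 0])))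
noncomputable def C : Cert where
  tabs := [tab0, tab1, tab2, tab3, tab4, tab5, tab6, tab7, tab8, tab9, tab10, tab11, tab12, tab13, tab14, tab15, tab16, tab17, tab18]
  tts := [ty0, ty1, ty2, ty3, ty4, ty5, ty6, ty7, ty8]
  k := nat_lit 6
  base := nat_lit 13
  mJ := nat_lit 64
  mR := nat_lit 63
  W := nat_lit 18
  mA := nat_lit 8191
  mI := nat_lit 127
  S := nat_lit 13
  mC := nat_lit 31
  nc := nat_lit 8
  lo := nat_lit 64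
  live := nat_lit 65
  hi1 := nat_lit 105
  AW := nat_lit 13
  mAW := nat_lit 8191
def il : List ℕ := [0, 1, 2, 3, 4, 5, 7, 6]
def rels : List (List ℕ) := [[0, 3, 0, 3],
  [0, 2, 1, 2, 1, 2, 1, 2, 1],
  [1, 3, 1, 3],
  [2, 3, 2, 3, 2, 3],
  [0, 5, 0, 5],
  [1, 5, 1, 5],
  [2, 1, 2, 5, 2, 1, 2, 5],
  [5, 2, 5, 2, 5, 2, 5, 2, 0],
  [3, 5, 3, 5, 1, 0],
  [4, 0, 4, 1],
  [4, 3, 4, 3],
  [4, 5, 4, 5],
  [4, 2, 1, 2, 4, 2, 1, 2, 4, 2, 1, 2],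
  [4, 2, 5, 2, 4, 2, 1, 2, 3, 2, 1, 2],
  [4, 2, 4, 2, 4, 2, 4, 2, 4, 2, 4, 2, 4, 2, 4, 2],
  [6, 6, 1, 0],
  [7, 0, 6, 0],
  [7, 1, 6, 1],
  [7, 3, 6, 3],
  [2, 3, 7, 2, 6, 2, 3, 7, 2, 6],
  [7, 4, 6, 4, 3],
  [7, 5, 6, 5, 1],
  [7, 2, 5, 2, 6, 2, 5, 2, 0],
  [7, 2, 1, 2, 6, 2, 5, 1, 2],
  [4, 2, 7, 2, 4, 2, 6, 2, 4, 3, 2, 7, 2, 7]]
def subs : List (List ℕ) := [[0],
  [1],
  [2],
  [3],
  [5],
  [6]]
theorem valid : C.valid il rels subs = true := by decide +kernel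
theorem p0 : C.OkR 64 106 := C.okR_of 64 0 42 106 (by decide) (by decide +kernel)
def ws : List (List ℕ) := [[4]]
theorem words {G : Type*} [Group G] (ev : ℕ → G) (H : Subgroup G)
    (hinv : ∀ x < 8, ev (il.getD x 0) = (ev x)⁻¹) (hr : ∀ r ∈ rels, evw ev r = 1)
    (hs : ∀ s ∈ subs, evw ev s ∈ H) : ∀ w ∈ ws, evw ev w ∈ H :=
  C.words' il rels subs 8 ws valid (p0) (by decide) (by decide +kernel) ev H hinv hr hs
end CfH3.ThTcV2
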