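import Cfsg.Agent.OD.Pre
import Cfsg.Agent.H6.TCTop
import Cfsg.Agent.H6.TCPart
/-! coset enumeration certificate; generators a c d e w x u ; index 1 -/
set_option autoImplicit false
set_option maxRecDepth 100000
set_option Elab.async false
set_option linter.all false
namespace CfH3.ThTcV3
open CfH6
noncomputable def tab0 : Tr := (Tr.l (nat_lit 0xac6b17ffc5fff17ffc5fff5b5a85fff17ffc5fff17ffd6be717ffc5fff17ffc5fff17ffd4ada49f6488d717ffc5fff3a1745fff17ffd02ce17ffc5fff17ffc5fff17ffc5fff17ffce35617ffc5fff17ffcc34517ffc5fff17ffc834617ffca3442110c62c217ffc20c0))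
noncomputable def tab1 : Tr := (Tr.l (nat_lit 0xec6b2fffcbfff1b3b9ac692fffdabe862d90bfff591946be74b18144582fffc6ce320d4d28d94276883522fffc6a5d1a578bfff20b38bfff2fffcbfff18f7c63dc2fffcbfff2fffc63572fffcbfff2fffc44ca38d10c4c82fffcbfff10d14bfff2070862431070420c0))
noncomputable def tab2 : Tr := (Tr.l (nat_lit 0xbfff18f98bfff2fffc63e318f8463e018f74446d18d686359111a8bfff2fffc44682fffcbfff1119cbfff18b3c43e510f90c6512fffcbfff18b3462cc18b2c62ca11b60bfff10d6c624510d54bfff10d4cbfff20f2462432fffcbfff10b3882c410b2061411070820c0))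
noncomputable def tab3 : Tr := (Tr.l (nat_lit 0x84674bbb0bfff20f90bfff2fffcbfff193b8bfff2fffc646b2fffcbfff2fffcbfff2fffcbfff2fffcbfff2fffcbfff2fffcbfff2fffcbfff2fffcbfff2fffcbfff10f28bfff2fffcbfff40d1ce34610d14bfff2090cc34818f34bfff2fffc81c218b2462441070420c0))
noncomputable def tab4 : Tr := (Tr.l (nat_lit 0x7fff0bfac43e43bdb47fff1fffc7fff1fffc7fff1fffc246c1fffc7fff1fffc7fff1fffc7fff1fffc7fff1fffc7fff1fffc7fff1fffc7fff1fffc7fff1fffc7fff10b24c3cd28f307fff1fffc244f10910424308d4483481fffc7fff1070822cb08b282245103002141))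
noncomputable def tab5 : Tr := (Tr.l (nat_lit 0xdfff37ffcdfff37ffcdfff37ffcdfff37ffcdfff37ffcdfff521750357523652ada21970dfff2a38ca6df37ffcab6037ffd02ce28f88dfff37ffcdfff19548a5d31172cdfff37ffca35837ffcdfff29944dfff39310dfff37ffcdfff10b14a54920b0c62421070420c0))
noncomputable def tab6 : Tr := (Tr.l (nat_lit 0xffff3fffd46ea3fffd2dec3fffcffff3fffcffff3fffcffff28d60ffff28d4c6be23fffca35241f5cffff18f98a2ce1a170ffff3fffcffff3fffcffff18f8063dd3fffca2452152863592891083c93fffcffff3fffcc34828708834318b3c62cc1951c62461070420c0))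
noncomputable def tab7 : Tr := (Tr.l (nat_lit 0x9fff27ffc2e6a27ffc9fff27ffc9fff27ffc435b27ffc9fff27ffceb6027ffc435327ffc9fff10d48c7d927ffc695c10b3823e30a1749fff297509fff08f8423de27ffc9fff10914235a27ffc424427ffc25cf27ffc23c81930c41c208b4022cd08f182247089042140))
noncomputable def tab8 : Tr := (Tr.l (nat_lit 0x3fff0fffc3fff0fffc3fff0fffc3fff1c1903fff0fffc3fff0fffc3fff0fffc3fff0fffc3fff9c3643fff0fffc3fff0fffc3fff0fffc47520fffc3fff0fffe514e0fffc3fff0fffc3fff0fffc3fff0fffe31c50fffe12c10fffc3fff0fffc3fff7c9083fff74d003fff))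
noncomputable def tab9 : Tr := (Tr.l (nat_lit 0x32432222722656716712675102222467267443267431240))
noncomputable def tab10 : Tr := (Tr.l (nat_lit 0))
noncomputable def tab11 : Tr := (Tr.l (nat_lit 0))
noncomputable def tab12 : Tr := (Tr.l (nat_lit 0))
noncomputable def tab13 : Tr := (Tr.l (nat_lit 0))
noncomputable def tab14 : Tr := (Tr.l (nat_lit 0))
noncomputable def tab15 : Tr := (Tr.l (nat_lit 0))
noncomputable def tab16 : Tr := (Tr.l (nat_lit 0))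
noncomputable def tab17 : Tr := (Tr.l (nat_lit 0))
noncomputable def tab18 : Tr := (Tr.l (nat_lit 0x3385747a41430a509204))
noncomputable def ty0 : TT := (TT.n (TT.n (TT.n (TT.n (TT.l (Ty.ssub [] []))
 (TT.l (Ty.srel [nat_lit 7, nat_lit 0, nat_lit 6])))
 (TT.l (Ty.rel3 (nat_lit 3) (nat_lit 0) (nat_lit 3))))
 (TT.n (TT.n (TT.l (Ty.relL (nat_lit 5) [nat_lit 2, nat_lit 5, nat_lit 2, nat_lit 5, nat_lit 2, nat_lit 5, nat_lit 2]))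
 (TT.l (Ty.relL (nat_lit 2) [nat_lit 1, nat_lit 2, nat_lit 1, nat_lit 2, nat_lit 1, nat_lit 2, nat_lit 1])))
 (TT.l (Ty.rel1 (nat_lit 0)))))
 (TT.n (TT.n (TT.n (TT.l (Ty.skip))
 (TT.l (Ty.rel3 (nat_lit 1) (nat_lit 7) (nat_lit 7))))
 (TT.l (Ty.rel3 (nat_lit 4) (nat_lit 1) (nat_lit 4))))
 (TT.n (TT.l (Ty.rel3 (nat_lit 7) (nat_lit 0) (nat_lit 6)))
 (TT.l (Ty.dfn)))))
noncomputable def ty1 : TT := (TT.n (TT.n (TT.n (TT.n (TT.l (Ty.ssub [] []))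
 (TT.l (Ty.rel3 (nat_lit 6) (nat_lit 1) (nat_lit 7))))
 (TT.n (TT.l (Ty.skip))
 (TT.l (Ty.relL (nat_lit 2) [nat_lit 5, nat_lit 2, nat_lit 1, nat_lit 2, nat_lit 5, nat_lit 2]))))
 (TT.n (TT.n (TT.l (Ty.rel1 (nat_lit 1)))
 (TT.l (Ty.relL (nat_lit 2) [nat_lit 6, nat_lit 2, nat_lit 5, nat_lit 1, nat_lit 2, nat_lit 7, nat_lit 2])))
 (TT.l (Ty.rel3 (nat_lit 3) (nat_lit 1) (nat_lit 3)))))
 (TT.n (TT.n (TT.n (TT.l (Ty.rel3 (nat_lit 4) (nat_lit 0) (nat_lit 4)))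
 (TT.l (Ty.rel3 (nat_lit 5) (nat_lit 1) (nat_lit 5))))
 (TT.l (Ty.relL (nat_lit 2) [nat_lit 1, nat_lit 2, nat_lit 1, nat_lit 2, nat_lit 1, nat_lit 0, nat_lit 2])))
 (TT.n (TT.n (TT.l (Ty.dfn))
 (TT.l (Ty.relL (nat_lit 2) [nat_lit 1, nat_lit 0, nat_lit 2, nat_lit 1, nat_lit 2, nat_lit 1, nat_lit 2])))
 (TT.l (Ty.rel3 (nat_lit 7) (nat_lit 7) (nat_lit 0))))))
noncomputable def ty2 : TT := (TT.n (TT.n (TT.n (TT.l (Ty.ssub [] []))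
 (TT.l (Ty.skip)))
 (TT.l (Ty.dfn)))
 (TT.n (TT.n (TT.l (Ty.rel1 (nat_lit 2)))
 (TT.l (Ty.relL (nat_lit 5) [nat_lit 2, nat_lit 5, nat_lit 2, nat_lit 0, nat_lit 5, nat_lit 2, nat_lit 5])))
 (TT.l (Ty.rel5 (nat_lit 3) (nat_lit 2) (nat_lit 3) (nat_lit 2) (nat_lit 3)))))
noncomputable def ty3 : TT := (TT.n (TT.n (TT.n (TT.n (TT.l (Ty.ssub [] []))
 (TT.l (Ty.relL (nat_lit 7) [nat_lit 2, nat_lit 6, nat_lit 2, nat_lit 3, nat_lit 7, nat_lit 2, nat_lit 6, nat_lit 2])))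
 (TT.l (Ty.skip)))
 (TT.n (TT.l (Ty.rel1 (nat_lit 3)))
 (TT.l (Ty.rel3 (nat_lit 7) (nat_lit 3) (nat_lit 6)))))
 (TT.n (TT.n (TT.l (Ty.rel3 (nat_lit 4) (nat_lit 3) (nat_lit 4)))
 (TT.l (Ty.relL (nat_lit 2) [nat_lit 1, nat_lit 2, nat_lit 4, nat_lit 2, nat_lit 5, nat_lit 2, nat_lit 4, nat_lit 2, nat_lit 1, nat_lit 2])))
 (TT.n (TT.l (Ty.dfn))
 (TT.l (Ty.rel3 (nat_lit 6) (nat_lit 3) (nat_lit 7))))))
noncomputable def ty4 : TT := (TT.n (TT.n (TT.n (TT.l (Ty.rel1 (nat_lit 4)))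
 (TT.l (Ty.relL (nat_lit 3) [nat_lit 7, nat_lit 4, nat_lit 6])))
 (TT.n (TT.l (Ty.skip))
 (TT.l (Ty.rel3 (nat_lit 3) (nat_lit 4) (nat_lit 3)))))
 (TT.n (TT.n (TT.l (Ty.dfn))
 (TT.l (Ty.relL (nat_lit 6) [nat_lit 4, nat_lit 3, nat_lit 7])))
 (TT.l (Ty.relL (nat_lit 2) [nat_lit 1, nat_lit 2, nat_lit 4, nat_lit 2, nat_lit 1, nat_lit 2, nat_lit 4, nat_lit 2, nat_lit 1, nat_lit 2]))))
noncomputable def ty5 : TT := (TT.n (TT.n (TT.n (TT.n (TT.l (Ty.ssub [] []))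
 (TT.l (Ty.relL (nat_lit 1) [nat_lit 7, nat_lit 5, nat_lit 6])))
 (TT.l (Ty.rel1 (nat_lit 5))))
 (TT.n (TT.l (Ty.relL (nat_lit 2) [nat_lit 4, nat_lit 2, nat_lit 1, nat_lit 2, nat_lit 3, nat_lit 2, nat_lit 1, nat_lit 2, nat_lit 4, nat_lit 2]))
 (TT.l (Ty.rel5 (nat_lit 3) (nat_lit 5) (nat_lit 1) (nat_lit 0) (nat_lit 3)))))
 (TT.n (TT.n (TT.n (TT.l (Ty.rel3 (nat_lit 4) (nat_lit 5) (nat_lit 4)))
 (TT.l (Ty.relL (nat_lit 6) [nat_lit 5, nat_lit 1, nat_lit 7])))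
 (TT.l (Ty.skip)))
 (TT.n (TT.l (Ty.rel3 (nat_lit 1) (nat_lit 5) (nat_lit 1)))
 (TT.l (Ty.dfn)))))
noncomputable def ty6 : TT := (TT.n (TT.n (TT.n (TT.n (TT.l (Ty.ssub [] []))
 (TT.l (Ty.rel3 (nat_lit 6) (nat_lit 1) (nat_lit 0))))
 (TT.l (Ty.dfn)))
 (TT.n (TT.l (Ty.rel1 (nat_lit 7)))
 (TT.l (Ty.skip))))
 (TT.n (TT.n (TT.n (TT.l (Ty.relL (nat_lit 4) [nat_lit 3, nat_lit 7, nat_lit 4]))
 (TT.l (Ty.relL (nat_lit 2) [nat_lit 6, nat_lit 2, nat_lit 3, nat_lit 1, nat_lit 0, nat_lit 1, nat_lit 4, nat_lit 2, nat_lit 7, nat_lit 2, nat_lit 4, nat_lit 2, nat_lit 6, nat_lit 2, nat_lit 4])))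
 (TT.l (Ty.relL (nat_lit 2) [nat_lit 5, nat_lit 1, nat_lit 2, nat_lit 7, nat_lit 2, nat_lit 1, nat_lit 2])))
 (TT.n (TT.l (Ty.rel3 (nat_lit 1) (nat_lit 0) (nat_lit 6)))
 (TT.l (Ty.srel [nat_lit 1, nat_lit 0, nat_lit 6])))))
noncomputable def ty7 : TT := (TT.n (TT.n (TT.n (TT.l (Ty.rel1 (nat_lit 6)))
 (TT.l (Ty.relL (nat_lit 2) [nat_lit 6, nat_lit 3, nat_lit 2, nat_lit 7, nat_lit 2, nat_lit 6, nat_lit 3, nat_lit 2])))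
 (TT.n (TT.l (Ty.rel3 (nat_lit 0) (nat_lit 1) (nat_lit 7)))
 (TT.l (Ty.relL (nat_lit 5) [nat_lit 6, nat_lit 1, nat_lit 5]))))
 (TT.n (TT.n (TT.l (Ty.dfn))
 (TT.l (Ty.srel [nat_lit 7, nat_lit 0, nat_lit 1])))
 (TT.l (Ty.skip))))
noncomputable def ty8 : TT := (TT.n (TT.n (TT.l (Ty.skip))
 (TT.l (Ty.relL (nat_lit 2) [nat_lit 7, nat_lit 2, nat_lit 7, nat_lit 4, nat_lit 2, nat_lit 7, nat_lit 2, nat_lit 4, nat_lit 2, nat_lit 6, nat_lit 2, nat_lit 4, nat_lit 1, nat_lit 0, nat_lit 1, nat_lit 3])))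
 (TT.l (Ty.relL (nat_lit 5) [nat_lit 2, nat_lit 5, nat_lit 2, nat_lit 5, nat_lit 2, nat_lit 5, nat_lit 2, nat_lit 0])))
noncomputable def C : Cert where
  tabs := [tab0, tab1, tab2, tab3, tab4, tab5, tab6, tab7, tab8, tab9, tab10, tab11, tab12, tab13, tab14, tab15, tab16, tab17, tab18]
  tts := [ty0, ty1, ty2, ty3, ty4, ty5, ty6, ty7, ty8]
  k := nat_lit 6
  base := nat_lit 13
  mJ := nat_lit 64
  mR := nat_lit 63
  W := nat_lit 18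
  mA := nat_lit 8191
  mI := nat_lit 127
  S := nat_lit 13
  mC := nat_lit 31
  nc := nat_lit 8
  lo := nat_lit 64
  live := nat_lit 65
  hi1 := nat_lit 110
  AW := nat_lit 13
  mAW := nat_lit 8191
def il : List ℕ := [0, 1, 2, 3, 4, 5, 7, 6]
def rels : List (List ℕ) := [[0, 3, 0, 3],
  [0, 2, 1, 2, 1, 2, 1, 2, 1],
  [1, 3, 1, 3],
  [2, 3, 2, 3, 2, 3],
  [0, 5, 0, 5],
  [1, 5, 1, 5],
  [2, 1, 2, 5, 2, 1, 2, 5],
  [5, 2, 5, 2, 5, 2, 5, 2, 0],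
  [3, 5, 3, 5, 1, 0],
  [4, 0, 4, 1],
  [4, 3, 4, 3],
  [4, 5, 4, 5],
  [4, 2, 1, 2, 4, 2, 1, 2, 4, 2, 1, 2],
  [4, 2, 5, 2, 4, 2, 1, 2, 3, 2, 1, 2],
  [4, 2, 4, 2, 4, 2, 4, 2, 4, 2, 4, 2, 4, 2, 4, 2],
  [6, 6, 1, 0],
  [7, 0, 6, 0],
  [7, 1, 6, 1],
  [7, 3, 6, 3],
  [2, 3, 7, 2, 6, 2, 3, 7, 2, 6],
  [7, 4, 6, 4, 3],
  [7, 5, 6, 5, 1],
  [7, 2, 5, 2, 6, 2, 5, 2, 0],
  [7, 2, 1, 2, 6, 2, 5, 1, 2],
  [4, 2, 7, 2, 4, 2, 6, 2, 4, 1, 0, 1, 3, 2, 7, 2, 7]]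
def subs : List (List ℕ) := [[0],
  [1],
  [2],
  [3],
  [5],
  [6]]
theorem valid : C.valid il rels subs = true := by decide +kernel
theorem p0 : C.OkR 64 111 := C.okR_of 64 0 47 111 (by decide) (by decide +kernel)
def ws : List (List ℕ) := [[4]]
theorem words {G : Type*} [Group G] (ev : ℕ → G) (H : Subgroup G)
    (hinv : ∀ x < 8, ev (il.getD x 0) = (ev x)⁻¹) (hr : ∀ r ∈ rels, evw ev r = 1)
    (hs : ∀ s ∈ subs, evw ev s ∈ H) : ∀ w ∈ ws, evw ev w ∈ H :=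
  C.words' il rels subs 8 ws valid (p0) (by decide) (by decide +kernel) ev H hinv hr hs
end CfH3.ThTcV3
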