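import Cfsg.Agent.OD.Pre
import Cfsg.Agent.H6.TCTop
import Cfsg.Agent.H6.TCPart
/-! coset enumeration certificate; generators a c d e w x u ; index 1 -/
set_option autoImplicit false
set_option maxRecDepth 100000
set_option Elab.async false
set_option linter.all false
namespace CfH3.ThTcV4
open CfH6
noncomputable def tab0 : Tr := (Tr.l (nat_lit 0x17ffc5fff17ffc5fff17ffccdeb535b05fff17ffc5fff17ffc5fff17ffc5fff17ffc5fff17ffc5fff4ab6907d92235c5fff17ffc5fff321785fff17ffce2cd17ffc5fff17ffc5fff17ffc5fff17ffc5fff30d585fff17ffc5fff28d145fff17ffc834617ffc5fff2110c62c217ffc20c0))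
noncomputable def tab1 : Tr := (Tr.l (nat_lit 0x2fffcbfff2fffcbfff2fffdcc6b1b3b1cbea6ad94bfff2fffd84661afa54c6159160bfff1b39083535236529da20d48bfff2fffc6a5e1a57cbfff20b34bfff2fffcbfff18f8063dd2fffcbfff2fffd03ce18d5cbfff2fffcbfff2fffce3443131cbfff10d1463c82070862431070420c0))
noncomputable def tab2 : Tr := (Tr.l (nat_lit 0x18fa063e72fffcbfff2fffc63e418f8863e118f784471111c0635a18d64446c2fffcbfff111a8bfff2fffc44692fffc62d018b3c43e610f94c6512fffcbfff18b3062cb18b2862c911b60435c10d6cbfff1891443552fffc43532fffc83c81890cbfff10b3482c410b1c61411070820c0))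
noncomputable def tab3 : Tr := (Tr.l (nat_lit 0x2fffd0f6e3c3c4bfff20f94bfff2fffcbfff2fffcbfff2fffcbfff191b4bfff2fffcbfff2fffcbfff2fffcbfff2fffcbfff2fffcbfff2fffcbfff2fffcbfff2fffcbfff2fffcbfff2fffc444e2fffc64d02fffcbfff38d1843452fffc824330d1cbfff2fffc81c218b2062441070420c0))
noncomputable def tab4 : Tr := (Tr.l (nat_lit 0x41bb09fff27ffc43e53bfc09fff27ffc9fff27ffc9fff27ffc9fff091b89fff27ffc9fff27ffc9fff27ffc9fff27ffc9fff27ffc9fff27ffc9fff27ffc9fff27ffc9fff27ffc9fff10b20424630f30a3cb27ffc9fff0913842441090c235118d1c22d01070822ca08b242245103002141))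
noncomputable def tab5 : Tr := (Tr.l (nat_lit 0x37ffcdfff37ffcdfff37ffcdfff37ffcdfff37ffcdfff37ffcdfff37ffd485e48d5d48d942b68865d37ffca8e429b80dfff37ffcab6137ffd22cd28f8cdfff37ffcdfff19548a5d311728dfff37ffd044e28d60dfff37ffca65137ffce4c437ffcdfff10b14a54820b0c62421070420c0))
noncomputable def tab6 : Tr := (Tr.l (nat_lit 0x27ffc9fff27ffd64eb27ffc9fff539b89fff27ffce35c27ffc9fff191bce35827ffce3531af8c9fff38d4927d727ffc9fff18f9ce2cd1a1749fff27ffc9fff40f509fff18f8463de27ffc9fff389149fff18d64e24427ffc9fff27ffc9fff30d1ca34318b3862cb27ffc62461070420c0))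
noncomputable def tab7 : Tr := (Tr.l (nat_lit 0x3c1b45fff18f942eeb17ffc5fff095b85fff17ffc5fff18d6c5fff17ffc5fff32d845fff18d4c5fff17ffc635229f6423e817ffc895d18b3423e40a1785fff17ffc5fff08f8823df17ffc5fff17ffc624508d685fff189105fff17ffc5fff08f1c61c208b3c22cc08f185fff089042140))
noncomputable def tab8 : Tr := (Tr.l (nat_lit 0xfffc3fff0fffc3fff0fffc716b0fffc3fff0fffc3fff0fffc3fff0fffeb1e20fffc3fff0fffc3fff0fffe92590fffc3fff0fffc3fff0fffc3fff0fffc47520fffc3fff0fffe72cd0fffc3fff0fffc3fff0fffc3fff0fffc3fff94d143fff8d1043fff0fffc3fff84f083fff7d3003fff))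
noncomputable def tab9 : Tr := (Tr.l (nat_lit 0x22743222267226567167122675102222446726744327431240))
noncomputable def tab10 : Tr := (Tr.l (nat_lit 0))
noncomputable def tab11 : Tr := (Tr.l (nat_lit 0))
noncomputable def tab12 : Tr := (Tr.l (nat_lit 0))
noncomputable def tab13 : Tr := (Tr.l (nat_lit 0))
noncomputable def tab14 : Tr := (Tr.l (nat_lit 0))
noncomputable def tab15 : Tr := (Tr.l (nat_lit 0))
noncomputable def tab16 : Tr := (Tr.l (nat_lit 0))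
noncomputable def tab17 : Tr := (Tr.l (nat_lit 0))
noncomputable def tab18 : Tr := (Tr.l (nat_lit 0x6c0b20b787a41430a4891c4))
noncomputable def ty0 : TT := (TT.n (TT.n (TT.n (TT.n (TT.l (Ty.ssub [] []))
 (TT.l (Ty.rel3 (nat_lit 1) (nat_lit 7) (nat_lit 7))))
 (TT.l (Ty.rel3 (nat_lit 4) (nat_lit 1) (nat_lit 4))))
 (TT.n (TT.l (Ty.relL (nat_lit 5) [nat_lit 2, nat_lit 5, nat_lit 2, nat_lit 5, nat_lit 2, nat_lit 5, nat_lit 2]))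
 (TT.l (Ty.dfn))))
 (TT.n (TT.n (TT.n (TT.l (Ty.skip))
 (TT.l (Ty.relL (nat_lit 2) [nat_lit 1, nat_lit 2, nat_lit 1, nat_lit 2, nat_lit 1, nat_lit 2, nat_lit 1])))
 (TT.l (Ty.rel1 (nat_lit 0))))
 (TT.n (TT.l (Ty.rel3 (nat_lit 7) (nat_lit 0) (nat_lit 6)))
 (TT.l (Ty.srel [nat_lit 7, nat_lit 0, nat_lit 6])))))
noncomputable def ty1 : TT := (TT.n (TT.n (TT.n (TT.n (TT.l (Ty.ssub [] []))
 (TT.l (Ty.rel3 (nat_lit 7) (nat_lit 7) (nat_lit 0))))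
 (TT.n (TT.l (Ty.skip))
 (TT.l (Ty.relL (nat_lit 2) [nat_lit 1, nat_lit 0, nat_lit 2, nat_lit 1, nat_lit 2, nat_lit 1, nat_lit 2]))))
 (TT.n (TT.n (TT.l (Ty.rel1 (nat_lit 1)))
 (TT.l (Ty.rel3 (nat_lit 5) (nat_lit 1) (nat_lit 5))))
 (TT.l (Ty.rel3 (nat_lit 3) (nat_lit 1) (nat_lit 3)))))
 (TT.n (TT.n (TT.n (TT.l (Ty.rel3 (nat_lit 4) (nat_lit 0) (nat_lit 4)))
 (TT.l (Ty.rel3 (nat_lit 6) (nat_lit 1) (nat_lit 7))))
 (TT.n (TT.l (Ty.relL (nat_lit 2) [nat_lit 1, nat_lit 2, nat_lit 1, nat_lit 2, nat_lit 1, nat_lit 0, nat_lit 2]))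
 (TT.l (Ty.relL (nat_lit 2) [nat_lit 5, nat_lit 2, nat_lit 1, nat_lit 2, nat_lit 5, nat_lit 2]))))
 (TT.n (TT.n (TT.l (Ty.dfn))
 (TT.l (Ty.relL (nat_lit 2) [nat_lit 6, nat_lit 2, nat_lit 5, nat_lit 1, nat_lit 2, nat_lit 7, nat_lit 2])))
 (TT.l (Ty.rel3 (nat_lit 7) (nat_lit 1) (nat_lit 6))))))
noncomputable def ty2 : TT := (TT.n (TT.n (TT.n (TT.l (Ty.ssub [] []))
 (TT.l (Ty.skip)))
 (TT.l (Ty.dfn)))
 (TT.n (TT.n (TT.l (Ty.rel1 (nat_lit 2)))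
 (TT.l (Ty.relL (nat_lit 5) [nat_lit 2, nat_lit 5, nat_lit 2, nat_lit 0, nat_lit 5, nat_lit 2, nat_lit 5])))
 (TT.l (Ty.rel5 (nat_lit 3) (nat_lit 2) (nat_lit 3) (nat_lit 2) (nat_lit 3)))))
noncomputable def ty3 : TT := (TT.n (TT.n (TT.n (TT.l (Ty.ssub [] []))
 (TT.l (Ty.skip)))
 (TT.n (TT.l (Ty.rel1 (nat_lit 3)))
 (TT.l (Ty.rel3 (nat_lit 7) (nat_lit 3) (nat_lit 6)))))
 (TT.n (TT.n (TT.l (Ty.rel3 (nat_lit 4) (nat_lit 3) (nat_lit 4)))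
 (TT.l (Ty.relL (nat_lit 2) [nat_lit 1, nat_lit 2, nat_lit 4, nat_lit 2, nat_lit 5, nat_lit 2, nat_lit 4, nat_lit 2, nat_lit 1, nat_lit 2])))
 (TT.n (TT.l (Ty.dfn))
 (TT.l (Ty.relL (nat_lit 7) [nat_lit 2, nat_lit 6, nat_lit 2, nat_lit 3, nat_lit 7, nat_lit 2, nat_lit 6, nat_lit 2])))))
noncomputable def ty4 : TT := (TT.n (TT.n (TT.n (TT.l (Ty.rel1 (nat_lit 4)))
 (TT.l (Ty.relL (nat_lit 3) [nat_lit 7, nat_lit 4, nat_lit 6])))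
 (TT.n (TT.l (Ty.relL (nat_lit 2) [nat_lit 1, nat_lit 2, nat_lit 4, nat_lit 2, nat_lit 1, nat_lit 2, nat_lit 4, nat_lit 2, nat_lit 1, nat_lit 2]))
 (TT.l (Ty.rel3 (nat_lit 3) (nat_lit 4) (nat_lit 3)))))
 (TT.n (TT.n (TT.l (Ty.dfn))
 (TT.l (Ty.relL (nat_lit 6) [nat_lit 4, nat_lit 3, nat_lit 7])))
 (TT.n (TT.l (Ty.skip))
 (TT.l (Ty.relL (nat_lit 2) [nat_lit 6, nat_lit 2, nat_lit 4, nat_lit 5, nat_lit 1, nat_lit 3, nat_lit 2, nat_lit 7, nat_lit 2, nat_lit 7, nat_lit 4, nat_lit 2, nat_lit 7, nat_lit 2])))))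
noncomputable def ty5 : TT := (TT.n (TT.n (TT.n (TT.n (TT.l (Ty.ssub [] []))
 (TT.l (Ty.dfn)))
 (TT.l (Ty.rel1 (nat_lit 5))))
 (TT.n (TT.l (Ty.relL (nat_lit 2) [nat_lit 4, nat_lit 2, nat_lit 1, nat_lit 2, nat_lit 3, nat_lit 2, nat_lit 1, nat_lit 2, nat_lit 4, nat_lit 2]))
 (TT.l (Ty.rel5 (nat_lit 3) (nat_lit 5) (nat_lit 1) (nat_lit 0) (nat_lit 3)))))
 (TT.n (TT.n (TT.n (TT.l (Ty.rel3 (nat_lit 4) (nat_lit 5) (nat_lit 4)))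
 (TT.l (Ty.relL (nat_lit 6) [nat_lit 5, nat_lit 1, nat_lit 7])))
 (TT.l (Ty.skip)))
 (TT.n (TT.l (Ty.rel3 (nat_lit 1) (nat_lit 5) (nat_lit 1)))
 (TT.l (Ty.relL (nat_lit 1) [nat_lit 7, nat_lit 5, nat_lit 6])))))
noncomputable def ty6 : TT := (TT.n (TT.n (TT.n (TT.n (TT.l (Ty.ssub [] []))
 (TT.l (Ty.srel [nat_lit 1, nat_lit 0, nat_lit 6])))
 (TT.l (Ty.rel3 (nat_lit 1) (nat_lit 0) (nat_lit 6))))
 (TT.n (TT.n (TT.l (Ty.rel1 (nat_lit 7)))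
 (TT.l (Ty.relL (nat_lit 2) [nat_lit 6, nat_lit 2, nat_lit 3, nat_lit 1, nat_lit 5, nat_lit 4, nat_lit 2, nat_lit 7, nat_lit 2, nat_lit 4, nat_lit 2, nat_lit 6, nat_lit 2, nat_lit 4])))
 (TT.l (Ty.dfn))))
 (TT.n (TT.n (TT.n (TT.l (Ty.relL (nat_lit 4) [nat_lit 3, nat_lit 7, nat_lit 4]))
 (TT.l (Ty.rel3 (nat_lit 6) (nat_lit 1) (nat_lit 0))))
 (TT.l (Ty.relL (nat_lit 2) [nat_lit 5, nat_lit 1, nat_lit 2, nat_lit 7, nat_lit 2, nat_lit 1, nat_lit 2])))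
 (TT.n (TT.l (Ty.skip))
 (TT.l (Ty.relL (nat_lit 2) [nat_lit 3, nat_lit 7, nat_lit 2, nat_lit 6, nat_lit 2, nat_lit 3, nat_lit 7, nat_lit 2])))))
noncomputable def ty7 : TT := (TT.n (TT.n (TT.n (TT.l (Ty.rel1 (nat_lit 6)))
 (TT.l (Ty.srel [nat_lit 7, nat_lit 0, nat_lit 1])))
 (TT.n (TT.l (Ty.dfn))
 (TT.l (Ty.relL (nat_lit 4) [nat_lit 2, nat_lit 7, nat_lit 2, nat_lit 4, nat_lit 2, nat_lit 6, nat_lit 2, nat_lit 4, nat_lit 5, nat_lit 1, nat_lit 3, nat_lit 2, nat_lit 7, nat_lit 2]))))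
 (TT.n (TT.n (TT.l (Ty.skip))
 (TT.l (Ty.relL (nat_lit 5) [nat_lit 6, nat_lit 1, nat_lit 5])))
 (TT.l (Ty.rel3 (nat_lit 0) (nat_lit 1) (nat_lit 7)))))
noncomputable def ty8 : TT := (TT.n (TT.n (TT.l (Ty.skip))
 (TT.l (Ty.rel5 (nat_lit 7) (nat_lit 4) (nat_lit 6) (nat_lit 3) (nat_lit 4))))
 (TT.l (Ty.relL (nat_lit 5) [nat_lit 2, nat_lit 5, nat_lit 2, nat_lit 5, nat_lit 2, nat_lit 5, nat_lit 2, nat_lit 0])))
noncomputable def C : Cert where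
  tabs := [tab0, tab1, tab2, tab3, tab4, tab5, tab6, tab7, tab8, tab9, tab10, tab11, tab12, tab13, tab14, tab15, tab16, tab17, tab18]
  tts := [ty0, ty1, ty2, ty3, ty4, ty5, ty6, ty7, ty8]
  k := nat_lit 6
  base := nat_lit 14
  mJ := nat_lit 64
  mR := nat_lit 63
  W := nat_lit 18
  mA := nat_lit 8191
  mI := nat_lit 127
  S := nat_lit 13
  mC := nat_lit 31
  nc := nat_lit 8
  lo := nat_lit 64
  live := nat_lit 65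
  hi1 := nat_lit 113
  AW := nat_lit 13
  mAW := nat_lit 8191
def il : List ℕ := [0, 1, 2, 3, 4, 5, 7, 6]
def rels : List (List ℕ) := [[0, 3, 0, 3],
  [0, 2, 1, 2, 1, 2, 1, 2, 1],
  [1, 3, 1, 3],
  [2, 3, 2, 3, 2, 3],
  [0, 5, 0, 5],
  [1, 5, 1, 5],
  [2, 1, 2, 5, 2, 1, 2, 5],
  [5, 2, 5, 2, 5, 2, 5, 2, 0],
  [3, 5, 3, 5, 1, 0],
  [4, 0, 4, 1],
  [4, 3, 4, 3],
  [4, 5, 4, 5],
  [4, 2, 1, 2, 4, 2, 1, 2, 4, 2, 1, 2],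
  [4, 2, 5, 2, 4, 2, 1, 2, 3, 2, 1, 2],
  [4, 2, 4, 2, 4, 2, 4, 2, 4, 2, 4, 2, 4, 2, 4, 2],
  [6, 6, 1, 0],
  [7, 0, 6, 0],
  [7, 1, 6, 1],
  [7, 3, 6, 3],
  [2, 3, 7, 2, 6, 2, 3, 7, 2, 6],
  [7, 4, 6, 4, 3],
  [7, 5, 6, 5, 1],
  [7, 2, 5, 2, 6, 2, 5, 2, 0],
  [7, 2, 1, 2, 6, 2, 5, 1, 2],
  [4, 2, 7, 2, 4, 2, 6, 2, 4, 5, 1, 3, 2, 7, 2, 7]]
def subs : List (List ℕ) := [[0],
  [1],
  [2],
  [3],
  [5],
  [6]]
theorem valid : C.valid il rels subs = true := by decide +kernel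
theorem p0 : C.OkR 64 114 := C.okR_of 64 0 50 114 (by decide) (by decide +kernel)
def ws : List (List ℕ) := [[4]]
theorem words {G : Type*} [Group G] (ev : ℕ → G) (H : Subgroup G)
    (hinv : ∀ x < 8, ev (il.getD x 0) = (ev x)⁻¹) (hr : ∀ r ∈ rels, evw ev r = 1)
    (hs : ∀ s ∈ subs, evw ev s ∈ H) : ∀ w ∈ ws, evw ev w ∈ H :=
  C.words' il rels subs 8 ws valid (p0) (by decide) (by decide +kernel) ev H hinv hr hs
end CfH3.ThTcV4
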