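import Cfsg.Agent.OD.Pre
import Cfsg.Agent.H6.TCTop
import Cfsg.Agent.H6.TCPart
/-! coset enumeration certificate; generators a c d e w x u ; index 1 -/
set_option autoImplicit false
set_option maxRecDepth 100000
set_option Elab.async false
set_option linter.all false
namespace CfH3.ThTcV6
open CfH6
noncomputable def t0 : Tr := (Tr.n (Tr.l (nat_lit 0x17ffe2fffdad400bfff6aafc2fffc5fff8bfff17ffe2fffc5fff8bfff17ffe445bc89b70bfff3a4e42fffc5fffb577a17ffe2fffc5fff8bfff17ffe2fffc5fffa555d61eb8445645fff8bfff59ebc7417c5fff9d06317ffe2fffce9312854e17ffe2fffc5fff8bfff310962fffc5fffa484f17ffe7196103a68bfff392a661914a4a48bfff17ffe419185fff9464421086315085fff84140))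
 (Tr.l (nat_lit 0x17ffe2fffc5fff8bfff2b1022fffc5fff8bfff17ffe2fffc5fff8bfff17ffe2fffc5fff9db7d)))
noncomputable def t1 : Tr := (Tr.n (Tr.l (nat_lit 0x2fffee51ec6cc03977c2fffed59b0bfff993682fffe41984bfff97fff20cc0b55c0832f8d6722fffe4197944368d77a430cc5fffd842d97fff2fffe365ac832aa115c5a6ba4195063bb0c77318ee25fffc6a318d264192d25fffc82a717fff316aea295863b28c762114a65fffcbfff97fff48e9e3196504260c94d2fffe22528e322189482fffe5fffc43228c749206843110c41a084140))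
 (Tr.l (nat_lit 0x2fffe5fffcbfff97fff3b1025fffcbfff97fff2fffe5fffcbfff97fff2fffe5fffc6cc5b987d)))
noncomputable def t2 : Tr := (Tr.n (Tr.l (nat_lit 0x18ed431da463b38c76618eca31d8cbfff8c7621111422224444417fff2fffe22218444297fff111085fffc632e8c65c11100221fc443f0c659110fa221f0443d97fff110f4221e062a90c55118aa03153c43b68876c318a65fffcbfff97fff18a9a3153062a58c54a11ab62198443300865f10cbc31114432b8865610caa2195083a48c4432fffe5fffc42a71054410a903090441a104140))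
 (Tr.l (nat_lit 0x191067621c854097fff2fffe31ddc63bb0c7752fffe31dc863b88c76f1131e5fffc45c68c76b)))
noncomputable def t3 : Tr := (Tr.n (Tr.l (nat_lit 0x1931a5fffc64c617fff2fffe3262c83b117fff2fffe5fffcbfff906602fffe5fffcbfff97fff2fffe5fffcbfff8c8812fffe72170bfff97fff2fffe5fffcbfff97fff2fffe321e4bfff8c7742fffe5fffcbfff8c96a2fffe41538bfff97fff2fffe5fffcbfff97fff2fffe2214044278c952192a23196903239c64610c8a5fffc82219864818e9a5fffcbfff9034218a923111041a084140))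
 (Tr.l (nat_lit 0x5471c5fffc843f9087d210f45fffcbfff8e283412ea97a08bfff97fff3c3105fffc83b617fff)))
noncomputable def t4 : Tr := (Tr.n (Tr.l (nat_lit 0x27ffe4fffc9fff93fff27ffe4fffc9fff93fff27ffe4fffc9fff93fff27ffe4fffc9fff93fff27ffe4fffc9fff8488227ffe4fffc9fff93fff27ffe4fffc9fff93fff27ffe4fffc9fff93fff27ffe4fffc9fff93fff27ffe4fffc9fff93fff27ffe4fffc9fff93fff10a922111c42231874d28e984fffc24280484f108882110c23298c64808aa41154441a10454b08a941111440a004241))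
 (Tr.l (nat_lit 0x27ffe4fffc9fff9e2834b7084fffc9fffa0b7d27ffe4fffc664285c8b0c71821db0efc313fff)))
noncomputable def t5 : Tr := (Tr.n (Tr.l (nat_lit 0x3fffe7fffdca3e9ffff3fffeb49b0ffffb49783fffe441c4c9391ffff21cdc54dd4a8bb1ffff3fffe53dccffff9537a320c67fffd432c9ffff322b89557486311ffff2a2d653595872facc5e29ec253580ab331526750a9c7fffca3b49ffff3fffe7fffc652a14b551169622544a529187504909e5196cffff9ffff298a62192904a21ffff30e8c5211c42a294a4920a863110841a084140))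
 (Tr.l (nat_lit 0x3fffe7fffcffffa1c8c3fffe7fffcffff9ffff3fffe7fffcffff9ffff3fffe7fffcffff9ffff)))
noncomputable def t6 : Tr := (Tr.n (Tr.l (nat_lit 0x1931c7fffd6e411ffff3fffe7fffcffff9ffff28cc27fffca3301ffff3fffe445b86ab81465e1a4e27fffcffff8c88328cb67fffd4a339ffff28caa35da4ffff9465449eb27fffcffff9ffff18ee47fffca2a70d0623fffe31da8ffff9ffff40eac3315c63b30c7633fffe7fffcffff944452149431970a222107493fffe7fffcffff98648286844190c62a78c54c1948e3111841a084140))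
 (Tr.l (nat_lit 0x3fffe7fffdd2479ffff3fffe7fffdab3c1ffff28ee87fffcc4bf1ffff3fffec25f4ffff9ffff)))
noncomputable def t7 : Tr := (Tr.n (Tr.l (nat_lit 0x27ffe12a149fff93fff27ffe4fffd48b513fff27ffe4fffd0bbb0488727ffe2197d28b78d47110cbc149c89fff93fff27ffe219690b3313fff0aad2219549fff8d35910ca873d7023bb8477527ffe11dc069310854e08ed64fffc283193fff316ac4fffc23b38476428ea24fffc9fff8c74a1088a119749fff8844427ffe4fffc2426047481928620d0822a80454d08e8c1111c222084240))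
 (Tr.l (nat_lit 0x27ffe221fc9fff93fff6151436a2c9fffae08127ffe4fffc9fff93fff10ed8175f49fff93fff)))
noncomputable def t8 : Tr := (Tr.n (Tr.l (nat_lit 0xfffe1fffc3fff87fff0ffff599b03fff87fff0fffe1fffc3fff87fff0fffe1fffc3fff87fff0fffe1fffc3fff87fff0fffe1fffc3fff87fff0fffe1fffc3fff87fffa4eb81fffc3fff87fff0fffe1fffc3fff87fff0fffe1fffc3fff88e540fffe1fffc3fffce84e0fffe1fffc3fff87fff0fffe1fffc3fff87fff0ffff2a5143fffc6b410fffe1fffc3fff87fff854841fffdf62007fff))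
 (Tr.l (nat_lit 0xfffe1fffc3fff87fff1cb021fffc3fff87fff0fffe1fffc3fff87fff0fffe1fffc3fff87fff)))
noncomputable def t9 : Tr := (Tr.n (Tr.l (nat_lit 0x2222223261631716712267526716712222675310222244467267443267431240))
 (Tr.l (nat_lit 0x2733322262227432)))
noncomputable def t10 : Tr := (Tr.n (Tr.l (nat_lit 0x22c37a098c754090c24a11204))
 (Tr.l (nat_lit 0)))
noncomputable def tab0 : Tr := t0
noncomputable def tab1 : Tr := t1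
noncomputable def tab2 : Tr := t2
noncomputable def tab3 : Tr := t3
noncomputable def tab4 : Tr := t4
noncomputable def tab5 : Tr := t5
noncomputable def tab6 : Tr := t6
noncomputable def tab7 : Tr := t7
noncomputable def tab8 : Tr := t8
noncomputable def tab9 : Tr := t9
noncomputable def tab10 : Tr := (Tr.l (nat_lit 0))
noncomputable def tab11 : Tr := (Tr.l (nat_lit 0))
noncomputable def tab12 : Tr := (Tr.l (nat_lit 0))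
noncomputable def tab13 : Tr := (Tr.l (nat_lit 0))
noncomputable def tab14 : Tr := (Tr.l (nat_lit 0))
noncomputable def tab15 : Tr := (Tr.l (nat_lit 0))
noncomputable def tab16 : Tr := (Tr.l (nat_lit 0))
noncomputable def tab17 : Tr := (Tr.l (nat_lit 0))
noncomputable def tab18 : Tr := t10
noncomputable def ty0 : TT := (TT.n (TT.n (TT.n (TT.n (TT.l (Ty.ssub [] []))
 (TT.l (Ty.rel3 (nat_lit 1) (nat_lit 7) (nat_lit 7))))
 (TT.n (TT.l (Ty.rel3 (nat_lit 3) (nat_lit 0) (nat_lit 3)))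
 (TT.l (Ty.relL (nat_lit 2) [nat_lit 1, nat_lit 2, nat_lit 1, nat_lit 2, nat_lit 1, nat_lit 2, nat_lit 1]))))
 (TT.n (TT.n (TT.l (Ty.relL (nat_lit 5) [nat_lit 2, nat_lit 5, nat_lit 2, nat_lit 5, nat_lit 2, nat_lit 5, nat_lit 2]))
 (TT.l (Ty.relL (nat_lit 2) [nat_lit 5, nat_lit 2, nat_lit 5, nat_lit 2, nat_lit 5, nat_lit 2, nat_lit 5])))
 (TT.l (Ty.rel1 (nat_lit 0)))))
 (TT.n (TT.n (TT.n (TT.l (Ty.skip))
 (TT.l (Ty.dfn)))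
 (TT.l (Ty.rel3 (nat_lit 4) (nat_lit 1) (nat_lit 4))))
 (TT.n (TT.n (TT.l (Ty.rel3 (nat_lit 7) (nat_lit 0) (nat_lit 6)))
 (TT.l (Ty.srel [nat_lit 7, nat_lit 0, nat_lit 6])))
 (TT.l (Ty.rel3 (nat_lit 6) (nat_lit 0) (nat_lit 7))))))
noncomputable def ty1 : TT := (TT.n (TT.n (TT.n (TT.n (TT.l (Ty.ssub [] []))
 (TT.l (Ty.rel3 (nat_lit 7) (nat_lit 1) (nat_lit 6))))
 (TT.n (TT.l (Ty.skip))
 (TT.l (Ty.relL (nat_lit 2) [nat_lit 1, nat_lit 0, nat_lit 2, nat_lit 1, nat_lit 2, nat_lit 1, nat_lit 2]))))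
 (TT.n (TT.n (TT.l (Ty.rel1 (nat_lit 1)))
 (TT.l (Ty.rel3 (nat_lit 7) (nat_lit 7) (nat_lit 0))))
 (TT.l (Ty.rel3 (nat_lit 3) (nat_lit 1) (nat_lit 3)))))
 (TT.n (TT.n (TT.n (TT.l (Ty.rel3 (nat_lit 4) (nat_lit 0) (nat_lit 4)))
 (TT.l (Ty.relL (nat_lit 2) [nat_lit 6, nat_lit 2, nat_lit 5, nat_lit 1, nat_lit 2, nat_lit 7, nat_lit 2])))
 (TT.n (TT.l (Ty.relL (nat_lit 2) [nat_lit 1, nat_lit 2, nat_lit 1, nat_lit 2, nat_lit 1, nat_lit 0, nat_lit 2]))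
 (TT.l (Ty.relL (nat_lit 2) [nat_lit 5, nat_lit 2, nat_lit 1, nat_lit 2, nat_lit 5, nat_lit 2]))))
 (TT.n (TT.n (TT.l (Ty.dfn))
 (TT.l (Ty.rel3 (nat_lit 5) (nat_lit 1) (nat_lit 5))))
 (TT.l (Ty.rel3 (nat_lit 6) (nat_lit 1) (nat_lit 7))))))
noncomputable def ty2 : TT := (TT.n (TT.n (TT.n (TT.l (Ty.ssub [] []))
 (TT.l (Ty.skip)))
 (TT.n (TT.l (Ty.dfn))
 (TT.l (Ty.relL (nat_lit 3) [nat_lit 7, nat_lit 2, nat_lit 6, nat_lit 2, nat_lit 3, nat_lit 7, nat_lit 2, nat_lit 6]))))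
 (TT.n (TT.n (TT.l (Ty.rel1 (nat_lit 2)))
 (TT.l (Ty.relL (nat_lit 5) [nat_lit 2, nat_lit 5, nat_lit 2, nat_lit 0, nat_lit 5, nat_lit 2, nat_lit 5])))
 (TT.l (Ty.rel5 (nat_lit 3) (nat_lit 2) (nat_lit 3) (nat_lit 2) (nat_lit 3)))))
noncomputable def ty3 : TT := (TT.n (TT.n (TT.n (TT.n (TT.l (Ty.ssub [] []))
 (TT.l (Ty.relL (nat_lit 7) [nat_lit 2, nat_lit 6, nat_lit 2, nat_lit 3, nat_lit 7, nat_lit 2, nat_lit 6, nat_lit 2])))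
 (TT.l (Ty.skip)))
 (TT.n (TT.l (Ty.rel1 (nat_lit 3)))
 (TT.l (Ty.rel3 (nat_lit 7) (nat_lit 3) (nat_lit 6)))))
 (TT.n (TT.n (TT.n (TT.l (Ty.rel3 (nat_lit 4) (nat_lit 3) (nat_lit 4)))
 (TT.l (Ty.rel5 (nat_lit 2) (nat_lit 3) (nat_lit 2) (nat_lit 3) (nat_lit 2))))
 (TT.l (Ty.relL (nat_lit 2) [nat_lit 1, nat_lit 2, nat_lit 4, nat_lit 2, nat_lit 5, nat_lit 2, nat_lit 4, nat_lit 2, nat_lit 1, nat_lit 2])))
 (TT.n (TT.l (Ty.dfn))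
 (TT.l (Ty.rel3 (nat_lit 6) (nat_lit 3) (nat_lit 7))))))
noncomputable def ty4 : TT := (TT.n (TT.n (TT.n (TT.n (TT.l (Ty.rel1 (nat_lit 4)))
 (TT.l (Ty.relL (nat_lit 2) [nat_lit 7, nat_lit 2, nat_lit 4, nat_lit 2, nat_lit 6, nat_lit 2, nat_lit 4, nat_lit 5, nat_lit 3, nat_lit 2, nat_lit 7, nat_lit 2, nat_lit 7])))
 (TT.l (Ty.relL (nat_lit 3) [nat_lit 7, nat_lit 4, nat_lit 6])))
 (TT.n (TT.l (Ty.relL (nat_lit 2) [nat_lit 1, nat_lit 2, nat_lit 4, nat_lit 2, nat_lit 1, nat_lit 2, nat_lit 4, nat_lit 2, nat_lit 1, nat_lit 2]))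
 (TT.l (Ty.rel3 (nat_lit 3) (nat_lit 4) (nat_lit 3)))))
 (TT.n (TT.n (TT.l (Ty.dfn))
 (TT.l (Ty.relL (nat_lit 6) [nat_lit 4, nat_lit 3, nat_lit 7])))
 (TT.n (TT.l (Ty.skip))
 (TT.l (Ty.relL (nat_lit 2) [nat_lit 6, nat_lit 2, nat_lit 4, nat_lit 5, nat_lit 3, nat_lit 2, nat_lit 7, nat_lit 2, nat_lit 7, nat_lit 4, nat_lit 2, nat_lit 7, nat_lit 2])))))
noncomputable def ty5 : TT := (TT.n (TT.n (TT.n (TT.n (TT.l (Ty.ssub [] []))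
 (TT.l (Ty.relL (nat_lit 1) [nat_lit 7, nat_lit 5, nat_lit 6])))
 (TT.n (TT.l (Ty.rel1 (nat_lit 5)))
 (TT.l (Ty.relL (nat_lit 2) [nat_lit 1, nat_lit 2, nat_lit 5, nat_lit 2, nat_lit 1, nat_lit 2]))))
 (TT.n (TT.n (TT.l (Ty.relL (nat_lit 2) [nat_lit 4, nat_lit 2, nat_lit 1, nat_lit 2, nat_lit 3, nat_lit 2, nat_lit 1, nat_lit 2, nat_lit 4, nat_lit 2]))
 (TT.l (Ty.relL (nat_lit 2) [nat_lit 6, nat_lit 2, nat_lit 5, nat_lit 2, nat_lit 0, nat_lit 7, nat_lit 2])))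
 (TT.l (Ty.skip))))
 (TT.n (TT.n (TT.n (TT.l (Ty.rel3 (nat_lit 4) (nat_lit 5) (nat_lit 4)))
 (TT.l (Ty.dfn)))
 (TT.n (TT.l (Ty.relL (nat_lit 6) [nat_lit 5, nat_lit 1, nat_lit 7]))
 (TT.l (Ty.relL (nat_lit 2) [nat_lit 5, nat_lit 2, nat_lit 5, nat_lit 2, nat_lit 0, nat_lit 5, nat_lit 2]))))
 (TT.n (TT.n (TT.l (Ty.rel3 (nat_lit 1) (nat_lit 5) (nat_lit 1)))
 (TT.l (Ty.relL (nat_lit 2) [nat_lit 0, nat_lit 5, nat_lit 2, nat_lit 5, nat_lit 2, nat_lit 5, nat_lit 2])))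
 (TT.l (Ty.rel5 (nat_lit 3) (nat_lit 5) (nat_lit 1) (nat_lit 0) (nat_lit 3))))))
noncomputable def ty6 : TT := (TT.n (TT.n (TT.n (TT.n (TT.l (Ty.ssub [] []))
 (TT.l (Ty.srel [nat_lit 1, nat_lit 0, nat_lit 6])))
 (TT.n (TT.l (Ty.dfn))
 (TT.l (Ty.relL (nat_lit 2) [nat_lit 5, nat_lit 2, nat_lit 0, nat_lit 7, nat_lit 2, nat_lit 5, nat_lit 2]))))
 (TT.n (TT.n (TT.l (Ty.rel1 (nat_lit 7)))
 (TT.l (Ty.rel3 (nat_lit 6) (nat_lit 1) (nat_lit 0))))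
 (TT.l (Ty.skip))))
 (TT.n (TT.n (TT.n (TT.l (Ty.relL (nat_lit 4) [nat_lit 3, nat_lit 7, nat_lit 4]))
 (TT.l (Ty.relL (nat_lit 5) [nat_lit 1, nat_lit 7, nat_lit 5])))
 (TT.n (TT.l (Ty.relL (nat_lit 2) [nat_lit 5, nat_lit 1, nat_lit 2, nat_lit 7, nat_lit 2, nat_lit 1, nat_lit 2]))
 (TT.l (Ty.rel3 (nat_lit 3) (nat_lit 7) (nat_lit 3)))))
 (TT.n (TT.n (TT.l (Ty.rel3 (nat_lit 1) (nat_lit 0) (nat_lit 6)))
 (TT.l (Ty.relL (nat_lit 2) [nat_lit 6, nat_lit 2, nat_lit 3, nat_lit 5, nat_lit 4, nat_lit 2, nat_lit 7, nat_lit 2, nat_lit 4, nat_lit 2, nat_lit 6, nat_lit 2, nat_lit 4])))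
 (TT.l (Ty.relL (nat_lit 2) [nat_lit 3, nat_lit 7, nat_lit 2, nat_lit 6, nat_lit 2, nat_lit 3, nat_lit 7, nat_lit 2])))))
noncomputable def ty7 : TT := (TT.n (TT.n (TT.n (TT.n (TT.l (Ty.rel1 (nat_lit 6)))
 (TT.l (Ty.rel3 (nat_lit 7) (nat_lit 0) (nat_lit 1))))
 (TT.l (Ty.relL (nat_lit 4) [nat_lit 6, nat_lit 3, nat_lit 4])))
 (TT.n (TT.n (TT.l (Ty.rel3 (nat_lit 0) (nat_lit 1) (nat_lit 7)))
 (TT.l (Ty.relL (nat_lit 4) [nat_lit 2, nat_lit 7, nat_lit 2, nat_lit 4, nat_lit 2, nat_lit 6, nat_lit 2, nat_lit 4, nat_lit 5, nat_lit 3, nat_lit 2, nat_lit 7, nat_lit 2])))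
 (TT.l (Ty.srel [nat_lit 7, nat_lit 0, nat_lit 1]))))
 (TT.n (TT.n (TT.n (TT.l (Ty.dfn))
 (TT.l (Ty.rel3 (nat_lit 3) (nat_lit 6) (nat_lit 3))))
 (TT.l (Ty.relL (nat_lit 2) [nat_lit 6, nat_lit 3, nat_lit 2, nat_lit 7, nat_lit 2, nat_lit 6, nat_lit 3, nat_lit 2])))
 (TT.n (TT.n (TT.l (Ty.skip))
 (TT.l (Ty.relL (nat_lit 2) [nat_lit 6, nat_lit 2, nat_lit 3, nat_lit 7, nat_lit 2, nat_lit 6, nat_lit 2, nat_lit 3])))
 (TT.l (Ty.relL (nat_lit 5) [nat_lit 6, nat_lit 1, nat_lit 5])))))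
noncomputable def ty8 : TT := (TT.n (TT.n (TT.l (Ty.skip))
 (TT.l (Ty.relL (nat_lit 2) [nat_lit 6, nat_lit 2, nat_lit 4, nat_lit 5, nat_lit 3, nat_lit 2, nat_lit 7, nat_lit 2, nat_lit 7, nat_lit 4, nat_lit 2, nat_lit 7, nat_lit 2, nat_lit 4])))
 (TT.l (Ty.relL (nat_lit 5) [nat_lit 2, nat_lit 5, nat_lit 2, nat_lit 5, nat_lit 2, nat_lit 5, nat_lit 2, nat_lit 0])))
noncomputable def C : Cert where
  tabs := [tab0, tab1, tab2, tab3, tab4, tab5, tab6, tab7, tab8, tab9, tab10, tab11, tab12, tab13, tab14, tab15, tab16, tab17, tab18]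
  tts := [ty0, ty1, ty2, ty3, ty4, ty5, ty6, ty7, ty8]
  k := nat_lit 6
  base := nat_lit 14
  mJ := nat_lit 192
  mR := nat_lit 63
  W := nat_lit 19
  mA := nat_lit 16383
  mI := nat_lit 255
  S := nat_lit 14
  mC := nat_lit 31
  nc := nat_lit 8
  lo := nat_lit 64
  live := nat_lit 65
  hi1 := nat_lit 143
  AW := nat_lit 14
  mAW := nat_lit 16383
def il : List ℕ := [0, 1, 2, 3, 4, 5, 7, 6]
def rels : List (List ℕ) := [[0, 3, 0, 3],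
  [0, 2, 1, 2, 1, 2, 1, 2, 1],
  [1, 3, 1, 3],
  [2, 3, 2, 3, 2, 3],
  [0, 5, 0, 5],
  [1, 5, 1, 5],
  [2, 1, 2, 5, 2, 1, 2, 5],
  [5, 2, 5, 2, 5, 2, 5, 2, 0],
  [3, 5, 3, 5, 1, 0],
  [4, 0, 4, 1],
  [4, 3, 4, 3],
  [4, 5, 4, 5],
  [4, 2, 1, 2, 4, 2, 1, 2, 4, 2, 1, 2],
  [4, 2, 5, 2, 4, 2, 1, 2, 3, 2, 1, 2],
  [4, 2, 4, 2, 4, 2, 4, 2, 4, 2, 4, 2, 4, 2, 4, 2],
  [6, 6, 1, 0],
  [7, 0, 6, 0],
  [7, 1, 6, 1],
  [7, 3, 6, 3],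
  [2, 3, 7, 2, 6, 2, 3, 7, 2, 6],
  [7, 4, 6, 4, 3],
  [7, 5, 6, 5, 1],
  [7, 2, 5, 2, 6, 2, 5, 2, 0],
  [7, 2, 1, 2, 6, 2, 5, 1, 2],
  [4, 2, 7, 2, 4, 2, 6, 2, 4, 5, 3, 2, 7, 2, 7]]
def subs : List (List ℕ) := [[0],
  [1],
  [2],
  [3],
  [5],
  [6]]
theorem valid : C.valid il rels subs = true := by decide +kernel
theorem p0 : C.OkR 64 144 := C.okR_of 64 0 80 144 (by decide) (by decide +kernel)
def ws : List (List ℕ) := [[4]]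
theorem words {G : Type*} [Group G] (ev : ℕ → G) (H : Subgroup G)
    (hinv : ∀ x < 8, ev (il.getD x 0) = (ev x)⁻¹) (hr : ∀ r ∈ rels, evw ev r = 1)
    (hs : ∀ s ∈ subs, evw ev s ∈ H) : ∀ w ∈ ws, evw ev w ∈ H :=
  C.words' il rels subs 8 ws valid (p0) (by decide) (by decide +kernel) ev H hinv hr hs
end CfH3.ThTcV6
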